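import Cfsg.Agent.SuzThree.QZero
import Cfsg.Agent.KFacts.Orbits
import Cfsg.Agent.KFacts.LargeAut
set_option linter.all false

-- part: KFacts/SuzSheet
section
-- merged: Cfsg.Agent.KFacts.SuzCent
section

/-!
The centraliser of the involution `a` in the presented Suzuki group has order 3317760 = 2^13 3^4 5 and is generated
by five words.
-/

set_option autoImplicit false
set_option maxRecDepth 100000
set_option exponentiation.threshold 4000

namespace Cfsg.Agent.KFacts.SuzCent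

open Cfsg.Spor Cfsg.Agent.Lib.PermNet Cfsg.Agent.Lib.PermNetOrbit Cfsg.Agent.SporadicRecognition.SuzPhi
  Cfsg.Agent.SporadicRecognition.SuzBound Cfsg.Agent.SporadicRecognition.SuzOrder
  Cfsg.Agent.SuzThree.Nets Cfsg.Agent.SuzThree.Basic Cfsg.Agent.SuzThree.Elts
  Cfsg.Agent.SuzThree.Elementary Cfsg.Agent.SuzThree.CentA Cfsg.Agent.SuzThree.CentB

theorem card_stab2_le : Nat.card (stabL φ [1575, 0]) ≤ 604800 := by
  have h7 := step7
  have h6 := step6
  have h0 : Nat.card (stabL φ []) ≤ Nat.card Suz :=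
    Nat.card_le_card_of_injective _ (Subtype.val_injective)
  rw [card_Suz] at h0
  omega

theorem card_stab2 : Nat.card (stabL φ [1575, 0]) = 604800 := by
  have h5 := step5
  have h3 := card_stab3_eq
  have h2 := card_stab2_le
  omega

/-- orbit of 1 under the stabiliser of 0 and 1575 -/
noncomputable def U3 : ℕ := sat SporadicRecognition.SuzOrder.ws5 12 (Nat.pow 2 1)
/-- orbit of 16 under the stabiliser of 0, 1575 and 1 -/
noncomputable def O10 : ℕ := sat (gc.map wd) 12 (Nat.pow 2 16)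

theorem pcU3 : Nat.beq (pc 11 U3) 315 = true := by decide +kernel
theorem ltU3 : Nat.beq (Nat.shiftRight U3 (Nat.pow 2 11)) 0 = true := by decide +kernel
theorem pcO : Nat.beq (pc 11 (Nat.lor 2 O10)) 11 = true := by decide +kernel
theorem ltO : Nat.beq (Nat.shiftRight (Nat.lor 2 O10) (Nat.pow 2 11)) 0 = true := by decide +kernel
theorem chkO : Nat.beq (Nat.land F U3) (Nat.lor 2 O10) = true := by decide +kernel

theorem cardU3 : (bits (2 ^ 11) U3).card = 315 := by
  rw [← pc_eq 11 U3 (lt_of_chk ltU3)]; exact Nat.eq_of_beq_eq_true pcU3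

theorem cardO : (bits (2 ^ 11) (2 ||| O10)).card = 11 := by
  rw [← pc_eq 11 (2 ||| O10) (lt_of_chk ltO)]; exact Nat.eq_of_beq_eq_true pcO

theorem mem_U3 {g : Suz} (hg : g ∈ stabL φ [1575, 0]) : U3.testBit (φ g 1) = true := by
  by_contra hc
  have hT : ∀ t ∈ insert (φ g 1) (bits (2 ^ 11) U3), ∃ h ∈ stabL φ [1575, 0], φ h 1 = t := by
    intro t ht
    rcases Finset.mem_insert.1 ht with rfl | ht
    · exact ⟨g, hg, rfl⟩
    · obtain ⟨h, ⟨x, hx, rfl⟩, hh⟩ := sat_point_spec (K := (stabL φ [1575, 0]).map φ) (wsok SporadicRecognition.SuzOrder.ws5_wd)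
        (fun w hw => by
          obtain ⟨u, rfl⟩ := SporadicRecognition.SuzOrder.ws5_wd w hw
          refine ⟨el u, ?_, φ_el u⟩
          intro q hq
          rw [φ_el]
          have h : fixAllB SporadicRecognition.SuzOrder.ws5 [1575, 0] = true := by decide +kernel
          exact fixAllB_spec (wsok SporadicRecognition.SuzOrder.ws5_wd) h q hq _ hw) 12 (mem_bits.1 ht).2
      exact ⟨x, hx, hh⟩
  have h1 := stabL_step φ [1575, 0] 1 _ hT
  rw [Finset.card_insert_of_notMem (fun h => hc (mem_bits.1 h).2), cardU3, card_stab3_eq,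
    card_stab2] at h1
  omega

theorem z0_fix2 : φ z0 1 = 1 := (Rep.el [.a]).pt (by decide +kernel)

theorem mem_FU {g : Suz} (hg : g ∈ stabL φ [1575, 0]) (hc : g ∈ C1) :
    (2 ||| O10).testBit (φ g 1) = true := by
  have h1 := mem_U3 hg
  have h2 : F.testBit (φ g 1) = true :=
    mem_F_of_fix (φ_lt 1 (by norm_num)) (fix_of_C1 hc z0_fix2)
  have h3 : F &&& U3 = 2 ||| O10 := Nat.eq_of_beq_eq_true chkO
  rw [← h3, Nat.testBit_and, h1, h2]; rfl

/-- the stabiliser of 0 and 1575 in the centraliser, mapped to the whole group -/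
theorem card_map_stab (qs : List ℕ) :
    Nat.card (stabL (φS C1) qs) = Nat.card (stabL φ qs ⊓ C1 : Subgroup Suz) := by
  have h : (stabL φ qs).subgroupOf C1 = stabL (φS C1) qs := by
    ext g; rfl
  rw [← h, ← Nat.card_congr (Subgroup.subgroupOfEquivOfLe (inf_le_right :
    stabL φ qs ⊓ C1 ≤ C1)).toEquiv]
  congr 2
  ext g
  simp [Subgroup.mem_subgroupOf]

theorem card_stabS3 : Nat.card (stabL (φS C1) [1, 1575, 0]) = 1920 := by
  rw [card_map_stab, inf_eq_left.2 stab3_le, card_stab3_eq]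

theorem fix_one {g : Suz} (hg : g ∈ stabL φ [1575, 0]) (hc : g ∈ C1) : φ g 1 = 1 := by
  by_contra hne
  -- the orbit of 1 has 11 points
  have hO : ∀ t, O10.testBit t = true → ∃ h ∈ stabL φ [1, 1575, 0], φ h 16 = t := by
    intro t ht
    obtain ⟨h, ⟨x, hx, rfl⟩, hh⟩ := sat_point_spec (K := (cl gc).map φ) (wsokS gc)
      (fun w hw => by
        obtain ⟨u, hu, rfl⟩ := List.mem_map.1 hw
        exact ⟨el u, el_mem_cl hu, φ_el u⟩) 12 ht
    exact ⟨x, gc_le hx, hh⟩
  have hg1 : O10.testBit (φ g 1) = true := by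
    have := mem_FU hg hc
    rw [Nat.testBit_or, Bool.or_eq_true] at this
    rcases this with h | h
    · exfalso
      apply hne
      by_contra hne'
      have : (2 : ℕ).testBit (φ g 1) = decide (1 = φ g 1) := by
        rw [show (2 : ℕ) = 2 ^ 1 by norm_num, Nat.testBit_two_pow]
      rw [this, decide_eq_true_eq] at h
      exact hne' h.symm
    · exact h
  obtain ⟨k, hk, hk16⟩ := hO _ hg1
  have hall : ∀ t ∈ bits (2 ^ 11) (2 ||| O10), ∃ h ∈ stabL (φS C1) [1575, 0], φS C1 h 1 = t := by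
    intro t ht
    have h1 := (mem_bits.1 ht).2
    rw [Nat.testBit_or, Bool.or_eq_true] at h1
    rcases h1 with h1 | h1
    · have h2 : (2 : ℕ).testBit t = decide (1 = t) := by
        rw [show (2 : ℕ) = 2 ^ 1 by norm_num, Nat.testBit_two_pow]
      rw [h2, decide_eq_true_eq] at h1
      subst h1
      refine ⟨1, Subgroup.one_mem _, ?_⟩
      show φ (1 : Suz) 1 = 1
      rw [map_one φ]; rfl
    · obtain ⟨l, hl, hl16⟩ := hO _ h1
      have hkC := stab3_le hk
      have hlC := stab3_le hl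
      refine ⟨⟨l * k⁻¹ * g, C1.mul_mem (C1.mul_mem hlC (C1.inv_mem hkC)) hc⟩, ?_, ?_⟩
      · intro q hq
        have hq' : q ∈ [1, 1575, 0] := List.mem_cons_of_mem _ hq
        show φ (l * k⁻¹ * g) q = q
        rw [map_mul, map_mul, map_inv, Equiv.Perm.mul_apply, Equiv.Perm.mul_apply, hg q hq,
          Equiv.Perm.inv_eq_iff_eq.2 (hk q hq').symm, hl q hq']
      · show φ (l * k⁻¹ * g) 1 = t
        rw [map_mul, map_mul, map_inv, Equiv.Perm.mul_apply, Equiv.Perm.mul_apply,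
          Equiv.Perm.inv_eq_iff_eq.2 hk16.symm, hl16]
  have h1 := card_stabL_eq (φS C1) [1575, 0] 1 _ hall (by
    intro h hh
    rw [mem_bits]
    have h2 : φ h 1 < 1782 := φ_lt 1 (by norm_num)
    exact ⟨lt_of_lt_of_le h2 (by norm_num), mem_FU hh h.2⟩)
  rw [cardO, card_stabS3, card_map_stab] at h1
  have h2 : Nat.card (stabL φ [1575, 0] ⊓ C1 : Subgroup Suz) ∣ Nat.card (stabL φ [1575, 0]) :=
    Subgroup.card_dvd_of_le inf_le_left
  rw [h1, card_stab2] at h2
  revert h2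
  decide

/-- **The order of the centraliser.** -/
theorem card_C1 : Nat.card C1 = 3317760 := by
  have h0 : Nat.card (stabL (φS C1) []) = Nat.card C1 := by
    have : stabL (φS C1) [] = ⊤ := by
      rw [eq_top_iff]; intro g _ q hq; exact absurd hq (by simp)
    rw [this, Subgroup.card_top]
  have h1 : Nat.card (stabL (φS C1) [1575, 0]) = 1920 := by
    rw [← card_stabS3]
    congr 2
    apply le_antisymm
    · intro g hg q hq
      rcases List.mem_cons.1 hq with rfl | hq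
      · exact fix_one hg g.2
      · exact hg q hq
    · intro g hg q hq
      exact hg q (List.mem_cons_of_mem _ hq)
  rw [← h0, card_C1_0, card_C1_1, h1]

theorem cl_ga : cl ga = C1 := cl_ga_eq card_C1

end Cfsg.Agent.KFacts.SuzCent

end

-- merged: Cfsg.Agent.KFacts.SuzR
section

/-!
# Facts on the centraliser `P` of the 2-central involution `z` of the Suzuki group

`P = C_K(z)` is perfect of order `2^13 3^4 5`; `R = Q0` is extraspecial of order `2^7`, normal in `P`, `C_K(R) = ⟨z⟩`,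
and the `P`-invariant subgroups of `R` are the subgroups of `⟨z⟩` and `R`.
-/

set_option autoImplicit false
set_option maxRecDepth 100000
set_option exponentiation.threshold 4000

namespace Cfsg.Agent.KFacts.SuzR

open Cfsg.Spor Cfsg.Agent.Lib.PermNet Cfsg.Agent.Lib.PermNetOrbit Cfsg.Agent.SporadicRecognition.SuzPhi
  Cfsg.Agent.SporadicRecognition.SuzBound Cfsg.Agent.SporadicRecognition.SuzOrder
  Cfsg.Agent.SuzThree.Nets Cfsg.Agent.SuzThree.Basic Cfsg.Agent.SuzThree.Elts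
  Cfsg.Agent.SuzThree.Elementary Cfsg.Agent.SuzThree.CentA Cfsg.Agent.SuzThree.CentB
  Cfsg.Agent.SuzThree.QZero Cfsg.Agent.KFacts.SuzCent Cfsg.Agent.LargeExtra.Model
  Cfsg.Agent.LargeExtra.Pres Cfsg.Agent.KFacts.Codes Cfsg.Agent.KFacts.Orbits

/-- the index of a generator -/
def qi : Qx → ℕ
  | .k1 => 0
  | .k2 => 1
  | .k3 => 2
  | .k4 => 3
  | .k5 => 4
  | .k6 => 5

/-- the generators of `R` -/
noncomputable def xx : ℕ → Suz
  | 0 => q .k1
  | 1 => q .k2
  | 2 => q .k3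
  | 3 => q .k4
  | 4 => q .k5
  | 5 => q .k6
  | _ => 1

theorem xx_qi (i : Qx) : xx (qi i) = q i := by cases i <;> rfl

/-- the relation matrix -/
def BB : ℕ → ℕ
  | 1 => 1
  | 2 => 3
  | 4 => 8
  | 5 => 7
  | _ => 0

theorem tri : Tri BB 6 := by decide +kernel

theorem nondeg : Nondeg BB 6 := by decide +kernel

theorem q_comm' (i j : Qx) : q i * q j = zp z0 (!cm i j) * (q j * q i) := by
  have h : allL (fun i => allL (fun j => cond (cm i j) (checkEq 11 (qn i ++ qn j) (qn j ++ qn i))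
      (checkEq 11 (qn i ++ qn j) (wd [.a] ++ (qn j ++ qn i)))) ql) ql = true := by decide +kernel
  have h1 := allL_spec (allL_spec h i (mem_ql i)) j (mem_ql j)
  cases hc : cm i j
  · rw [hc] at h1
    exact eq_of_reps ((rep_q i).mul (rep_q j)) (rep_z.mul ((rep_q j).mul (rep_q i))) h1
  · rw [hc] at h1
    show q i * q j = zp z0 false * (q j * q i)
    rw [zp, if_neg (by decide), one_mul]
    exact eq_of_reps ((rep_q i).mul (rep_q j)) ((rep_q j).mul (rep_q i)) h1

/-- the index as a constructor -/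
def iq : ℕ → Qx
  | 0 => .k1
  | 1 => .k2
  | 2 => .k3
  | 3 => .k4
  | 4 => .k5
  | _ => .k6

theorem xx_iq {i : ℕ} (hi : i < 6) : xx i = q (iq i) := by
  interval_cases i <;> rfl

theorem cm_eq : ∀ i < 6, ∀ j < i, (!cm (iq i) (iq j)) = (BB i).testBit j := by decide +kernel

theorem rels : Rels BB 6 z0 xx where
  zz := z_sq
  comm i hi := by
    rw [xx_iq hi]
    exact mem_C1.1 (q_mem_C1 _)
  sq i hi := by
    rw [xx_iq hi, q_sq]
    have : (BB i).testBit i = false := by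
      revert i; decide +kernel
    rw [this]; rfl
  cm i hi j hj := by
    rw [xx_iq hi, xx_iq (by omega : j < 6), q_comm', cm_eq i hi j hj]

/-- element by code -/
noncomputable abbrev C (c : ℕ) : Suz := cod 6 z0 xx c

/-- code of a product of generators -/
def lc : List (Option Qx) → ℕ
  | [] => 0
  | none :: l => mulc BB 6 64 (lc l)
  | some i :: l => mulc BB 6 (2 ^ qi i) (lc l)

theorem qp_eq (l : List (Option Qx)) : qp l = C (lc l) := by
  induction l with
  | nil => exact cod_zero.symm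
  | cons a l ih =>
    cases a with
    | none =>
      show z0 * qp l = C (mulc BB 6 64 (lc l))
      rw [ih, C, C, ← cod_mul rels tri]
      congr 1
    | some i =>
      show q i * qp l = C (mulc BB 6 (2 ^ qi i) (lc l))
      rw [ih, C, C, ← cod_mul rels tri]
      congr 1
      rw [cod_pow (by cases i <;> decide), xx_qi]

/-- the generators of `P` -/
noncomputable def gg : ℕ → Suz
  | 0 => el [.d]
  | 1 => el [.e]
  | 2 => el h1
  | 3 => el h2
  | 4 => el h3
  | _ => 1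

/-- their images -/
def II : ℕ → List ℕ
  | 0 => [2, 1, 4, 8, 16, 39]
  | 1 => [1, 4, 2, 8, 16, 39]
  | 2 => [1, 74, 76, 8, 81, 104]
  | 3 => [1, 82, 84, 73, 16, 112]
  | 4 => [65, 66, 96, 8, 16, 39]
  | _ => [1, 2, 4, 8, 16, 32]

/-- the action on codes -/
def AA (k c : ℕ) : ℕ := act BB 6 (img (II k)) c

theorem conj_gen {w : List Suz.Gen} {im : Qx → List (Option Qx)} {l : List ℕ}
    (h : allL (fun i => checkEq 11 (wd w ++ qn i) (qpn (im i) ++ wd w)) ql = true)
    (hl : ∀ i < 6, lc (im (iq i)) = img l i) (i : ℕ) (hi : i < 6) :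
    el w * xx i * (el w)⁻¹ = C (img l i) := by
  rw [xx_iq hi, ← hl i hi, ← qp_eq]
  have h1 : el w * q (iq i) = qp (im (iq i)) * el w :=
    eq_of_reps ((Rep.el w).mul (rep_q (iq i))) ((rep_qp _).mul (Rep.el w))
      (allL_spec h (iq i) (mem_ql (iq i)))
  rw [h1, mul_inv_cancel_right]

theorem gg_mem (k : ℕ) : gg k ∈ C1 := by
  unfold gg
  split
  · exact d_mem
  · exact e_mem
  · exact h1_mem
  · exact h2_mem
  · exact h3_mem
  · exact C1.one_mem

theorem conj_gg (k : ℕ) : ∀ i < 6, gg k * xx i * (gg k)⁻¹ = C (img (II k) i) := by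
  match k with
  | 0 => exact conj_gen (im := im0) (by decide +kernel) (by decide +kernel)
  | 1 => exact conj_gen (im := im1) (by decide +kernel) (by decide +kernel)
  | 2 => exact conj_gen (im := im2) (by decide +kernel) (by decide +kernel)
  | 3 => exact conj_gen (im := im3) (by decide +kernel) (by decide +kernel)
  | 4 => exact conj_gen (im := im4) (by decide +kernel) (by decide +kernel)
  | k + 5 =>
    intro i hi
    show 1 * xx i * 1⁻¹ = C (img [1, 2, 4, 8, 16, 32] i)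
    have : img [1, 2, 4, 8, 16, 32] i = 2 ^ i := by
      revert i; decide
    rw [this, C, cod_pow hi]; group

theorem conj_AA (k c : ℕ) : gg k * C c * (gg k)⁻¹ = C (AA k c) :=
  conj_cod rels tri (mem_C1.1 (gg_mem k)) (conj_gg k) c

theorem z_ne : z0 ≠ 1 := by
  intro h
  have h1 := card_C1
  have h2 : C1 = ⊤ := by
    rw [eq_top_iff]
    intro g _
    rw [mem_C1, h, mul_one, one_mul]
  rw [h2, Subgroup.card_top, card_Suz] at h1
  revert h1
  decide

theorem Q0_eq : Q0 = RG 6 z0 xx := by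
  apply le_antisymm
  · rw [Q0, Subgroup.closure_le]
    rintro y (rfl | hy)
    · exact Subgroup.subset_closure (Set.mem_insert _ _)
    · obtain ⟨i, _, rfl⟩ := List.mem_map.1 hy
      refine Subgroup.subset_closure (Set.mem_insert_of_mem _ ⟨qi i, by cases i <;> decide, xx_qi i⟩)
  · rw [RG, Subgroup.closure_le]
    rintro y (rfl | ⟨i, hi, rfl⟩)
    · exact z_mem
    · rw [xx_iq hi]; exact q_mem _

/-- stage 0 -/
def L0 : List (List ℕ × List ℕ) :=
  [([0], [2, 1, 4, 8, 16, 39]), ([1], [1, 4, 2, 8, 16, 39]), ([2], [1, 74, 76, 8, 81, 104]), ([3], [1, 82, 84,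
  73, 16, 112]), ([4], [65, 66, 96, 8, 16, 39])]
/-- edges of the orbit of 1 -/
def t0 : List (ℕ × ℕ) :=
  [(0, 1), (4, 1), (1, 2), (2, 2), (3, 2), (4, 2), (2, 4), (3, 4), (4, 4), (0, 74), (3, 74), (4, 74), (0, 82),
  (2, 82), (4, 82), (1, 66), (3, 76), (4, 76), (2, 84), (4, 84), (0, 96), (3, 73), (4, 73), (1, 10), (2, 81),
  (4, 81), (1, 18), (4, 68), (0, 93), (4, 93), (0, 40), (3, 40), (0, 29), (0, 48), (3, 9), (4, 12), (2, 17),
  (4, 20), (0, 32), (2, 94), (4, 94), (0, 121), (1, 121), (4, 121), (0, 57), (2, 30), (4, 30), (0, 104), (0,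
  112), (4, 31), (2, 122), (1, 61), (1, 125)]

/-- stage 1 -/
def L1 : List (List ℕ × List ℕ) :=
  [([1], [1, 4, 2, 8, 16, 39]), ([2], [1, 74, 76, 8, 81, 104]), ([3], [1, 82, 84, 73, 16, 112]), ([4, 4], [1,
  2, 103, 8, 16, 68])]
/-- edges of the orbit of 2 -/
def t1 : List (ℕ × ℕ) :=
  [(0, 2), (1, 2), (2, 2), (1, 4), (2, 4), (3, 4), (2, 74), (1, 82), (2, 76), (3, 76), (1, 84), (3, 84), (0,
  103), (1, 91), (2, 27), (1, 93), (3, 93), (0, 47), (2, 29), (3, 29), (0, 55), (2, 18), (2, 20), (3, 20), (0,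
  62), (3, 12), (0, 126), (3, 68), (0, 119), (0, 111), (0, 39)]

/-- stage 2 -/
def L2 : List (List ℕ × List ℕ) :=
  [([1, 4, 1, 4, 1], [1, 2, 39, 8, 16, 4]), ([2, 0, 2, 1, 0, 2, 0, 1, 0], [1, 2, 4, 8, 95, 104]), ([3, 0, 3,
  1, 0, 3, 0, 1, 0], [1, 2, 4, 31, 16, 112])]
/-- edges of the orbit of 4 -/
def t2 : List (ℕ × ℕ) :=
  [(0, 4), (0, 39), (1, 39), (2, 39), (1, 32), (2, 32), (0, 104), (2, 104), (0, 112), (1, 112), (2, 76), (0,
  47), (1, 47), (1, 84), (0, 55), (2, 91), (1, 40), (1, 27), (0, 96)]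

/-- stage 3 -/
def L3 : List (List ℕ × List ℕ) :=
  [([3, 0, 3, 1, 0, 3, 0, 1, 0], [1, 2, 4, 31, 16, 112]), ([2, 1, 0, 2, 1, 0, 2, 1, 0], [1, 2, 4, 8, 31,
  104])]
/-- edges of the orbit of 8 -/
def t3 : List (ℕ × ℕ) :=
  [(0, 8), (0, 31), (1, 31), (0, 72), (1, 95)]

/-- stage 4 -/
def L4 : List (List ℕ × List ℕ) :=
  [([2, 0, 2, 1, 0, 2, 0, 1, 0], [1, 2, 4, 8, 95, 104])]
/-- edges of the orbit of 16 -/
def t4 : List (ℕ × ℕ) :=
  [(0, 16), (0, 95), (0, 80)]

/-- stage 5 -/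
def L5 : List (List ℕ × List ℕ) :=
  [([4, 0, 1, 4, 1, 4, 1, 0, 4], [1, 2, 4, 8, 16, 96])]
/-- edges of the orbit of 32 -/
def t5 : List (ℕ × ℕ) :=
  [(0, 32)]

/-- edges of the orbit of 3 -/
def t6 : List (ℕ × ℕ) :=
  [(0, 3), (1, 3), (2, 3), (3, 3), (1, 67), (2, 67), (3, 67), (0, 5), (2, 5), (3, 5), (4, 5), (3, 75), (2,
  83), (0, 69), (2, 69), (3, 69), (4, 69), (4, 6), (0, 77), (3, 77), (4, 77), (0, 85), (2, 85), (4, 85), (0,
  33), (1, 33), (4, 33), (0, 90), (0, 26), (4, 70), (0, 13), (4, 13), (0, 21), (4, 21), (0, 97), (1, 34), (3,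
  78), (4, 78), (4, 92), (0, 105), (1, 105), (3, 105), (4, 105), (2, 86), (4, 86), (0, 113), (1, 113), (4,
  113), (1, 101), (2, 89), (2, 25), (1, 98), (3, 14), (4, 14), (0, 41), (2, 22), (4, 22), (0, 49), (1, 37),
  (4, 15), (3, 106), (0, 56), (1, 45), (3, 110), (4, 23), (2, 114), (1, 53), (4, 36), (1, 109), (1, 117), (4,
  100)]

/-- generation from the orbit of 1 -/
def l1 : List (ℕ × ℕ) := [(8, 9), (8, 10), (8, 12), (1, 9), (1, 17), (8, 40), (1, 65)]
/-- generation from the orbit of 3 -/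
def l3 : List (ℕ × ℕ) := [(6, 71), (5, 7), (3, 71), (3, 75), (3, 83), (3, 99), (3, 3)]

theorem ch0 : ChOk BB 6 AA [] 1 54 L0 t0 := by decide +kernel
theorem ch1 : ChOk BB 6 AA [1] 2 32 L1 t1 := by decide +kernel
theorem ch2 : ChOk BB 6 AA [2, 1] 4 20 L2 t2 := by decide +kernel
theorem ch3 : ChOk BB 6 AA [4, 2, 1] 8 6 L3 t3 := by decide +kernel
theorem ch4 : ChOk BB 6 AA [8, 4, 2, 1] 16 4 L4 t4 := by decide +kernel
theorem ch5 : ChOk BB 6 AA [16, 8, 4, 2, 1] 32 2 L5 t5 := by decide +kernel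

theorem C1_comm : ∀ u ∈ C1, u * z0 = z0 * u := fun _ hu => mem_C1.1 hu

theorem card_end : Nat.card (Hs C1 (cod 6 z0 xx) [32, 16, 8, 4, 2, 1]) ≤ 2 := by
  have h0 := chain_le rels tri nondeg z_ne gg_mem C1_comm conj_AA ch0
  have h1 := chain_le rels tri nondeg z_ne gg_mem C1_comm conj_AA ch1
  have h2 := chain_le rels tri nondeg z_ne gg_mem C1_comm conj_AA ch2
  have h3 := chain_le rels tri nondeg z_ne gg_mem C1_comm conj_AA ch3
  have h4 := chain_le rels tri nondeg z_ne gg_mem C1_comm conj_AA ch4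
  have h5 := chain_le rels tri nondeg z_ne gg_mem C1_comm conj_AA ch5
  have h : Nat.card (Hs C1 (cod 6 z0 xx) []) = 3317760 := card_C1
  rw [h] at h0
  omega

/-- a subgroup of order at most 2 containing an element `z ≠ 1` -/
theorem eq_of_card_le_two {G : Type*} [Group G] [Finite G] {H : Subgroup G} (h : Nat.card H ≤ 2)
    {z : G} (hz : z ∈ H) (hz1 : z ≠ 1) {g : G} (hg : g ∈ H) : g = 1 ∨ g = z := by
  classical
  by_contra hc
  push Not at hc
  have hinj : Function.Injective (fun i : Fin 3 => if i = 0 then (1 : H) else if i = 1 then ⟨z, hz⟩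
      else ⟨g, hg⟩) := by
    intro i j hij
    have e : ∀ a b : H, a = b → (a : G) = b := fun a b h => by rw [h]
    fin_cases i <;> fin_cases j <;> simp at hij ⊢
    · exact hz1 (congrArg Subtype.val hij).symm
    · exact hc.1 (congrArg Subtype.val hij).symm
    · exact hz1 hij
    · exact hc.2 hij.symm
    · exact hc.1 hij
    · exact hc.2 hij
  have := Nat.card_le_card_of_injective _ hinj
  rw [Nat.card_eq_fintype_card, Fintype.card_fin] at this
  omega

theorem z_mem_C1 : z0 ∈ C1 := mem_C1.2 rfl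

/-- **The centraliser of `R` in `K`.** -/
theorem centralizer_R {g : Suz} (hg : ∀ y ∈ Q0, y * g = g * y) : g = 1 ∨ g = z0 := by
  have hgC : g ∈ C1 := mem_C1.2 (hg z0 z_mem).symm
  have h1 : C1 ⊓ Subgroup.centralizer (Q0 : Set Suz) ≤ Hs C1 (cod 6 z0 xx) [32, 16, 8, 4, 2, 1] :=
    centralizer_le_Hs fun r _ => by
      rw [Q0_eq]; exact cod_mem r
  have h2 : g ∈ Hs C1 (cod 6 z0 xx) [32, 16, 8, 4, 2, 1] :=
    h1 ⟨hgC, Subgroup.mem_centralizer_iff.2 fun y hy => hg y hy⟩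
  have h3 : z0 ∈ Hs C1 (cod 6 z0 xx) [32, 16, 8, 4, 2, 1] :=
    h1 ⟨z_mem_C1, Subgroup.mem_centralizer_iff.2 fun y hy => mem_C1.1 (Q0_le hy)⟩
  exact eq_of_card_le_two card_end h3 z_ne h2

theorem normal_R {u : Suz} (hu : u ∈ C1) {y : Suz} (hy : y ∈ Q0) : u * y * u⁻¹ ∈ Q0 := by
  rw [← cl_ga] at hu
  exact (Subgroup.mem_normalizer_iff.1 (cl_le_normalizer hu) y).1 hy

theorem card_R : Nat.card Q0 = 2 ^ 7 := by
  rw [Q0_eq]; exact card_RG rels tri nondeg z_ne

theorem R_sq {y : Suz} (hy : y ∈ Q0) : y * y = 1 ∨ y * y = z0 := by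
  rw [Q0_eq] at hy; exact RG_sq rels tri hy

theorem R_comm {y y' : Suz} (hy : y ∈ Q0) (hy' : y' ∈ Q0) :
    y * y' = y' * y ∨ y * y' = z0 * (y' * y) := by
  rw [Q0_eq] at hy hy'; exact RG_comm rels tri hy hy'

theorem gen1 : GenOk BB 6 (run (stf BB 6 L0) t0 (2 ^ 1)) l1 := by decide +kernel
theorem gen3 : GenOk BB 6 (run (stf BB 6 L0) t6 (2 ^ 3)) l3 := by decide +kernel
theorem cover : (run (stf BB 6 L0) t0 (2 ^ 1) ||| run (stf BB 6 L0) t6 (2 ^ 3)) |||
    (1 ||| 2 ^ (2 ^ 6)) = 2 ^ 2 ^ (6 + 1) - 1 := by decide +kernel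

/-- **Irreducibility.** -/
theorem irr {N : Subgroup Suz} (hN : N ≤ Q0) (hinv : ∀ u ∈ C1, ∀ y ∈ N, u * y * u⁻¹ ∈ N) :
    (∀ y ∈ N, y = 1 ∨ y = z0) ∨ N = Q0 := by
  rw [Q0_eq] at hN ⊢
  exact irr_two rels tri hN hinv (stage rels tri gg_mem C1_comm conj_AA ch0.1) t0 t6 1 3 l1 l3 gen1
    gen3 cover

/-! ### Perfectness -/

theorem el_pow {w : List Suz.Gen} (k : ℕ) : el w ^ k = el ((List.replicate k w).flatten) := by
  induction k with
  | zero => rw [pow_zero]; rfl
  | succ k ih => rw [pow_succ', ih, List.replicate_succ, List.flatten_cons, el_append]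

theorem pow_one_of {w : List Suz.Gen} (k : ℕ)
    (h : checkEq 11 (wd ((List.replicate k w).flatten)) [] = true) : el w ^ k = 1 := by
  rw [el_pow]
  exact eq_of_reps (Rep.el _) Rep.one h

theorem r1 : el ([.d] ++ [.e]) ^ 3 = 1 := pow_one_of 3 (by decide +kernel)
theorem r2 : el ([.d] ++ (h3 ++ [.e])) ^ 5 = 1 := pow_one_of 5 (by decide +kernel)
theorem r3 : el ([.d] ++ h3) ^ 2 = 1 := pow_one_of 2 (by decide +kernel)
theorem r4 : el ([.d] ++ ([.e] ++ (h3 ++ h1))) ^ 5 = 1 := pow_one_of 5 (by decide +kernel)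
theorem r5 : el ([.d] ++ ([.e] ++ (h3 ++ h2))) ^ 5 = 1 := pow_one_of 5 (by decide +kernel)
theorem r6 : el ([.e] ++ (h3 ++ (h3 ++ (h3 ++ h3)))) ^ 3 = 1 := pow_one_of 3 (by decide +kernel)
theorem s1 : el h1 ^ 2 = 1 := pow_one_of 2 (by decide +kernel)
theorem s2 : el h2 ^ 2 = 1 := pow_one_of 2 (by decide +kernel)

/-- homomorphisms to commutative groups are trivial -/
theorem hom_trivial {A : Type*} [CommGroup A] (f : C1 →* A) (u : C1) : f u = 1 := by
  set a := f ⟨el [.d], d_mem⟩ with ha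
  set b := f ⟨el [.e], e_mem⟩ with hb
  set c := f ⟨el h1, h1_mem⟩ with hc
  set d := f ⟨el h2, h2_mem⟩ with hd
  set t := f ⟨el h3, h3_mem⟩ with ht
  have a2 : a ^ 2 = 1 := by
    rw [ha, ← map_pow]
    have : (⟨el [.d], d_mem⟩ : C1) ^ 2 = 1 := Subtype.ext (by
      show el [.d] ^ 2 = 1
      rw [pow_two]; exact gen_sq .d)
    rw [this, map_one]
  have b2 : b ^ 2 = 1 := by
    rw [hb, ← map_pow]
    have : (⟨el [.e], e_mem⟩ : C1) ^ 2 = 1 := Subtype.ext (by
      show el [.e] ^ 2 = 1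
      rw [pow_two]; exact gen_sq .e)
    rw [this, map_one]
  have c2 : c ^ 2 = 1 := by
    rw [hc, ← map_pow]
    have : (⟨el h1, h1_mem⟩ : C1) ^ 2 = 1 := Subtype.ext s1
    rw [this, map_one]
  have d2 : d ^ 2 = 1 := by
    rw [hd, ← map_pow]
    have : (⟨el h2, h2_mem⟩ : C1) ^ 2 = 1 := Subtype.ext s2
    rw [this, map_one]
  have e1 : (a * b) ^ 3 = 1 := by
    rw [ha, hb, ← map_mul, ← map_pow]
    have : ((⟨el [.d], d_mem⟩ : C1) * ⟨el [.e], e_mem⟩) ^ 3 = 1 := Subtype.ext (by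
      show (el [.d] * el [.e]) ^ 3 = 1
      rw [← el_append]; exact r1)
    rw [this, map_one]
  have e2 : (a * (t * b)) ^ 5 = 1 := by
    rw [ha, hb, ht, ← map_mul, ← map_mul, ← map_pow]
    have : ((⟨el [.d], d_mem⟩ : C1) * (⟨el h3, h3_mem⟩ * ⟨el [.e], e_mem⟩)) ^ 5 = 1 :=
      Subtype.ext (by
        show (el [.d] * (el h3 * el [.e])) ^ 5 = 1
        rw [← el_append, ← el_append]; exact r2)
    rw [this, map_one]
  have e3 : (a * t) ^ 2 = 1 := by
    rw [ha, ht, ← map_mul, ← map_pow]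
    have : ((⟨el [.d], d_mem⟩ : C1) * ⟨el h3, h3_mem⟩) ^ 2 = 1 := Subtype.ext (by
      show (el [.d] * el h3) ^ 2 = 1
      rw [← el_append]; exact r3)
    rw [this, map_one]
  have e4 : (a * (b * (t * c))) ^ 5 = 1 := by
    rw [ha, hb, ht, hc, ← map_mul, ← map_mul, ← map_mul, ← map_pow]
    have : ((⟨el [.d], d_mem⟩ : C1) * (⟨el [.e], e_mem⟩ * (⟨el h3, h3_mem⟩ * ⟨el h1, h1_mem⟩))) ^ 5
        = 1 :=
      Subtype.ext (by
        show (el [.d] * (el [.e] * (el h3 * el h1))) ^ 5 = 1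
        rw [← el_append, ← el_append, ← el_append]; exact r4)
    rw [this, map_one]
  have e5 : (a * (b * (t * d))) ^ 5 = 1 := by
    rw [ha, hb, ht, hd, ← map_mul, ← map_mul, ← map_mul, ← map_pow]
    have : ((⟨el [.d], d_mem⟩ : C1) * (⟨el [.e], e_mem⟩ * (⟨el h3, h3_mem⟩ * ⟨el h2, h2_mem⟩))) ^ 5
        = 1 :=
      Subtype.ext (by
        show (el [.d] * (el [.e] * (el h3 * el h2))) ^ 5 = 1
        rw [← el_append, ← el_append, ← el_append]; exact r5)
    rw [this, map_one]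
  have e6 : (b * (t * (t * (t * t)))) ^ 3 = 1 := by
    rw [hb, ht, ← map_mul, ← map_mul, ← map_mul, ← map_mul, ← map_pow]
    have : ((⟨el [.e], e_mem⟩ : C1) * (⟨el h3, h3_mem⟩ * (⟨el h3, h3_mem⟩ * (⟨el h3, h3_mem⟩ *
        ⟨el h3, h3_mem⟩)))) ^ 3 = 1 :=
      Subtype.ext (by
        show (el [.e] * (el h3 * (el h3 * (el h3 * el h3)))) ^ 3 = 1
        rw [← el_append, ← el_append, ← el_append, ← el_append]; exact r6)
    rw [this, map_one]
  have ab : a * b = 1 := by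
    have : (a * b) ^ 3 = a ^ 2 * b ^ 2 * (a * b) := by rw [pow_succ, mul_pow]
    rw [this, a2, b2, one_mul, one_mul] at e1
    exact e1
  have t2 : t ^ 2 = 1 := by rw [mul_pow, a2, one_mul] at e3; exact e3
  have t1 : t = 1 := by
    have h : a * (t * b) = t := by
      rw [mul_left_comm, ab, mul_one]
    rw [h] at e2
    have : t ^ 5 = (t ^ 2) ^ 2 * t := by rw [← pow_mul, ← pow_succ]
    rwa [this, t2, one_pow, one_mul] at e2
  have c1 : c = 1 := by
    rw [t1, one_mul, ← mul_assoc, ab, one_mul] at e4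
    have : c ^ 5 = (c ^ 2) ^ 2 * c := by rw [← pow_mul, ← pow_succ]
    rwa [this, c2, one_pow, one_mul] at e4
  have d1 : d = 1 := by
    rw [t1, one_mul, ← mul_assoc, ab, one_mul] at e5
    have : d ^ 5 = (d ^ 2) ^ 2 * d := by rw [← pow_mul, ← pow_succ]
    rwa [this, d2, one_pow, one_mul] at e5
  have b1 : b = 1 := by
    rw [t1, one_mul, one_mul, one_mul, mul_one] at e6
    rwa [pow_succ, b2, one_mul] at e6
  have a1 : a = 1 := by rw [b1, mul_one] at ab; exact ab
  have hker : ∀ w (hw : w ∈ ga), f ⟨el w, ga_le (el_mem_cl hw)⟩ = 1 := by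
    intro w hw
    have hw' := hw
    simp only [ga, List.mem_cons, List.not_mem_nil, or_false] at hw'
    rcases hw' with rfl | rfl | rfl | rfl | rfl
    · exact a1
    · exact b1
    · exact c1
    · exact d1
    · exact t1
  obtain ⟨u, hu⟩ := u
  have hu' := hu
  rw [← cl_ga, cl] at hu'
  have key : ∀ v ∈ Subgroup.closure {g | ∃ w ∈ ga, el w = g}, ∀ hv : v ∈ C1, f ⟨v, hv⟩ = 1 := by
    intro v hv
    induction hv using Subgroup.closure_induction with
    | mem x hx =>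
      intro hv
      obtain ⟨w, hw, rfl⟩ := hx
      exact hker w hw
    | one => intro hv; exact map_one f
    | mul x y hx hy ihx ihy =>
      intro hv
      have hx' : x ∈ C1 := ga_le hx
      have hy' : y ∈ C1 := ga_le hy
      have : (⟨x * y, hv⟩ : C1) = ⟨x, hx'⟩ * ⟨y, hy'⟩ := rfl
      rw [this, map_mul, ihx hx', ihy hy', one_mul]
    | inv x hx ihx =>
      intro hv
      have hx' : x ∈ C1 := ga_le hx
      have : (⟨x⁻¹, hv⟩ : C1) = ⟨x, hx'⟩⁻¹ := rfl
      rw [this, map_inv, ihx hx', inv_one]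
  exact key u hu' hu

/-- **`P` is perfect.** -/
theorem perfect : commutator C1 = ⊤ := by
  rw [eq_top_iff]
  intro u _
  have h := hom_trivial (Abelianization.of (G := C1)) u
  rwa [← MonoidHom.mem_ker, Abelianization.ker_of] at h

theorem perfect' : ⁅C1, C1⁆ = C1 := by
  have h := perfect
  rw [commutator_def] at h
  have h2 := congrArg (Subgroup.map C1.subtype) h
  rw [Subgroup.map_commutator, ← MonoidHom.range_eq_map, Subgroup.range_subtype] at h2
  exact h2

end Cfsg.Agent.KFacts.SuzR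

end

-- merged: Cfsg.Agent.KFacts.SuzSheet
section

/-!
# The sheet of the Suzuki group: the 2-central involution

Facts in the form used by the odd half of the classification (type (E)): `z`, `P = C_K(z)`, `R = O_2(P)`.
-/

set_option autoImplicit false
set_option maxRecDepth 100000

namespace Cfsg.Agent.KFacts.SuzSheet

open Cfsg.Spor Cfsg.Agent.Lib.PermNet Cfsg.Agent.SporadicRecognition.SuzPhi
  Cfsg.Agent.SporadicRecognition.SuzOrder Cfsg.Agent.SuzThree.Basic Cfsg.Agent.SuzThree.CentA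
  Cfsg.Agent.SuzThree.QZero Cfsg.Agent.KFacts.SuzCent Cfsg.Agent.KFacts.SuzR Cfsg.Agent.KFacts.Codes

/-- the centraliser has odd index -/
theorem index_C1 : C1.index = 135135 := by
  have h := C1.card_mul_index
  rw [card_C1, card_Suz] at h
  omega

theorem odd_index : Odd C1.index := by rw [index_C1]; decide

/-- **(P3)**: a conjugate of `z` in `P`, outside `R`. -/
theorem h1_conj : el [.b, .c, .f, .b] * z0 * (el [.b, .c, .f, .b])⁻¹ = el h1 := by
  rw [← el_reverse]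
  show el [.b, .c, .f, .b] * el [.a] * el [.b, .f, .c, .b] = el h1
  rw [← el_append, ← el_append]
  rfl

theorem h1_notin : el h1 ∉ Q0 := by
  intro h
  have h2 := conj_AA 2 2
  have h3 : el h1 * C 2 * (el h1)⁻¹ = C (AA 2 2) := h2
  have hC2 : C 2 ∈ Q0 := by rw [Q0_eq]; exact cod_mem 2
  have e1 : AA 2 2 = 74 := by decide +kernel
  rw [e1] at h3
  rcases R_comm h hC2 with h4 | h4
  · rw [h4, mul_inv_cancel_right] at h3
    have := cod_injOn rels tri nondeg z_ne (by norm_num) (by norm_num) h3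
    omega
  · rw [h4, ← mul_assoc, mul_inv_cancel_right] at h3
    have e2 : z0 * C 2 = C 66 := by
      have : C 64 = z0 := cod_z (n := 6)
      rw [← this, C, C, cod_mul rels tri]
      congr 1
    rw [e2] at h3
    have := cod_injOn rels tri nondeg z_ne (by norm_num) (by norm_num) h3
    omega

theorem exists_conj_outside : ∃ z1 : Suz, z1 ∈ C1 ∧ z1 ∉ Q0 ∧ z1 ≠ z0 ∧ ∃ g, g * z0 * g⁻¹ = z1 :=
  ⟨el h1, h1_mem, h1_notin, fun h => h1_notin (h ▸ z_mem), _, h1_conj⟩

/-- `R` lies in every Sylow 2-subgroup of `P`. -/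
theorem R_le {T : Subgroup Suz} (hT : IsPGroup 2 T) (hTC : T ≤ C1)
    (hmax : ∀ Q : Subgroup Suz, IsPGroup 2 Q → T ≤ Q → Q ≤ C1 → Q ≤ T) : Q0 ≤ T := by
  have hn : T ≤ Subgroup.normalizer (Q0 : Set Suz) := by
    rw [← cl_ga] at hTC
    exact hTC.trans cl_le_normalizer
  have h1 : IsPGroup 2 (T ⊔ Q0 : Subgroup Suz) := hT.to_sup_of_normal_right' isPGroup_Q0 hn
  exact le_sup_right.trans (hmax _ h1 le_sup_left (sup_le hTC Q0_le))

/-- The centre of a Sylow 2-subgroup of `P` (which is a Sylow 2-subgroup of `K`) is `⟨z⟩`. -/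
theorem center_sylow {T : Subgroup Suz} (hT : IsPGroup 2 T) (hTC : T ≤ C1)
    (hmax : ∀ Q : Subgroup Suz, IsPGroup 2 Q → T ≤ Q → Q ≤ C1 → Q ≤ T) {y : Suz}
    (hy : ∀ x ∈ T, x * y = y * x) : y = 1 ∨ y = z0 :=
  centralizer_R fun x hx => hy x (R_le hT hTC hmax hx)

/-- the sheet -/
structure Sheet (K : Type*) [Group K] (z : K) (R : Subgroup K) (w : ℕ) : Prop where
  zz : z * z = 1
  z1 : z ≠ 1
  odd : Odd (Subgroup.centralizer ({z} : Set K)).index
  perfect : commutator (Subgroup.centralizer ({z} : Set K)) = ⊤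
  zR : z ∈ R
  RC : ∀ y ∈ R, y * z = z * y
  normal : ∀ u : K, u * z = z * u → ∀ y ∈ R, u * y * u⁻¹ ∈ R
  card : Nat.card R = 2 ^ (2 * w + 1)
  sq : ∀ y ∈ R, y * y = 1 ∨ y * y = z
  comm : ∀ y ∈ R, ∀ y' ∈ R, y * y' = y' * y ∨ y * y' = z * (y' * y)
  self : ∀ g : K, (∀ y ∈ R, y * g = g * y) → g = 1 ∨ g = z
  irr : ∀ N : Subgroup K, N ≤ R → (∀ u : K, u * z = z * u → ∀ y ∈ N, u * y * u⁻¹ ∈ N) →
    (∀ y ∈ N, y = 1 ∨ y = z) ∨ N = R
  out : ∃ z1 : K, z1 * z = z * z1 ∧ z1 ∉ R ∧ ∃ g, g * z * g⁻¹ = z1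

theorem sheet : Sheet Suz z0 Q0 3 where
  zz := z_sq
  z1 := z_ne
  odd := odd_index
  perfect := perfect
  zR := z_mem
  RC y hy := mem_C1.1 (Q0_le hy)
  normal u hu y hy := normal_R (mem_C1.2 hu) hy
  card := card_R
  sq _ hy := R_sq hy
  comm _ hy _ hy' := R_comm hy hy'
  self _ hg := centralizer_R hg
  irr N hN hinv := irr hN fun u hu y hy => hinv u (mem_C1.1 hu) y hy
  out := ⟨el h1, mem_C1.1 h1_mem, h1_notin, _, h1_conj⟩

end Cfsg.Agent.KFacts.SuzSheet

end
end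

-- part: KFacts/SuzLarge
section
/-!
# The Suzuki group: `Large Q0 z0`, (hR), (hC)
-/

set_option autoImplicit false
set_option maxRecDepth 100000

namespace Cfsg.Agent.KFacts.SuzLarge

open Cfsg.Spor Cfsg.Agent.SuzThree.CentA Cfsg.Agent.SuzThree.QZero Cfsg.Agent.KFacts.SuzR
  Cfsg.Agent.KFacts.SuzSheet Cfsg.Agent.KFacts.Codes Cfsg.Agent.Co2Type.Quad
  Cfsg.Agent.KFacts.LargeO2

theorem large : Large Q0 z0 where
  z_mem := z_mem
  z_ne := z_ne
  z_sq := z_sq
  comm_z _ hx := mem_C1.1 (Q0_le hx)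
  conj_mem _ hg _ hx := normal_R (mem_C1.2 hg) hx
  sq _ hx := R_sq hx
  comm x hx y hy := by
    rcases R_comm hx hy with h1 | h1
    · exact Or.inl h1
    · right
      have h2 : (y * x) * z0 = z0 * (y * x) := mem_C1.1 (C1.mul_mem (Q0_le hy) (Q0_le hx))
      rw [h1, h2]
  cent _ _ hc := centralizer_R fun y hy => (hc y hy).symm
  self g _ hc := by
    rcases centralizer_R (g := g) fun y hy => (hc y hy).symm with h1 | h1
    · rw [h1]; exact Q0.one_mem
    · rw [h1]; exact z_mem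

theorem irr : Irr Q0 z0 := fun _ hN hinv =>
  SuzR.irr hN fun u hu y hy => hinv u (mem_C1.1 hu) y hy

theorem C_mem (c : ℕ) : C c ∈ Q0 := by rw [Q0_eq]; exact cod_mem c

theorem C_z (c : ℕ) : C c * z0 = C (mulc BB 6 c 64) := by
  have : C 64 = z0 := cod_z (n := 6)
  rw [← this, C, C, cod_mul rels tri]

theorem C_ne {c d : ℕ} (hc : c < 128) (hd : d < 128) (h : c ≠ d) : C c ≠ C d := fun he =>
  h (cod_injOn rels tri nondeg z_ne hc hd he)

/-- noncentral elements exist -/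
theorem exists_nc : ∃ x ∈ Q0, x ≠ 1 ∧ x ≠ z0 := by
  refine ⟨C 8, C_mem 8, ?_, ?_⟩
  · have : C 0 = 1 := cod_zero
    rw [← this]; exact C_ne (by norm_num) (by norm_num) (by norm_num)
  · have : C 64 = z0 := cod_z (n := 6)
    rw [← this]; exact C_ne (by norm_num) (by norm_num) (by norm_num)

/-- **(hR)**: `O₂(C_K(z)) = R`. -/
theorem hR {W : Subgroup Suz} (hW : IsPGroup 2 W) (hWz : ∀ w ∈ W, w * z0 = z0 * w)
    (hinv : ∀ u : Suz, u * z0 = z0 * u → ∀ w ∈ W, u * w * u⁻¹ ∈ W) : W ≤ Q0 :=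
  le_of_normal large irr exists_nc hW hWz hinv

/-- the set with one-dimensional fixed space -/
noncomputable def D : Set Suz := {d | ∃ k : ℕ, (k = 0 ∨ k = 2 ∨ k = 4) ∧ gg k = d}

theorem chkD : ∀ c < 128, (∀ k ∈ [0, 2, 4], AA k c = c ∨ AA k c = mulc BB 6 c 64) →
    c = 0 ∨ c = 64 ∨ c = 8 ∨ c = 72 := by decide +kernel

theorem D_comm : ∀ d ∈ D, d * z0 = z0 * d := by
  rintro d ⟨k, -, rfl⟩
  exact mem_C1.1 (gg_mem k)

theorem fix_D : ∀ x ∈ Q0, (∀ d ∈ D, d * x * d⁻¹ = x ∨ d * x * d⁻¹ = x * z0) →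
    x = 1 ∨ x = z0 ∨ x = C 8 ∨ x = C 8 * z0 := by
  intro x hx hd
  rw [Q0_eq] at hx
  obtain ⟨c, hc, rfl⟩ := (mem_RG rels tri).1 hx
  have hlt : ∀ k < 5, AA k c < 128 := by
    revert c
    have : ∀ c < 128, ∀ k < 5, AA k c < 128 := by decide +kernel
    intro c hc _ _
    exact this c hc
  have hlt2 : mulc BB 6 c 64 < 128 := by
    revert c
    have : ∀ c < 128, mulc BB 6 c 64 < 128 := by decide +kernel
    intro c hc _ _ _
    exact this c hc
  have h1 := chkD c hc (by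
    intro k hk
    have hk' : k = 0 ∨ k = 2 ∨ k = 4 := by
      simp only [List.mem_cons, List.not_mem_nil, or_false] at hk
      exact hk
    have hk5 : k < 5 := by omega
    have h2 := hd (gg k) ⟨k, hk', rfl⟩
    have h3 := conj_AA k c
    rw [C] at h3
    rw [h3] at h2
    rcases h2 with h2 | h2
    · left
      exact cod_injOn rels tri nondeg z_ne (hlt k hk5) hc h2
    · right
      have h4 : C (AA k c) = C (mulc BB 6 c 64) := by rw [← C_z]; exact h2
      exact cod_injOn rels tri nondeg z_ne (hlt k hk5) hlt2 h4)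
  rcases h1 with rfl | rfl | rfl | rfl
  · left; exact cod_zero
  · right; left; exact cod_z (n := 6)
  · right; right; left; rfl
  · right; right; right
    rw [C_z]
    congr 1

theorem fix_v : ∀ d ∈ D, d * C 8 * d⁻¹ = C 8 ∨ d * C 8 * d⁻¹ = C 8 * z0 := by
  rintro d ⟨k, hk, rfl⟩
  rw [conj_AA]
  left
  rcases hk with rfl | rfl | rfl
  · have : AA 0 8 = 8 := by decide +kernel
    rw [this]
  · have : AA 2 8 = 8 := by decide +kernel
    rw [this]
  · have : AA 4 8 = 8 := by decide +kernel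
    rw [this]

theorem v_ne : C 8 ≠ 1 ∧ C 8 ≠ z0 := by
  constructor
  · have : C 0 = 1 := cod_zero
    rw [← this]; exact C_ne (by norm_num) (by norm_num) (by norm_num)
  · have : C 64 = z0 := cod_z (n := 6)
    rw [← this]; exact C_ne (by norm_num) (by norm_num) (by norm_num)

/-- **(hC)** for elements -/
theorem hC {g : Suz} (hg : g * z0 = z0 * g) (hc : ∀ u : Suz, u * z0 = z0 * u → g * u * g⁻¹ * u⁻¹ ∈ Q0) :
    g ∈ Q0 :=
  mem_of_comm large irr (C_mem 8) v_ne.1 v_ne.2 D_comm fix_D fix_v hg hc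

/-- **(hC)** for automorphisms, given (T1') -/
theorem hC_aut (hT : ∀ β : MulAut Suz, (∀ c : Suz, c * z0 = z0 * c → β c = c) → β = 1 ∨ β = MulAut.conj z0)
    {α : MulAut Suz} (hz : α z0 = z0) (hc : ∀ u : Suz, u * z0 = z0 * u → α u * u⁻¹ ∈ Q0) :
    ∃ y ∈ Q0, α = MulAut.conj y :=
  LargeAut.exists_conj large irr (fun f u => hom_trivial f u) hT (C_mem 8) v_ne.1 v_ne.2 D_comm fix_D fix_v
    hz hc

end Cfsg.Agent.KFacts.SuzLarge
end
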