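import Mathlib
import Cfsg.Agent.KFacts.RgdRigid
set_option linter.all false

/-!
# Automorphisms of groups with a root group datum: coordinates

* `Coord` : coordinates of one root group over a field `F`;
* `Coord.exists_semi` : a frame automorphism is semilinear on the root groups;
* `Coords`, `Coroots` : coordinates of a root group datum;
* `exists_tau` : the field automorphisms of a frame automorphism.
-/

set_option autoImplicit false
set_option linter.unusedSectionVars false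

namespace Cfsg.Agent.KFacts.RgdField

open CoxeterSystem Cfsg.Agent.ChevalleyStructure.CoxeterGeom Cfsg.Agent.Tits.Roots Cfsg.Agent.Tits.Core
  Cfsg.Agent.Tits.Exchange Cfsg.Agent.Nodes.Reps Cfsg.Agent.Nodes.BNOf Cfsg.Agent.Nodes.StabComb
  Cfsg.Agent.Nodes.Bruhat Cfsg.Agent.Nodes.OppDec Cfsg.Agent.Nodes.LeviDec Cfsg.Agent.Nodes.NormalForm
  Cfsg.Agent.KFacts.RgdOpp Cfsg.Agent.KFacts.RgdAut Cfsg.Agent.KFacts.RgdDiag Cfsg.Agent.KFacts.RgdRigid
open scoped commutatorElement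

/-! ### one root group -/

section One

variable {Y : Type*} [Group Y] {F F' : Type*} [Field F] [Field F'] {T P P' : Subgroup Y} {x : F → Y} {x' : F' → Y}
  {χ : Y → F} {χ' : Y → F'}

/-- Coordinates of the group `P`, on which `T` acts by scalars. -/
structure Coord (T P : Subgroup Y) (x : F → Y) (χ : Y → F) : Prop where
  mem : ∀ y, y ∈ P ↔ ∃ a, x a = y
  inj : Function.Injective x
  add : ∀ a b, x (a + b) = x a * x b
  act : ∀ t ∈ T, ∀ a, t * x a * t⁻¹ = x (χ t * a)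
  span : AddSubgroup.closure (χ '' (T : Set Y)) = ⊤

theorem Coord.zero (C : Coord T P x χ) : x 0 = 1 := by
  have := C.add 0 0
  rwa [add_zero, left_eq_mul] at this

theorem Coord.ne_one (C : Coord T P x χ) {a : F} (ha : a ≠ 0) : x a ≠ 1 := by
  rw [← C.zero]
  exact fun h1 => ha (C.inj h1)

theorem Coord.chi_mul (C : Coord T P x χ) {s t : Y} (hs : s ∈ T) (ht : t ∈ T) : χ (s * t) = χ s * χ t := by
  have h1 := C.act _ (mul_mem hs ht) 1
  have h2 : s * t * x 1 * (s * t)⁻¹ = s * (t * x 1 * t⁻¹) * s⁻¹ := by group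
  rw [h2, C.act t ht, C.act s hs] at h1
  have h3 := C.inj h1
  rw [mul_one, mul_one] at h3
  exact h3.symm

theorem Coord.chi_ne_zero (C : Coord T P x χ) {t : Y} (ht : t ∈ T) : χ t ≠ 0 := by
  intro h1
  have h2 := C.act t ht 1
  rw [h1, zero_mul, C.zero, mul_inv_eq_one, mul_eq_left] at h2
  exact C.ne_one one_ne_zero h2

theorem Coord.chi_conj (C : Coord T P x χ) {s t : Y} (hs : s ∈ T) (ht : t ∈ T) : χ (s * t * s⁻¹) = χ t := by
  have h1 : χ (s * t * s⁻¹ * s) = χ (s * t * s⁻¹) * χ s := C.chi_mul (mul_mem (mul_mem hs ht) (inv_mem hs)) hs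
  rw [inv_mul_cancel_right, C.chi_mul hs ht, mul_comm] at h1
  exact (mul_right_cancel₀ (C.chi_ne_zero hs) h1).symm

/-- Two ring automorphisms agreeing on the scalars of `T` are equal. -/
theorem Coord.ext (C : Coord T P x χ) {τ τ' : F ≃+* F'} (he : ∀ t ∈ T, τ (χ t) = τ' (χ t)) : τ = τ' := by
  have h1 : AddSubgroup.closure (χ '' (T : Set Y)) ≤ AddMonoidHom.eqLocus (τ : F →+ F') (τ' : F →+ F') := by
    rw [AddSubgroup.closure_le]
    rintro _ ⟨t, ht, rfl⟩
    exact he t ht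
  rw [C.span, top_le_iff] at h1
  ext a
  have h2 : a ∈ AddMonoidHom.eqLocus (τ : F →+ F') (τ' : F →+ F') := by rw [h1]; exact AddSubgroup.mem_top a
  exact h2

/-- **Semilinearity.** -/
theorem Coord.exists_semi (C : Coord T P x χ) (C' : Coord T P' x' χ') {β : MulAut Y} (hT : Fix β T)
    (hP : ∀ y, β y ∈ P' ↔ y ∈ P) :
    ∃ (τ : F ≃+* F') (c : F'), c ≠ 0 ∧ (∀ a, β (x a) = x' (c * τ a)) ∧ ∀ t ∈ T, χ' (β t) = τ (χ t) := by
  have hf : ∀ a, ∃ b, x' b = β (x a) := fun a => (C'.mem _).1 ((hP _).2 ((C.mem _).2 ⟨a, rfl⟩))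
  choose f hf using hf
  have hadd : ∀ a b, f (a + b) = f a + f b := by
    intro a b
    apply C'.inj
    rw [hf, C.add, map_mul, C'.add, hf, hf]
  have hinj : Function.Injective f := by
    intro a b hab
    apply C.inj
    apply β.injective
    rw [← hf, ← hf, hab]
  have hsurj : Function.Surjective f := by
    intro b
    obtain ⟨a, ha⟩ := (C.mem (β⁻¹ (x' b))).1 ((hP _).1 (by
      rw [MulAut.apply_inv_self]; exact (C'.mem _).2 ⟨b, rfl⟩))
    refine ⟨a, C'.inj ?_⟩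
    rw [hf, ha, MulAut.apply_inv_self]
  have hact : ∀ t ∈ T, ∀ a, f (χ t * a) = χ' (β t) * f a := by
    intro t ht a
    apply C'.inj
    rw [hf, ← C.act t ht, map_mul, map_mul, map_inv, ← hf, C'.act _ ((hT t).2 ht)]
  have hf0 : f 0 = 0 := by
    have := hadd 0 0
    rwa [add_zero, left_eq_add] at this
  have hc : f 1 ≠ 0 := fun h1 => one_ne_zero (hinj (h1.trans hf0.symm))
  have hmul : ∀ s a, f 1 * f (s * a) = f s * f a := by
    intro s
    have hs : s ∈ AddSubgroup.closure (χ '' (T : Set Y)) := by rw [C.span]; exact AddSubgroup.mem_top s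
    induction hs using AddSubgroup.closure_induction with
    | mem s hs =>
      obtain ⟨t, ht, rfl⟩ := hs
      intro a
      have h1 := hact t ht 1
      rw [mul_one] at h1
      rw [hact t ht a, h1]; ring
    | zero => intro a; rw [zero_mul, hf0, mul_zero, zero_mul]
    | add s s' _ _ h1 h2 => intro a; rw [add_mul, hadd, hadd, mul_add, h1, h2, add_mul]
    | neg s _ h1 =>
      intro a
      have hneg : ∀ b, f (-b) = -f b := by
        intro b
        have h2 := hadd b (-b)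
        rw [add_neg_cancel, hf0] at h2
        exact (neg_eq_of_add_eq_zero_right h2.symm).symm
      rw [neg_mul, hneg, hneg, mul_neg, h1, neg_mul]
  obtain ⟨g, hg⟩ : ∃ g : F → F', ∀ a, g a = (f 1)⁻¹ * f a := ⟨_, fun _ => rfl⟩
  have hg1 : g 1 = 1 := by rw [hg, inv_mul_cancel₀ hc]
  have hgf : ∀ a, f 1 * g a = f a := by intro a; rw [hg, mul_inv_cancel_left₀ hc]
  obtain ⟨φ, hφ⟩ : ∃ φ : F →+* F', ∀ a, φ a = g a :=
    ⟨{ toFun := g
       map_one' := hg1
       map_mul' := by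
         intro a b
         apply mul_left_cancel₀ hc
         rw [hgf]
         apply mul_left_cancel₀ hc
         rw [hmul, ← hgf a, ← hgf b]
         ring
       map_zero' := by rw [hg, hf0, mul_zero]
       map_add' := by
         intro a b
         rw [hg, hg, hg, hadd, mul_add] }, fun _ => rfl⟩
  have hbij : Function.Bijective φ := by
    refine ⟨φ.injective, fun b => ?_⟩
    obtain ⟨a, ha⟩ := hsurj (f 1 * b)
    refine ⟨a, ?_⟩
    rw [hφ, hg, ha, inv_mul_cancel_left₀ hc]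
  refine ⟨RingEquiv.ofBijective φ hbij, f 1, hc, fun a => ?_, fun t ht => ?_⟩
  · rw [RingEquiv.ofBijective_apply, hφ, hgf, hf]
  · rw [RingEquiv.ofBijective_apply, hφ, hg]
    have h1 := hact t ht 1
    rw [mul_one] at h1
    rw [h1, mul_comm (χ' (β t)), inv_mul_cancel_left₀ hc]

/-- Fixed points of a semilinear map. -/
theorem fixed_iff {τ : F ≃+* F} {c a₀ : F} (ha : a₀ ≠ 0) (h0 : c * τ a₀ = a₀) (a : F) :
    c * τ (a₀ * a) = a₀ * a ↔ τ a = a := by
  rw [map_mul, ← mul_assoc, h0]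
  exact ⟨fun h1 => mul_left_cancel₀ ha h1, fun h1 => by rw [h1]⟩

/-- An automorphism of `p`-power order fixes a nontrivial element of a nontrivial finite `p`-group. -/
theorem exists_fixed [Finite Y] {p : ℕ} [Fact p.Prime] {β : MulAut Y} {k : ℕ} (hβ : β ^ p ^ k = 1) {P : Subgroup Y}
    (hP : Fix β P) (hp : IsPGroup p ↥P) (hne : P ≠ ⊥) : ∃ y ∈ P, y ≠ 1 ∧ β y = y := by
  obtain ⟨E, hE⟩ : ∃ E : Subgroup (MulAut Y), E = Subgroup.zpowers β := ⟨_, rfl⟩
  have hEp : IsPGroup p ↥E := by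
    rw [hE]
    rintro ⟨g, m, rfl⟩
    refine ⟨k, ?_⟩
    apply Subtype.ext
    rw [SubmonoidClass.coe_pow]
    show (β ^ m) ^ p ^ k = 1
    rw [← zpow_natCast, ← zpow_mul, mul_comm, zpow_mul, zpow_natCast, hβ, one_zpow]
  have hEP : ∀ γ ∈ E, Fix γ P := by
    rintro γ hγ
    rw [hE] at hγ
    obtain ⟨m, rfl⟩ := hγ
    have hn : ∀ m : ℕ, Fix (β ^ m) P := by
      intro m
      induction m with
      | zero => intro y; rw [pow_zero]; rfl
      | succ m ih => rw [pow_succ]; exact ih.mul hP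
    obtain ⟨m, rfl | rfl⟩ := Int.eq_nat_or_neg m
    · show Fix (β ^ (m : ℤ)) P
      rw [zpow_natCast]; exact hn m
    · show Fix (β ^ (-(m : ℤ))) P
      rw [zpow_neg, zpow_natCast]; exact (hn m).inv
  letI : MulAction ↥E ↥P :=
    { smul := fun γ y => ⟨γ.1 y.1, (hEP γ.1 γ.2 y.1).2 y.2⟩
      one_smul := fun y => Subtype.ext rfl
      mul_smul := fun γ δ y => Subtype.ext rfl }
  have : Finite ↥P := inferInstance
  haveI : Fintype ↥P := Fintype.ofFinite _
  have hdvd : p ∣ Nat.card ↥P := by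
    obtain ⟨m, hm⟩ := (IsPGroup.iff_card (p := p)).1 hp
    rw [hm]
    refine dvd_pow_self p fun h1 => hne ?_
    rw [h1, pow_zero] at hm
    exact Subgroup.card_eq_one.1 hm
  have h1 : (1 : ↥P) ∈ MulAction.fixedPoints ↥E ↥P := by
    intro γ
    apply Subtype.ext
    show γ.1 1 = 1
    exact map_one _
  obtain ⟨b, hb, hb1⟩ := hEp.exists_fixed_point_of_prime_dvd_card_of_fixed_point ↥P hdvd h1
  refine ⟨b.1, b.2, fun h2 => hb1 (Subtype.ext h2.symm), ?_⟩
  have := hb ⟨β, by rw [hE]; exact Subgroup.mem_zpowers β⟩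
  exact congrArg Subtype.val this

end One


/-! ### a root group datum with coordinates -/

section Global

variable {I W Y : Type*} [Fintype I] [DecidableEq I] [Group W] [Group Y] {M : CoxeterMatrix I}
  {cs : CoxeterSystem M W} {A : I → I → ℤ} {h : IsCartan M A} {p : ℕ} {T : Subgroup Y} {n : I → Y}
  {X : (I → ℤ) → Subgroup Y} {F : Type*} [Field F] {x : (I → ℤ) → F → Y} {χ : (I → ℤ) → Y → F} {hh : I → F → Y}

/-- Coordinates of a root group datum over the field `F`: `x r : F → X r`, scalars `χ r` of the torus. -/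
structure Coords (cs : CoxeterSystem M W) (h : IsCartan M A) (T : Subgroup Y) (n : I → Y)
    (X : (I → ℤ) → Subgroup Y) (x : (I → ℤ) → F → Y) (χ : (I → ℤ) → Y → F) : Prop where
  coord : ∀ r, IsRoot cs h r → Coord T (X r) (x r) (χ r)
  nact : ∀ i r, IsRoot cs h r → ∃ c, c ≠ 0 ∧ ∀ a, n i * x r a * (n i)⁻¹ = x (rep cs h (cs.simple i) r) (c * a)

/-- The torus elements `hh j a` of the simple coroots. -/
structure Coroots (A : I → I → ℤ) (T : Subgroup Y) (X : (I → ℤ) → Subgroup Y) (χ : (I → ℤ) → Y → F)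
    (hh : I → F → Y) : Prop where
  mem : ∀ j t, t ∈ T ⊓ (X (sr j) ⊔ X (-sr j)) ↔ ∃ a, a ≠ 0 ∧ hh j a = t
  char : ∀ i j a, a ≠ 0 → χ (sr i) (hh j a) = a ^ A j i

theorem Coords.chi_n (C : Coords cs h T n X x χ) (hN : NSys M T n) (i : I) {r : I → ℤ} (hr : IsRoot cs h r) {t : Y}
    (ht : t ∈ T) : χ (rep cs h (cs.simple i) r) (n i * t * (n i)⁻¹) = χ r t := by
  obtain ⟨c, hc, e⟩ := C.nact i r hr
  have ht' : n i * t * (n i)⁻¹ ∈ T := (Subgroup.mem_normalizer_iff.1 (hN.norm i) t).1 ht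
  have h1 := (C.coord _ (hr.act (cs.simple i))).act _ ht' (c * 1)
  rw [← e 1] at h1
  have h2 : n i * t * (n i)⁻¹ * (n i * x r 1 * (n i)⁻¹) * (n i * t * (n i)⁻¹)⁻¹ =
      n i * (t * x r 1 * t⁻¹) * (n i)⁻¹ := by group
  rw [h2, (C.coord r hr).act t ht, e] at h1
  have h3 := (C.coord _ (hr.act (cs.simple i))).inj h1
  rw [mul_one, mul_one, mul_comm c] at h3
  exact (mul_right_cancel₀ hc h3).symm

theorem Coords.chi_rp (C : Coords cs h T n X x χ) (hN : NSys M T n) {w : W} {g : Y} (hg : Rp cs hN w g)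
    {r : I → ℤ} (hr : IsRoot cs h r) {t : Y} (ht : t ∈ T) : χ (rep cs h w r) (g * t * g⁻¹) = χ r t := by
  obtain ⟨ω, rfl⟩ := cs.wordProd_surjective w
  induction ω generalizing g with
  | nil =>
    rw [wordProd_nil] at hg ⊢
    rw [map_one, Module.End.one_apply]
    exact (C.coord r hr).chi_conj hg.mem_of_one ht
  | cons i ω ih =>
    rw [wordProd_cons] at hg ⊢
    have h1 : Rp cs hN (cs.wordProd ω) ((n i)⁻¹ * g) := by
      have := (rp_simple cs hN i).inv.mul hg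
      rwa [inv_mul_cancel_left] at this
    have h2 := ih h1
    have h3 : (n i)⁻¹ * g * t * ((n i)⁻¹ * g)⁻¹ ∈ T :=
      (Subgroup.mem_normalizer_iff.1 h1.mem_normalizer t).1 ht
    have h4 := C.chi_n hN i (hr.act (cs.wordProd ω)) h3
    have e : n i * ((n i)⁻¹ * g * t * ((n i)⁻¹ * g)⁻¹) * (n i)⁻¹ = g * t * g⁻¹ := by group
    rw [e, h2] at h4
    rwa [rep_mul_apply]

/-- The field automorphisms of a frame automorphism. -/
structure Semi (cs : CoxeterSystem M W) (h : IsCartan M A) (T : Subgroup Y) (X : (I → ℤ) → Subgroup Y)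
    (x : (I → ℤ) → F → Y) (χ : (I → ℤ) → Y → F) (β : MulAut Y) (σ : Equiv.Perm I)
    (hσ : ∀ i j, M (σ i) (σ j) = M i j) (τ : I → F ≃+* F) : Prop where
  /-- the scalars -/
  char : ∀ i, ∀ t ∈ T, χ (sr (σ i)) (β t) = τ i (χ (sr i) t)
  /-- the roots -/
  root : ∀ w i, ∃ c, c ≠ 0 ∧ ∀ a, β (x (rep cs h w (sr i)) a) = x (rep cs h (hat cs σ hσ w) (sr (σ i))) (c * τ i a)

theorem exists_semi (R : RGD cs h p T n X) [Finite W] (C : Coords cs h T n X x χ) {β : MulAut Y}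
    {σ : Equiv.Perm I} (D : Diag T X β σ) (hσ : ∀ i j, M (σ i) (σ j) = M i j) :
    ∃ τ : I → F ≃+* F, Semi cs h T X x χ β σ hσ τ := by
  have h1 : ∀ w i, ∃ (τ : F ≃+* F) (c : F), c ≠ 0 ∧
      (∀ a, β (x (rep cs h w (sr i)) a) = x (rep cs h (hat cs σ hσ w) (sr (σ i))) (c * τ a)) ∧
      ∀ t ∈ T, χ (rep cs h (hat cs σ hσ w) (sr (σ i))) (β t) = τ (χ (rep cs h w (sr i)) t) := fun w i =>
    (C.coord _ ⟨w, i, rfl⟩).exists_semi (C.coord _ ⟨_, _, rfl⟩) D.tor (D.root R hσ w i)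
  choose τ c hc hroot hchar using h1
  have heq : ∀ w i, τ w i = τ 1 i := by
    intro w i
    apply (C.coord _ (isRoot_sr cs h i)).ext
    intro t ht
    obtain ⟨g, hg⟩ := exists_rp cs R.nsys w
    have ht' : g * t * g⁻¹ ∈ T := (Subgroup.mem_normalizer_iff.1 hg.mem_normalizer t).1 ht
    have h2 := hchar w i _ ht'
    have h3 := hchar 1 i t ht
    rw [C.chi_rp R.nsys hg (isRoot_sr cs h i) ht, map_mul, map_mul, map_inv,
      C.chi_rp R.nsys (D.rp' (R := R) hσ hg) (isRoot_sr cs h (σ i)) ((D.tor t).2 ht)] at h2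
    rw [map_one, map_one, Module.End.one_apply, Module.End.one_apply] at h3
    rw [← h2, ← h3]
  refine ⟨fun i => τ 1 i, fun i t ht => ?_, fun w i => ⟨c w i, hc w i, fun a => ?_⟩⟩
  · have h3 := hchar 1 i t ht
    rwa [map_one, map_one, Module.End.one_apply, Module.End.one_apply] at h3
  · rw [hroot, heq]

/-- The field automorphisms of adjacent nodes. -/
theorem Semi.zpow_eq (H : Coroots A T X χ hh) (hA2 : ∀ i, A i i = 2) {β : MulAut Y}
    {σ : Equiv.Perm I} (D : Diag T X β σ) {hσ : ∀ i j, M (σ i) (σ j) = M i j} {τ : I → F ≃+* F}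
    (S : Semi cs h T X x χ β σ hσ τ) (i j : I) {a : F} (ha : a ≠ 0) :
    τ i a ^ (2 * A j i) = τ j a ^ (2 * A (σ j) (σ i)) := by
  have h1 := (H.mem j (hh j a)).2 ⟨a, ha, rfl⟩
  have h2 : β (hh j a) ∈ T ⊓ (X (sr (σ j)) ⊔ X (-sr (σ j))) := by
    refine ⟨(D.tor _).2 h1.1, ?_⟩
    have h3 : X (sr j) ⊔ X (-sr j) ≤ (X (sr (σ j)) ⊔ X (-sr (σ j))).comap β.toMonoidHom := by
      refine sup_le (fun y hy => ?_) (fun y hy => ?_)
      · exact Subgroup.mem_sup_left ((D.pos j y).2 hy)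
      · exact Subgroup.mem_sup_right ((D.neg j y).2 hy)
    exact h3 h1.2
  obtain ⟨b, hb, e⟩ := (H.mem _ _).1 h2
  have h3 : ∀ i, τ i a ^ A j i = b ^ A (σ j) (σ i) := by
    intro i
    have h4 := S.char i (hh j a) h1.1
    rw [← e, H.char _ _ _ hb, H.char _ _ _ ha, map_zpow₀] at h4
    exact h4.symm
  have h4 := h3 j
  rw [hA2, hA2] at h4
  rw [mul_comm (2 : ℤ) (A j i), zpow_mul, h3 i, ← zpow_mul, mul_comm _ (2 : ℤ), zpow_mul, zpow_mul, h4]

/-- Ring automorphisms with equal squares are equal. -/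
theorem eq_of_sq {τ τ' : F ≃+* F} (he : ∀ a, a ≠ 0 → τ a ^ 2 = τ' a ^ 2) : τ = τ' := by
  have he' : ∀ a, τ a ^ 2 = τ' a ^ 2 := by
    intro a
    by_cases ha : a = 0
    · rw [ha, map_zero, map_zero]
    · exact he a ha
  ext a
  by_cases h2 : (2 : F) = 0
  · have h3 : (τ a - τ' a) ^ 2 = 0 := by
      have : (τ a - τ' a) ^ 2 = τ a ^ 2 - τ' a ^ 2 + 2 * (τ' a ^ 2 - τ a * τ' a) := by ring
      rw [this, he' a, h2]; ring
    exact sub_eq_zero.1 (pow_eq_zero_iff (two_ne_zero)|>.1 h3)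
  · have h3 := he' (a + 1)
    rw [map_add, map_add, map_one, map_one] at h3
    have h4 : 2 * (τ a - τ' a) = 0 := by
      have : 2 * (τ a - τ' a) = ((τ a + 1) ^ 2 - (τ' a + 1) ^ 2) - (τ a ^ 2 - τ' a ^ 2) := by ring
      rw [this, h3, he' a]; ring
    exact sub_eq_zero.1 ((mul_eq_zero.1 h4).resolve_left h2)

theorem Semi.eq_of_adj (H : Coroots A T X χ hh) (hA2 : ∀ i, A i i = 2) {β : MulAut Y}
    {σ : Equiv.Perm I} (D : Diag T X β σ) {hσ : ∀ i j, M (σ i) (σ j) = M i j} {τ : I → F ≃+* F}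
    (S : Semi cs h T X x χ β σ hσ τ) {i j : I} (h1 : A j i = -1) (h2 : A (σ j) (σ i) = -1) : τ i = τ j := by
  apply eq_of_sq
  intro a ha
  have h3 := S.zpow_eq H hA2 D i j ha
  rw [h1, h2, show (2 : ℤ) * -1 = -((2 : ℕ) : ℤ) from rfl, zpow_neg, zpow_neg, inv_inj, zpow_natCast,
    zpow_natCast] at h3
  exact h3

/-- **One field automorphism** for a connected diagram and `σ` preserving the Cartan matrix. -/
theorem Semi.eq_all (H : Coroots A T X χ hh) {β : MulAut Y} {σ : Equiv.Perm I} (D : Diag T X β σ)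
    {hσ : ∀ i j, M (σ i) (σ j) = M i j} {τ : I → F ≃+* F} (S : Semi cs h T X x χ β σ hσ τ)
    (hA : ∀ i j, A (σ i) (σ j) = A i j)
    (hconn : ∀ J : Set I, J.Nonempty → J ≠ Set.univ → ∃ a ∈ J, ∃ b, b ∉ J ∧ M a b ≠ 2) (i j : I) : τ i = τ j := by
  by_contra hne
  obtain ⟨a, ha, b, hb, hab⟩ := hconn {k | τ k = τ i} ⟨i, rfl⟩ (fun h1 => hne (by
    have h2 : j ∈ {k | τ k = τ i} := by rw [h1]; exact Set.mem_univ j
    exact h2.symm))
  apply hb
  have hab' : a ≠ b := by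
    rintro rfl
    exact hb ha
  show τ b = τ i
  rw [← (show τ a = τ i from ha)]
  rcases h.rel a b hab' with ⟨h1, -, -⟩ | ⟨-, h1, h2⟩ | ⟨-, ⟨h1, -⟩ | ⟨-, h1⟩⟩ | ⟨-, ⟨h1, -⟩ | ⟨-, h1⟩⟩
  · exact absurd h1 hab
  · exact S.eq_of_adj H h.diag D h1 (by rw [hA, h1])
  · exact S.eq_of_adj H h.diag D h1 (by rw [hA, h1])
  · exact (S.eq_of_adj H h.diag D h1 (by rw [hA, h1])).symm
  · exact S.eq_of_adj H h.diag D h1 (by rw [hA, h1])
  · exact (S.eq_of_adj H h.diag D h1 (by rw [hA, h1])).symm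

end Global

end Cfsg.Agent.KFacts.RgdField
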