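import Mathlib
import Cfsg.Agent.Nodes.OppDec
import Cfsg.Agent.Nodes.Coroot
set_option linter.all false

/-!
Root groups of a root group datum in an `A₂`-plane (ODD, D10; facts (F1), (F2)).

* `SL cs h` : the root system is simply laced; `SL.btwn_iff`, `SL.not_btwn`;
* `A2 cs h x y` : the roots `x`, `y` span an `A₂` and `x + y` is a root (no root of a `G₂` in between);
* `exists_mu` : the element `μ(u) ∈ X₋ₓ u X₋ₓ` over the reflection in `x`;
* `A2.comm_eq` : `⁅u, v⁆ = μ(u) v μ(u)⁻¹`; `A2.comm_surj`, `A2.comm_ne_one`, `A2.comm_inj`;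
* `A2.tor_trans` : `T ⊓ ⟨X x, X (-x)⟩` is transitive on the nontrivial elements of `X y`;
* `A2.comm_self` : `X (x + y)` is abelian.
-/

set_option autoImplicit false
set_option linter.unusedSectionVars false

namespace Cfsg.Agent.KFacts.RgdSL

open CoxeterSystem Cfsg.Agent.ChevalleyStructure.CoxeterGeom Cfsg.Agent.Tits.Roots Cfsg.Agent.Tits.Core
  Cfsg.Agent.Tits.Exchange Cfsg.Agent.Nodes.Reps Cfsg.Agent.Nodes.BNOf Cfsg.Agent.Nodes.StabComb
  Cfsg.Agent.Nodes.Bruhat Cfsg.Agent.Nodes.OppDec Cfsg.Agent.Nodes.PosPair Cfsg.Agent.Nodes.Coroot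
open scoped commutatorElement

variable {I W Y : Type*} [Fintype I] [DecidableEq I] [Group W] [Group Y] {M : CoxeterMatrix I}
  {cs : CoxeterSystem M W} {A : I → I → ℤ} {h : IsCartan M A} {p : ℕ} {T : Subgroup Y} {n : I → Y}
  {X : (I → ℤ) → Subgroup Y}

/-! ### Combinatorics -/

/-- The root system is simply laced. -/
def SL (cs : CoxeterSystem M W) (h : IsCartan M A) : Prop :=
  ∀ x y, IsRoot cs h x → IsRoot cs h y → cpr cs h x y = cpr cs h y x

theorem cpr_neg_left [Finite W] (x : I → ℤ) {y : I → ℤ} (hy : IsRoot cs h y) :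
    cpr cs h (-x) y = -cpr cs h x y := cpr_neg cs h x hy

/-- `⟨x, y^∨⟩ ⟨y, x^∨⟩ < 4`. -/
theorem cpr_mul_lt [Finite W] {x y : I → ℤ} (hx : IsRoot cs h x) (hy : IsRoot cs h y) (hxy : x ≠ y)
    (hxy' : x ≠ -y) : cpr cs h x y * cpr cs h y x < 4 := by
  have := Fintype.ofFinite W
  have h1 := gram_pos cs h hx hy hxy hxy'
  have h2 := two_form_cpr cs h x hy
  have h3 := two_form_cpr cs h y hx
  have h4 := form_comm cs h x y
  have h5 := form_pos cs h hx.ne_zero
  have h6 := form_pos cs h hy.ne_zero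
  by_contra hcon
  push Not at hcon
  have h7 : 4 * (form cs h x y * form cs h x y) =
      cpr cs h x y * cpr cs h y x * (form cs h x x * form cs h y y) := by
    have : 4 * (form cs h x y * form cs h x y) = (2 * form cs h x y) * (2 * form cs h y x) := by
      rw [h4]; ring
    rw [this, h2, h3]; ring
  have h8 : 4 * (form cs h x x * form cs h y y) ≤
      cpr cs h x y * cpr cs h y x * (form cs h x x * form cs h y y) :=
    mul_le_mul_of_nonneg_right hcon (mul_pos h5 h6).le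
  linarith

theorem SL.abs_le [Finite W] (hs : SL cs h) {x y : I → ℤ} (hx : IsRoot cs h x) (hy : IsRoot cs h y) (hxy : x ≠ y)
    (hxy' : x ≠ -y) : -1 ≤ cpr cs h x y ∧ cpr cs h x y ≤ 1 := by
  have h1 := cpr_mul_lt hx hy hxy hxy'
  rw [← hs x y hx hy] at h1
  constructor <;> nlinarith

theorem SL.eq_of_cpr [Finite W] (hs : SL cs h) {x y : I → ℤ} (hx : IsRoot cs h x) (hy : IsRoot cs h y)
    (h2 : 2 ≤ cpr cs h x y) : x = y := by
  by_contra hxy
  by_cases hxy' : x = -y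
  · subst hxy'
    rw [cpr_neg_left _ hy, cpr_self cs h hy] at h2
    omega
  · have := (hs.abs_le hx hy hxy hxy').2
    omega

theorem SL.eq_neg_of_cpr [Finite W] (hs : SL cs h) {x y : I → ℤ} (hx : IsRoot cs h x) (hy : IsRoot cs h y)
    (h2 : cpr cs h x y ≤ -2) : x = -y := by
  have := hs.eq_of_cpr hx hy.neg (by rw [cpr_neg_right cs h x hy]; omega)
  exact this

/-- The values of `⟨x, y^∨⟩` in the simply laced case. -/
theorem SL.cases [Finite W] (hs : SL cs h) {x y : I → ℤ} (hx : IsRoot cs h x) (hy : IsRoot cs h y) :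
    (x = y ∧ cpr cs h x y = 2) ∨ (x = -y ∧ cpr cs h x y = -2) ∨
      (x ≠ y ∧ x ≠ -y ∧ -1 ≤ cpr cs h x y ∧ cpr cs h x y ≤ 1) := by
  by_cases hxy : x = y
  · left
    subst hxy
    exact ⟨rfl, cpr_self cs h hx⟩
  by_cases hxy' : x = -y
  · right; left
    subst hxy'
    exact ⟨rfl, by rw [cpr_neg_left _ hy, cpr_self cs h hy]⟩
  · right; right
    exact ⟨hxy, hxy', hs.abs_le hx hy hxy hxy'⟩

theorem isRoot_add [Finite W] {x y : I → ℤ} (hx : IsRoot cs h x) (hy : IsRoot cs h y) (hc : cpr cs h x y = -1) :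
    IsRoot cs h (x + y) := by
  have := isRoot_refl cs h hx hy
  rwa [hc, neg_one_smul, sub_neg_eq_add] at this

theorem isRoot_sub [Finite W] {x y : I → ℤ} (hx : IsRoot cs h x) (hy : IsRoot cs h y) (hc : cpr cs h x y = 1) :
    IsRoot cs h (x - y) := by
  have := isRoot_refl cs h hx hy
  rwa [hc, one_smul] at this

theorem SL.btwn [Finite W] (hs : SL cs h) {x y z : I → ℤ} (hx : IsRoot cs h x) (hy : IsRoot cs h y)
    (hxy : x ≠ y) (hxy' : x ≠ -y) (hz : Btwn cs h x y z) : cpr cs h x y = -1 ∧ z = x + y := by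
  obtain ⟨hzr, m, a, b, hm, ha, hb, he⟩ := hz
  have e1 : m * cpr cs h z x = 2 * a + b * cpr cs h y x := by
    rw [← cpr_smul cs h m z hx, he, cpr_add cs h _ _ hx, cpr_smul cs h a x hx, cpr_smul cs h b y hx,
      cpr_self cs h hx]; ring
  have e2 : m * cpr cs h z y = a * cpr cs h x y + 2 * b := by
    rw [← cpr_smul cs h m z hy, he, cpr_add cs h _ _ hy, cpr_smul cs h a x hy, cpr_smul cs h b y hy,
      cpr_self cs h hy]; ring
  have e3 : m * 2 = a * cpr cs h x z + b * cpr cs h y z := by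
    have h1 := cpr_smul cs h m z hzr
    rw [he, cpr_add cs h _ _ hzr, cpr_smul cs h a x hzr, cpr_smul cs h b y hzr, cpr_self cs h hzr] at h1
    exact h1.symm
  rw [hs y x hy hx] at e1
  rw [hs x z hx hzr, hs y z hy hzr] at e3
  have hlin : ∀ c : ℤ, z ≠ c • x := by
    rintro c rfl
    have h1 : (m * c - a) • x = b • y := by
      rw [sub_smul, mul_smul, he]; abel
    by_cases h2 : m * c - a = 0
    · rw [h2, zero_smul] at h1
      exact hy.ne_zero ((smul_eq_zero.1 h1.symm).resolve_left hb.ne')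
    · rcases eq_or_eq_neg_of_smul cs h hx hy h2 h1 with h3 | h3
      · exact hxy h3
      · exact hxy' h3
  have hlin' : ∀ c : ℤ, z ≠ c • y := by
    rintro c rfl
    have h1 : a • x = (m * c - b) • y := by
      rw [sub_smul, mul_smul, he]; abel
    rcases eq_or_eq_neg_of_smul cs h hx hy ha.ne' h1 with h3 | h3
    · exact hxy h3
    · exact hxy' h3
  have hb1 := hs.abs_le hzr hx (by simpa using hlin 1) (by simpa using hlin (-1))
  have hb2 := hs.abs_le hzr hy (by simpa using hlin' 1) (by simpa using hlin' (-1))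
  have hb3 := hs.abs_le hx hy hxy hxy'
  generalize cpr cs h z x = P at *
  generalize cpr cs h z y = Q at *
  generalize hc : cpr cs h x y = c at *
  have hP : P = -1 ∨ P = 0 ∨ P = 1 := by omega
  have hQ : Q = -1 ∨ Q = 0 ∨ Q = 1 := by omega
  have hC : c = -1 ∨ c = 0 ∨ c = 1 := by omega
  rcases hC with rfl | rfl | rfl <;> rcases hP with rfl | rfl | rfl <;> rcases hQ with rfl | rfl | rfl <;>
    first
    | (exfalso; omega)
    | (refine ⟨rfl, ?_⟩
       have h1 : a = m := by omega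
       have h2 : b = m := by omega
       rw [h1, h2, ← smul_add] at he
       exact smul_right_injective _ hm.ne' he)

theorem SL.not_btwn [Finite W] (hs : SL cs h) {x y : I → ℤ} (hx : IsRoot cs h x) (hy : IsRoot cs h y)
    (hxy : x ≠ y) (hc : 0 ≤ cpr cs h x y) (z : I → ℤ) : ¬ Btwn cs h x y z := by
  intro hz
  have hxy' : x ≠ -y := by
    rintro rfl
    rw [cpr_neg_left _ hy, cpr_self cs h hy] at hc
    omega
  have := (hs.btwn hx hy hxy hxy' hz).1
  omega

theorem SL.btwn_eq [Finite W] (hs : SL cs h) {x y : I → ℤ} (hx : IsRoot cs h x) (hy : IsRoot cs h y)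
    (hc : cpr cs h x y = -1) {z : I → ℤ} (hz : Btwn cs h x y z) : z = x + y := by
  have hxy : x ≠ y := by
    rintro rfl
    rw [cpr_self cs h hx] at hc; omega
  have hxy' : x ≠ -y := by
    rintro rfl
    rw [cpr_neg_left _ hy, cpr_self cs h hy] at hc
    omega
  exact (hs.btwn hx hy hxy hxy' hz).2

theorem btwn_neg_iff {x y z : I → ℤ} : Btwn cs h (-x) (-y) (-z) ↔ Btwn cs h x y z := by
  have key : ∀ {x y z : I → ℤ}, Btwn cs h x y z → Btwn cs h (-x) (-y) (-z) := by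
    rintro x y z ⟨hz, m, a, b, hm, ha, hb, he⟩
    exact ⟨hz.neg, m, a, b, hm, ha, hb, by rw [smul_neg, he, smul_neg, smul_neg, neg_add]⟩
  refine ⟨fun hz => ?_, key⟩
  have := key hz
  rwa [neg_neg, neg_neg, neg_neg] at this

/-- The roots `x`, `y` at 120 degrees and of the same length; there is no root between `x` and `y` but `x + y`, etc. -/
structure A2 (cs : CoxeterSystem M W) (h : IsCartan M A) (x y : I → ℤ) : Prop where
  rx : IsRoot cs h x
  ry : IsRoot cs h y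
  cxy : cpr cs h x y = -1
  cyx : cpr cs h y x = -1
  b1 : ∀ z, Btwn cs h x y z → z = x + y
  b2 : ∀ z, ¬ Btwn cs h (-x) y z
  b3 : ∀ z, Btwn cs h (-x) (x + y) z → z = y
  b4 : ∀ z, Btwn cs h (-y) (x + y) z → z = x
  b5 : ∀ z, ¬ Btwn cs h (x + y) y z
  b6 : ∀ z, ¬ Btwn cs h (x + y) x z

theorem A2.symm {x y : I → ℤ} (hA : A2 cs h x y) : A2 cs h y x where
  rx := hA.ry
  ry := hA.rx
  cxy := hA.cyx
  cyx := hA.cxy
  b1 z hz := by rw [add_comm]; exact hA.b1 z hz.symm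
  b2 z hz := by
    refine hA.b2 (-z) ?_
    have := btwn_neg_iff.2 hz
    rw [neg_neg] at this
    exact this.symm
  b3 z hz := by rw [add_comm] at hz; exact hA.b4 z hz
  b4 z hz := by rw [add_comm] at hz; exact hA.b3 z hz
  b5 z hz := by rw [add_comm] at hz; exact hA.b6 z hz
  b6 z hz := by rw [add_comm] at hz; exact hA.b5 z hz

theorem A2.ne {x y : I → ℤ} [Finite W] (hA : A2 cs h x y) : x ≠ y := by
  rintro rfl
  have := hA.cxy
  rw [cpr_self cs h hA.rx] at this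
  omega

theorem A2.ne_neg {x y : I → ℤ} [Finite W] (hA : A2 cs h x y) : x ≠ -y := by
  intro h0
  have h1 := hA.cxy
  rw [h0, cpr_neg_left _ hA.ry, cpr_self cs h hA.ry] at h1
  omega

theorem A2.rxy {x y : I → ℤ} [Finite W] (hA : A2 cs h x y) : IsRoot cs h (x + y) :=
  isRoot_add hA.rx hA.ry hA.cxy

theorem SL.a2 [Finite W] (hs : SL cs h) {x y : I → ℤ} (hx : IsRoot cs h x) (hy : IsRoot cs h y)
    (hc : cpr cs h x y = -1) : A2 cs h x y := by
  have hc' : cpr cs h y x = -1 := by rw [← hs x y hx hy, hc]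
  have hr := isRoot_add hx hy hc
  have hxy : x ≠ y := by
    rintro rfl
    rw [cpr_self cs h hx] at hc; omega
  have hxy' : x ≠ -y := by
    rintro rfl
    rw [cpr_neg_left _ hy, cpr_self cs h hy] at hc
    omega
  refine ⟨hx, hy, hc, hc', fun z hz => hs.btwn_eq hx hy hc hz, ?_, ?_, ?_, ?_, ?_⟩
  · refine fun z => hs.not_btwn hx.neg hy ?_ (by rw [cpr_neg_left _ hy, hc]; omega) z
    rintro rfl
    exact hxy' (neg_neg x).symm
  · intro z hz
    have h1 := hs.btwn_eq hx.neg hr (by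
      rw [cpr_neg_left _ hr, hs x _ hx hr, cpr_add cs h _ _ hx, cpr_self cs h hx, hc']; norm_num) hz
    rw [h1]; abel
  · intro z hz
    have h1 := hs.btwn_eq hy.neg hr (by
      rw [cpr_neg_left _ hr, hs y _ hy hr, cpr_add cs h _ _ hy, cpr_self cs h hy, hc]; norm_num) hz
    rw [h1]; abel
  · refine hs.not_btwn hr hy ?_ (by rw [cpr_add cs h _ _ hy, cpr_self cs h hy, hc]; norm_num)
    intro h0
    exact hx.ne_zero (by simpa using h0)
  · refine hs.not_btwn hr hx ?_ (by rw [cpr_add cs h _ _ hx, cpr_self cs h hx, hc']; norm_num)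
    intro h0
    exact hy.ne_zero (by simpa using h0)

/-! ### The elements `μ(u)` -/

theorem btw_eq_bot {x y : I → ℤ} (hb : ∀ z, ¬ Btwn cs h x y z) : Nodes.Reps.btw cs h X x y = ⊥ := by
  unfold Nodes.Reps.btw
  rw [eq_bot_iff]
  refine iSup_le ?_
  rintro ⟨z, hz⟩
  exact absurd hz (hb z)

theorem btw_le_of {x y w : I → ℤ} (hb : ∀ z, Btwn cs h x y z → z = w) : Nodes.Reps.btw cs h X x y ≤ X w := by
  unfold Nodes.Reps.btw
  refine iSup_le ?_
  rintro ⟨z, hz⟩
  show X z ≤ X w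
  rw [hb z hz]

variable (R : RGD cs h p T n X)

include R

theorem comm_of_not_btwn [Finite W] {x y : I → ℤ} (hx : IsRoot cs h x) (hy : IsRoot cs h y) (hxy : x ≠ y)
    (hxy' : x ≠ -y) (hb : ∀ z, ¬ Btwn cs h x y z) {u v : Y} (hu : u ∈ X x) (hv : v ∈ X y) : u * v = v * u := by
  have h1 := R.comm x y hx hy hxy hxy' u hu v hv
  rw [btw_eq_bot hb, Subgroup.mem_bot, commutatorElement_eq_one_iff_mul_comm] at h1
  exact h1

/-- `μ(u)`. -/
theorem exists_mu [Finite W] {x : I → ℤ} (hx : IsRoot cs h x) {u : Y} (hu : u ∈ X x) (hu1 : u ≠ 1) :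
    ∃ s : W, (∀ y, rep cs h s y = y - cpr cs h y x • x) ∧ ∃ a ∈ X (-x), ∃ b ∈ X (-x), ∃ m : Y,
      Rp cs R.nsys s m ∧ m = a * u * b := by
  obtain ⟨w, i, rfl⟩ := hx
  obtain ⟨g, hg⟩ := exists_rp cs R.nsys (w * cs.simple i)
  have hsr := isRoot_sr cs h i
  have h1 : rep cs h (w * cs.simple i)⁻¹ (rep cs h w (sr i)) = -sr i := by
    rw [mul_inv_rev, rep_mul_apply, rep_inv_apply, cs.inv_simple, rep_simple_sr]
  have h2 : rep cs h (w * cs.simple i) (sr i) = -rep cs h w (sr i) := by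
    rw [rep_mul_apply, rep_simple_sr, map_neg]
  have h3 := R.conj_mem' hg (hsr.act w) hu
  rw [h1] at h3
  obtain ⟨a, ha, t, ht, b, hb, e⟩ := R.rk1 i _ h3 (by
    intro h4
    apply hu1
    have : u = g * (g⁻¹ * u * g) * g⁻¹ := by group
    rw [this, h4]; group)
  refine ⟨w * cs.simple i * w⁻¹, fun y => rep_rfl'_eq cs h w i y, g * a⁻¹ * g⁻¹, ?_, g * b⁻¹ * g⁻¹, ?_,
    g * (t * n i) * g⁻¹, ?_, ?_⟩
  · have := R.conj_mem hg hsr (inv_mem ha)
    rwa [h2] at this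
  · have := R.conj_mem hg hsr (inv_mem hb)
    rwa [h2] at this
  · have h5 : Rp cs R.nsys (cs.simple i) (t * n i) := by
      have := (rp_of_mem (cs := cs) (hN := R.nsys) ht).mul (rp_simple cs R.nsys i)
      rwa [one_mul] at this
    have h6 := (hg.mul h5).mul hg.inv
    have h7 : w * cs.simple i * cs.simple i * (w * cs.simple i)⁻¹ = w * cs.simple i * w⁻¹ := by
      rw [mul_inv_rev, cs.inv_simple, mul_assoc w, cs.simple_mul_simple_self, mul_one, mul_assoc]
    rwa [h7] at h6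
  · have : t * n i = a⁻¹ * (g⁻¹ * u * g) * b⁻¹ := by rw [e]; group
    rw [this]; group

/-! ### Commutators in an `A₂`-plane -/

namespace A2

variable [Finite W] {x y : I → ℤ} (hA : A2 cs h x y)

include hA

/-- `⁅u, v⁆ ∈ X (x + y)`. -/
theorem comm_mem {u v : Y} (hu : u ∈ X x) (hv : v ∈ X y) : ⁅u, v⁆ ∈ X (x + y) :=
  btw_le_of hA.b1 (R.comm x y hA.rx hA.ry hA.ne hA.ne_neg u hu v hv)

theorem comm_right {u v : Y} (hu : u ∈ X (x + y)) (hv : v ∈ X y) : u * v = v * u := by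
  refine comm_of_not_btwn R hA.rxy hA.ry ?_ ?_ hA.b5 hu hv
  · intro h0
    exact hA.rx.ne_zero (by simpa using h0)
  · intro h0
    have h1 : x = (-2 : ℤ) • y := by
      have : x = (x + y) - y := by abel
      rw [this, h0]; module
    have := isUnit_of_smul cs h hA.rx (-2) h1
    rw [Int.isUnit_iff] at this
    omega

theorem comm_left {u v : Y} (hu : u ∈ X (x + y)) (hv : v ∈ X x) : u * v = v * u := by
  have h1 := comm_right R hA.symm (u := u) (v := v) (by rwa [add_comm]) hv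
  exact h1

/-- **(F1)** `⁅u, v⁆ = μ(u) v μ(u)⁻¹`. -/
theorem comm_eq {u v : Y} (hu : u ∈ X x) (hv : v ∈ X y) {a b m : Y} (ha : a ∈ X (-x)) (hb : b ∈ X (-x)) {s : W}
    (hs : ∀ y, rep cs h s y = y - cpr cs h y x • x) (hm : Rp cs R.nsys s m) (he : m = a * u * b) :
    ⁅u, v⁆ = m * v * m⁻¹ := by
  have hnx : -x ≠ y := fun h0 => hA.ne_neg (by rw [← h0, neg_neg])
  have hnx' : -x ≠ -y := fun h0 => hA.ne (neg_injective h0)
  have e1 : b * v = v * b := comm_of_not_btwn R hA.rx.neg hA.ry hnx hnx' hA.b2 hb hv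
  have hsy : rep cs h s y = x + y := by rw [hs, hA.cyx, neg_one_smul, sub_neg_eq_add, add_comm]
  have h1 : m * v * m⁻¹ ∈ X (x + y) := by
    have := R.conj_mem hm hA.ry hv
    rwa [hsy] at this
  have h2 := comm_mem R hA hu hv
  have h3 : ⁅a, ⁅u, v⁆⁆ ∈ X y := by
    refine btw_le_of hA.b3 (R.comm (-x) (x + y) hA.rx.neg hA.rxy ?_ ?_ a ha _ h2)
    · intro h0
      have h4 : y = (-2 : ℤ) • x := by
        have : y = (x + y) - x := by abel
        rw [this, ← h0]; module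
      have := isUnit_of_smul cs h hA.ry (-2) h4
      rw [Int.isUnit_iff] at this
      omega
    · intro h0
      rw [neg_inj] at h0
      exact hA.ry.ne_zero (by simpa using h0.symm)
  have e2 : m * v * m⁻¹ = ⁅a, ⁅u, v⁆⁆ * (⁅u, v⁆ * (a * v * a⁻¹)) := by
    have h4 : b * v * b⁻¹ = v := by rw [e1]; group
    have h5 : m * v * m⁻¹ = a * u * (b * v * b⁻¹) * u⁻¹ * a⁻¹ := by rw [he]; group
    rw [h5, h4, commutatorElement_def, commutatorElement_def]; group
  have e3 : a * v = v * a := comm_of_not_btwn R hA.rx.neg hA.ry hnx hnx' hA.b2 ha hv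
  have e4 : a * v * a⁻¹ = v := by rw [e3]; group
  rw [e4] at e2
  have e5 : ⁅u, v⁆ * v = v * ⁅u, v⁆ := comm_right R hA h2 hv
  rw [e5, ← mul_assoc] at e2
  have h6 : ⁅a, ⁅u, v⁆⁆ * v ∈ X y := mul_mem h3 hv
  have h7 : ⁅a, ⁅u, v⁆⁆ * v ∈ X (x + y) := by
    have : ⁅a, ⁅u, v⁆⁆ * v = m * v * m⁻¹ * ⁅u, v⁆⁻¹ := by rw [e2]; group
    rw [this]
    exact mul_mem h1 (inv_mem h2)
  have h8 : ⁅a, ⁅u, v⁆⁆ * v = 1 := by
    have h9 := X_inf_X R hA.ry hA.rxy (by
      intro h0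
      exact hA.rx.ne_zero (by simpa using h0.symm))
    have : ⁅a, ⁅u, v⁆⁆ * v ∈ X y ⊓ X (x + y) := ⟨h6, h7⟩
    rwa [h9, Subgroup.mem_bot] at this
  rw [e2, h8, one_mul]

theorem exists_mu' {u : Y} (hu : u ∈ X x) (hu1 : u ≠ 1) : ∃ s : W,
    (∀ y, rep cs h s y = y - cpr cs h y x • x) ∧ ∃ m ∈ X x ⊔ X (-x), Rp cs R.nsys s m ∧
      ∀ v ∈ X y, ⁅u, v⁆ = m * v * m⁻¹ := by
  obtain ⟨s, hs, a, ha, b, hb, m, hm, he⟩ := exists_mu R hA.rx hu hu1
  refine ⟨s, hs, m, ?_, hm, fun v hv => comm_eq R hA hu hv ha hb hs hm he⟩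
  rw [he]
  exact mul_mem (mul_mem (Subgroup.mem_sup_right ha) (Subgroup.mem_sup_left hu)) (Subgroup.mem_sup_right hb)

/-- **(F1)** `v ↦ ⁅u, v⁆` maps `X y` onto `X (x + y)`. -/
theorem comm_surj {u : Y} (hu : u ∈ X x) (hu1 : u ≠ 1) {w : Y} (hw : w ∈ X (x + y)) : ∃ v ∈ X y, ⁅u, v⁆ = w := by
  obtain ⟨s, hs, m, -, hm, he⟩ := exists_mu' R hA hu hu1
  have h1 : rep cs h s⁻¹ (x + y) = y := by
    have hsy : rep cs h s y = x + y := by rw [hs, hA.cyx, neg_one_smul, sub_neg_eq_add, add_comm]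
    rw [← hsy, rep_inv_apply]
  have h2 : m⁻¹ * w * m ∈ X y := by
    have := R.conj_mem' hm hA.rxy hw
    rwa [h1] at this
  refine ⟨_, h2, ?_⟩
  rw [he _ h2]; group

/-- The map `v ↦ ⁅u, v⁆` on `X y` is multiplicative. -/
theorem comm_mul {u : Y} (hu : u ∈ X x) {v v' : Y} (hv : v ∈ X y) (hv' : v' ∈ X y) :
    ⁅u, v * v'⁆ = ⁅u, v⁆ * ⁅u, v'⁆ := by
  by_cases hu1 : u = 1
  · subst hu1
    simp [commutatorElement_def]
  obtain ⟨s, hs, m, -, hm, he⟩ := exists_mu' R hA hu hu1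
  rw [he _ (mul_mem hv hv'), he _ hv, he _ hv']; group

theorem comm_inj {u : Y} (hu : u ∈ X x) (hu1 : u ≠ 1) {v v' : Y} (hv : v ∈ X y) (hv' : v' ∈ X y)
    (he : ⁅u, v⁆ = ⁅u, v'⁆) : v = v' := by
  obtain ⟨s, hs, m, -, hm, hc⟩ := exists_mu' R hA hu hu1
  rw [hc _ hv, hc _ hv'] at he
  have : m * v = m * v' := mul_right_cancel he
  exact mul_left_cancel this

theorem comm_ne_one {u v : Y} (hu : u ∈ X x) (hu1 : u ≠ 1) (hv : v ∈ X y) (hv1 : v ≠ 1) : ⁅u, v⁆ ≠ 1 := by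
  intro h0
  apply hv1
  refine comm_inj R hA hu hu1 hv (one_mem _) ?_
  rw [h0]; simp [commutatorElement_def]

/-- Two elements of `X (x + y)` commute. -/
theorem comm_self {u v : Y} (hu : u ∈ X (x + y)) (hv : v ∈ X (x + y)) : u * v = v * u := by
  obtain ⟨a, ha, ha1⟩ : ∃ a ∈ X x, a ≠ 1 := by
    have := X_ne_bot R hA.rx
    rw [Subgroup.ne_bot_iff_exists_ne_one] at this
    obtain ⟨⟨a, ha⟩, h1⟩ := this
    exact ⟨a, ha, fun h2 => h1 (Subtype.ext h2)⟩
  obtain ⟨b, hb, rfl⟩ := comm_surj R hA ha ha1 hu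
  have h1 := comm_left R hA hv ha
  have h2 := comm_right R hA hv hb
  have e1 : Commute v a := h1
  have e2 : Commute v b := h2
  have : Commute v ⁅a, b⁆ := by
    rw [commutatorElement_def]
    exact ((e1.mul_right e2).mul_right e1.inv_right).mul_right e2.inv_right
  exact this.eq.symm

/-- **(F2)** `T ⊓ ⟨X x, X (-x)⟩` is transitive on the nontrivial elements of `X y`. -/
theorem tor_trans {v v' : Y} (hv : v ∈ X y) (hv1 : v ≠ 1) (hv' : v' ∈ X y) (hv1' : v' ≠ 1) :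
    ∃ t ∈ T ⊓ (X x ⊔ X (-x)), t * v * t⁻¹ = v' := by
  obtain ⟨a, ha, ha1⟩ : ∃ a ∈ X x, a ≠ 1 := by
    have := X_ne_bot R hA.rx
    rw [Subgroup.ne_bot_iff_exists_ne_one] at this
    obtain ⟨⟨a, ha⟩, h1⟩ := this
    exact ⟨a, ha, fun h2 => h1 (Subtype.ext h2)⟩
  have h1 := comm_mem R hA ha hv
  obtain ⟨b, hb, e⟩ := comm_surj R hA.symm hv' hv1' (w := ⁅a, v⁆⁻¹) (by rw [add_comm]; exact inv_mem h1)
  have e' : ⁅b, v'⁆ = ⁅a, v⁆ := by
    rw [← commutatorElement_inv, e, inv_inv]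
  have hb1 : b ≠ 1 := by
    rintro rfl
    apply comm_ne_one R hA ha ha1 hv hv1
    rw [← e']; simp [commutatorElement_def]
  obtain ⟨s, hs, m, hm0, hm, hc⟩ := exists_mu' R hA ha ha1
  obtain ⟨s', hs', m', hm0', hm', hc'⟩ := exists_mu' R hA hb hb1
  have hss : s = s' := by
    have : s'⁻¹ * s = 1 := by
      refine eq_one_of_fix cs h _ fun i => ?_
      have h3 : rep cs h s (sr i) = rep cs h s' (sr i) := by rw [hs, hs']
      show rep cs h (s'⁻¹ * s) (sr i) = sr i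
      rw [rep_mul_apply, h3, rep_inv_apply]
    exact (inv_mul_eq_one.1 this).symm
  subst hss
  refine ⟨m'⁻¹ * m, Subgroup.mem_inf.2 ⟨hm'.unique hm, mul_mem (inv_mem hm0') hm0⟩, ?_⟩
  rw [hc _ hv, hc' _ hv'] at e'
  calc m'⁻¹ * m * v * (m'⁻¹ * m)⁻¹ = m'⁻¹ * (m * v * m⁻¹) * m' := by group
    _ = m'⁻¹ * (m' * v' * m'⁻¹) * m' := by rw [e']
    _ = v' := by group

end A2

end Cfsg.Agent.KFacts.RgdSL
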