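import Cfsg.Agent.KFacts.MulTwo
set_option linter.all false

/-!
# The 2-part of the Schur multiplier: definitions and reductions

* `Dbl π c`: `π : L → X` is a surjective homomorphism of the perfect group `L` with kernel `{1, c}` of order 2.
* `NoDouble X`: there is no finite such `L`.
* `NoDouble.false`, `NoDouble.congr`: change of universe, transport.
* `NoDouble.odd_card`: a central subgroup `Z` of the finite perfect group `K` with `K / Z ≃* X` has odd order.
* `noFour`: (C4) no cyclic 4.
-/

set_option autoImplicit false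
set_option linter.style.haveILetI false

namespace Cfsg.Agent.KFacts.MulDef

open Subgroup Cfsg.Agent.KFacts.MulTwo
open scoped commutatorElement

universe u v

/-- `π : L → X` is a perfect double cover with kernel `{1, c}`. -/
structure Dbl {L X : Type*} [Group L] [Group X] (π : L →* X) (c : L) : Prop extends Ctr c where
  surj : Function.Surjective π
  ker : ∀ x, π x = 1 ↔ x = 1 ∨ x = c

/-- `X` has no perfect double cover. -/
def NoDouble (X : Type v) [Group X] : Prop :=
  ∀ (L : Type) [Group L] [Finite L] (π : L →* X) (c : L), ¬ Dbl π c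

theorem commutator_top_of_surj {L M : Type*} [Group L] [Group M] (f : L →* M)
    (hf : Function.Surjective f) (hL : commutator L = ⊤) : commutator M = ⊤ := by
  rw [commutator_def, ← Subgroup.map_top_of_surjective f hf, ← Subgroup.map_commutator,
    ← commutator_def, hL]

theorem Dbl.of_equiv {L M X Y : Type*} [Group L] [Group M] [Group X] [Group Y] {π : L →* X} {c : L}
    (h : Dbl π c) (e : L ≃* M) (f : X ≃* Y) : Dbl ((f.toMonoidHom.comp π).comp e.symm.toMonoidHom) (e c) where
  ne := fun h1 => h.ne (by simpa using congrArg e.symm h1)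
  sq := by rw [← map_mul, h.sq, map_one]
  cen := fun x => by
    have := congrArg e (h.cen (e.symm x))
    simpa using this
  perf := commutator_top_of_surj e.toMonoidHom e.surjective h.perf
  surj := f.surjective.comp (h.surj.comp e.symm.surjective)
  ker := fun x => by
    have h1 := h.ker (e.symm x)
    show f (π (e.symm x)) = 1 ↔ _
    rw [map_eq_one_iff f f.injective, h1]
    constructor
    · rintro (h2 | h2)
      · left; simpa using congrArg e h2
      · right; simpa using congrArg e h2
    · rintro (rfl | rfl)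
      · left; simp
      · right; simp

/-- change of universe -/
theorem NoDouble.false {X : Type v} [Group X] (h : NoDouble X) {L : Type u} [Group L] [Finite L]
    {π : L →* X} {c : L} (hd : Dbl π c) : False := by
  have : Small.{0} L := by
    obtain ⟨n, ⟨e⟩⟩ := Finite.exists_equiv_fin L
    exact small_map e
  let e : L ≃* Shrink.{0} L := (Shrink.mulEquiv (α := L)).symm
  have : Finite (Shrink.{0} L) := Finite.of_equiv L e.toEquiv
  exact h (Shrink.{0} L) _ _ (hd.of_equiv e (MulEquiv.refl X))

theorem NoDouble.congr {X : Type u} {Y : Type v} [Group X] [Group Y] (h : NoDouble X) (e : X ≃* Y) :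
    NoDouble Y := fun L _ _ _ _ hd => h.false (hd.of_equiv (MulEquiv.refl L) e.symm)

/-- A finite abelian group (a central subgroup) of even order has a subgroup of index 2. -/
theorem exists_index_two {K : Type u} [Group K] [Finite K] {Z : Subgroup K} (hZ : Z ≤ center K)
    (h2 : 2 ∣ Nat.card Z) : ∃ Z₀ : Subgroup K, Z₀ ≤ Z ∧ Nat.card Z = 2 * Nat.card Z₀ := by
  classical
  have hcomm : ∀ a ∈ Z, ∀ b : K, a * b = b * a := fun a ha b => (mem_center_iff.1 (hZ ha) b).symm
  -- the squares
  let s : Z →* Z :=
    { toFun := fun x => x * x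
      map_one' := by simp
      map_mul' := fun x y => by
        have : (x * y : Z) = y * x := Subtype.ext (hcomm x x.2 y)
        calc x * y * (x * y) = x * (y * x) * y := by group
          _ = x * (x * y) * y := by rw [← this]
          _ = _ := by group }
  have hs : s.range ≠ ⊤ := by
    intro htop
    have hsurj : Function.Surjective s := MonoidHom.range_eq_top.1 htop
    have hinj : Function.Injective s := Finite.injective_iff_surjective.2 hsurj
    obtain ⟨x, hx⟩ := exists_prime_orderOf_dvd_card' (G := Z) 2 h2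
    have hx2 : s x = s 1 := by
      show x * x = 1 * 1
      have := pow_orderOf_eq_one x
      rw [hx, pow_two] at this
      rw [this, one_mul]
    have := hinj hx2
    rw [this, orderOf_one] at hx
    omega
  obtain ⟨M, hM, hle⟩ := (eq_top_or_exists_le_coatom s.range).resolve_left hs
  have hMn : M.Normal := ⟨fun n hn g => by
    have : g * n * g⁻¹ = n := by
      have h1 : (g * n : Z) = n * g := Subtype.ext (hcomm g g.2 n)
      rw [h1, mul_inv_cancel_right]
    rwa [this]⟩
  -- index 2
  have hidx : M.index = 2 := by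
    have hlt : M < ⊤ := hM.lt_top
    obtain ⟨a, -, ha⟩ := SetLike.exists_of_lt hlt
    have hsup : M ⊔ zpowers a = ⊤ := by
      apply hM.2
      refine lt_of_le_of_ne le_sup_left ?_
      intro h
      apply ha
      rw [h]
      exact mem_sup_right (mem_zpowers a)
    have haa : a * a ∈ M := hle ⟨a, rfl⟩
    rw [index_eq_two_iff]
    refine ⟨a, fun b => ?_⟩
    have hb : b ∈ M ⊔ zpowers a := by rw [hsup]; trivial
    rw [mem_sup_of_normal_left] at hb
    obtain ⟨m, hm, w, hw, rfl⟩ := hb
    obtain ⟨k, rfl⟩ := mem_zpowers_iff.1 hw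
    have key : ∀ k : ℤ, a ^ (2 * k) ∈ M := fun k => by
      rw [zpow_mul]
      apply zpow_mem
      have : a ^ (2 : ℤ) = a * a := by rw [zpow_ofNat, pow_two]
      rwa [this]
    rcases Int.even_or_odd' k with ⟨j, rfl | rfl⟩
    · right
      refine ⟨mul_mem hm (key j), fun h => ha ?_⟩
      have := mul_mem (inv_mem (mul_mem hm (key j))) h
      rwa [← mul_assoc, inv_mul_cancel, one_mul] at this
    · left
      refine ⟨?_, fun h => ha ?_⟩
      · have h1 : m * a ^ (2 * j + 1) * a = m * a ^ (2 * (j + 1)) := by
          rw [mul_assoc, ← zpow_add_one]; congr 2; ring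
        rw [h1]
        exact mul_mem hm (key _)
      · have h2 := mul_mem (inv_mem (mul_mem hm (key j))) h
        have h3 : (m * a ^ (2 * j))⁻¹ * (m * a ^ (2 * j + 1)) = a := by
          rw [zpow_add_one]; group
        rwa [h3] at h2
  refine ⟨M.map Z.subtype, map_subtype_le M, ?_⟩
  rw [card_map_of_injective Z.subtype_injective, ← hidx, mul_comm]
  exact (M.card_mul_index).symm

/-- A central subgroup `Z` of the finite perfect group `K` with `K / Z ≃* X`, `X` without perfect double cover, has odd
order. -/
theorem NoDouble.odd_card {X : Type v} [Group X] (h : NoDouble X) {K : Type u} [Group K] [Finite K]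
    (hK : commutator K = ⊤) {f : K →* X} (hf : Function.Surjective f) (hZ : f.ker ≤ center K) :
    Odd (Nat.card f.ker) := by
  classical
  rw [← Nat.not_even_iff_odd]
  intro heven
  obtain ⟨Z₀, hle, hcard⟩ := exists_index_two hZ heven.two_dvd
  have hcomm : ∀ a ∈ f.ker, ∀ b : K, b * a = a * b := fun a ha b => mem_center_iff.1 (hZ ha) b
  have hn : Z₀.Normal := ⟨fun n hn g => by
    rw [hcomm n (hle hn) g, mul_inv_cancel_right]; exact hn⟩
  let q := QuotientGroup.mk' Z₀
  have hq : Function.Surjective q := QuotientGroup.mk'_surjective _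
  let π : K ⧸ Z₀ →* X := QuotientGroup.lift Z₀ f hle
  have hπ : ∀ x, π (q x) = f x := fun _ => rfl
  have hlt : ∃ c ∈ f.ker, c ∉ Z₀ := by
    by_contra hcon
    push Not at hcon
    have : f.ker = Z₀ := le_antisymm hcon hle
    rw [this] at hcard
    have := Nat.card_pos (α := Z₀)
    omega
  obtain ⟨c, hc, hc0⟩ := hlt
  have hq1 : ∀ x, q x = 1 ↔ x ∈ Z₀ := fun x => QuotientGroup.eq_one_iff x
  -- every element of the kernel is in `Z₀` or in `c Z₀`
  have htwo : ∀ x ∈ f.ker, x ∈ Z₀ ∨ c⁻¹ * x ∈ Z₀ := by
    have hidx : (Z₀.subgroupOf f.ker).index = 2 := by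
      have h1 := (Z₀.subgroupOf f.ker).card_mul_index
      rw [Nat.card_congr (subgroupOfEquivOfLe hle).toEquiv, hcard, mul_comm] at h1
      exact Nat.eq_of_mul_eq_mul_right Nat.card_pos h1
    intro x hx
    by_contra hcon
    push Not at hcon
    have h1 := (Subgroup.mul_mem_iff_of_index_two hidx (a := (⟨c, hc⟩ : f.ker)⁻¹) (b := ⟨x, hx⟩))
    simp only [mem_subgroupOf, coe_mul, coe_inv, inv_mem_iff] at h1
    exact hcon.2 (h1.2 ⟨fun h => absurd h hc0, fun h => absurd h hcon.1⟩)
  refine h.false (L := K ⧸ Z₀) (π := π) (c := q c) ⟨⟨?_, ?_, ?_, ?_⟩, ?_, ?_⟩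
  · exact fun h1 => hc0 ((hq1 c).1 h1)
  · rw [← map_mul, hq1]
    rcases htwo (c * c) (mul_mem hc hc) with h1 | h1
    · exact h1
    · rw [inv_mul_cancel_left] at h1
      exact absurd h1 hc0
  · intro x
    obtain ⟨x, rfl⟩ := hq x
    rw [← map_mul, ← map_mul, hcomm c hc x]
  · exact commutator_top_of_surj q hq hK
  · exact fun y => (hf y).imp' q fun x hx => hx
  · intro x
    obtain ⟨x, rfl⟩ := hq x
    rw [hπ]
    constructor
    · intro hx
      rcases htwo x hx with h1 | h1
      · left; exact (hq1 x).2 h1
      · right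
        have := (hq1 _).2 h1
        rw [map_mul, map_inv] at this
        exact (inv_mul_eq_one.1 this).symm
    · rintro (h1 | h1)
      · exact hle ((hq1 x).1 h1)
      · have h2 : q (c⁻¹ * x) = 1 := by rw [map_mul, map_inv, h1, inv_mul_cancel]
        have h3 := hle ((hq1 _).1 h2)
        have := mul_mem hc h3
        rwa [mul_inv_cancel_left] at this

/-- (C4) If `y` is a central element, `x² ∈ ⟨y⟩` commutes with everything and `[x, w] = y ^ k`, then `y ^ (2k) = 1`:
in particular there is no central `y` of order 4 with `[x, w] = y ^ (± 1)`. -/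
theorem noFour {L : Type*} [Group L] {x w : L} (h2 : ∀ g, x * x * g = g * (x * x))
    (hc : ∀ g, ⁅x, w⁆ * g = g * ⁅x, w⁆) : ⁅x, w⁆ * ⁅x, w⁆ = 1 := by
  have h1 : ⁅x * x, w⁆ = 1 := by
    rw [commutatorElement_def, h2 w]; group
  have h3 : ⁅x * x, w⁆ = x * ⁅x, w⁆ * x⁻¹ * ⁅x, w⁆ := by
    simp only [commutatorElement_def]; group
  rw [h3, ← hc x, mul_inv_cancel_right] at h1
  exact h1

end Cfsg.Agent.KFacts.MulDef
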