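import Mathlib
import Cfsg.Agent.KFacts.RgdSL
import Cfsg.Agent.KFacts.RgdPar
set_option linter.all false

/-!
Root groups as TI-subgroups (ODD, D10; fact (TI)).

* `LR R a` : `X a` is centralised by all `X x` with `⟨x, a^∨⟩ ≥ 0` (all roots in the simply laced case, `LR.of_SL`; long
  roots in general, short roots in characteristic two);
* `LR.normalizer : N(X a) ⊓ GG = PS {x | 0 ≤ ⟨x, a^∨⟩}`;
* `LR.ti` : `1 ≠ z ∈ X a`, `g z g⁻¹ ∈ X b`, `b = w a` ⟹ `g (X a) g⁻¹ = X b`;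
* `LR.mem_centralizer` : `C(z) = C_T(z) ⟨X x : ⟨x, a^∨⟩ ≥ 0⟩`.
-/

set_option autoImplicit false
set_option linter.unusedSectionVars false

namespace Cfsg.Agent.KFacts.RgdTI

open CoxeterSystem Cfsg.Agent.ChevalleyStructure.CoxeterGeom Cfsg.Agent.Tits.Roots Cfsg.Agent.Tits.Core
  Cfsg.Agent.Tits.RootComb Cfsg.Agent.Tits.Exchange Cfsg.Agent.Nodes.Reps Cfsg.Agent.Nodes.BNOf
  Cfsg.Agent.Nodes.StabComb Cfsg.Agent.Nodes.Bruhat Cfsg.Agent.Nodes.OppDec Cfsg.Agent.Nodes.LeviDec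
  Cfsg.Agent.Nodes.NormX Cfsg.Agent.Nodes.Coroot Cfsg.Agent.KFacts.RgdPar Cfsg.Agent.KFacts.RgdSL
open scoped commutatorElement

variable {I W Y : Type*} [Fintype I] [DecidableEq I] [Group W] [Group Y] {M : CoxeterMatrix I}
  {cs : CoxeterSystem M W} {A : I → I → ℤ} {h : IsCartan M A} {p : ℕ} {T : Subgroup Y} {n : I → Y}
  {X : (I → ℤ) → Subgroup Y}

/-- `{x root | 0 ≤ ⟨x, a^∨⟩}` -/
def Ge (cs : CoxeterSystem M W) (h : IsCartan M A) (a : I → ℤ) : Set (I → ℤ) :=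
  {x | IsRoot cs h x ∧ 0 ≤ cpr cs h x a}

theorem half_ell [Finite W] {a : I → ℤ} (ha : IsRoot cs h a) : Half cs h (ell cs h ha) = Ge cs h a := rfl

/-- `X a` is centralised by the root groups `X x` with `⟨x, a^∨⟩ ≥ 0`. -/
structure LR (R : RGD cs h p T n X) (a : I → ℤ) : Prop where
  root : IsRoot cs h a
  comm : ∀ x, IsRoot cs h x → 0 ≤ cpr cs h x a → ∀ u ∈ X x, ∀ v ∈ X a, u * v = v * u

theorem cpr_rep_left [Finite W] (w : W) (x : I → ℤ) {y : I → ℤ} (hy : IsRoot cs h y) :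
    cpr cs h (rep cs h w x) y = cpr cs h x (rep cs h w⁻¹ y) := by
  conv_lhs => rw [← rep_apply_inv cs h w y]
  exact cpr_rep cs h w x (hy.act _)

namespace LR

variable [Finite W] {R : RGD cs h p T n X} {a : I → ℤ}

theorem act (L : LR R a) (w : W) : LR R (rep cs h w a) := by
  refine ⟨L.root.act w, fun x hx hc u hu v hv => ?_⟩
  obtain ⟨k, hk⟩ := exists_rp cs R.nsys w
  have h1 := R.conj_mem' hk hx hu
  have h2 : k⁻¹ * v * k ∈ X a := by
    have := R.conj_mem' hk (L.root.act w) hv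
    rwa [rep_inv_apply] at this
  have h3 := L.comm (rep cs h w⁻¹ x) (hx.act _) (by
    rwa [cpr_rep_left w⁻¹ x L.root, inv_inv]) _ h1 _ h2
  have e1 : u * v = k * ((k⁻¹ * u * k) * (k⁻¹ * v * k)) * k⁻¹ := by group
  have e2 : v * u = k * ((k⁻¹ * v * k) * (k⁻¹ * u * k)) * k⁻¹ := by group
  rw [e1, e2, h3]

theorem of_SL (R : RGD cs h p T n X) (hs : SL cs h) {a b : I → ℤ} (ha : IsRoot cs h a) (hb : IsRoot cs h b)
    (hc : cpr cs h a b = 1) : LR R a := by
  refine ⟨ha, fun x hx hc' u hu v hv => ?_⟩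
  by_cases hxa : x = a
  · subst hxa
    have hA : A2 cs h (x - b) b := by
      refine hs.a2 (isRoot_sub hx hb hc) hb ?_
      rw [sub_eq_add_neg, cpr_add cs h _ _ hb, cpr_neg cs h _ hb, cpr_self cs h hb, hc]; norm_num
    exact hA.comm_self R (by rwa [sub_add_cancel]) (by rwa [sub_add_cancel])
  · refine comm_of_not_btwn R hx ha hxa ?_ (hs.not_btwn hx ha hxa hc') hu hv
    rintro rfl
    rw [cpr_neg_left _ ha, cpr_self cs h ha] at hc'
    omega

variable (L : LR R a)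

include L

theorem Sup_le_centralizer : RGD.Sup X (Ge cs h a) ≤ Subgroup.centralizer (X a : Set Y) := by
  refine RGD.Sup_le fun x hx => ?_
  intro u hu
  rw [Subgroup.mem_centralizer_iff]
  intro v hv
  exact (L.comm x hx.1 hx.2 u hu v hv).symm

theorem comm' {u v : Y} (hu : u ∈ RGD.Sup X (Ge cs h a)) (hv : v ∈ X a) : u * v = v * u :=
  ((Subgroup.mem_centralizer_iff.1 (L.Sup_le_centralizer hu)) v hv).symm

theorem PS_le_normalizer : PS T X (Ge cs h a) ≤ Subgroup.normalizer (X a : Set Y) := by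
  refine sup_le ?_ ?_
  · intro t ht
    rw [mem_normalizer_iff_cj]
    exact R.tor a L.root t ht
  · intro u hu
    have key : ∀ u ∈ RGD.Sup X (Ge cs h a), cj u (X a) ≤ X a := by
      intro u hu b hb
      rw [mem_cj] at hb
      have h1 := L.comm' hu hb
      have h2 : b = u⁻¹ * b * u := by
        calc b = u * (u⁻¹ * b * u) * u⁻¹ := by group
          _ = u⁻¹ * b * u * u * u⁻¹ := by rw [h1]
          _ = _ := by group
      rw [h2]; exact hb
    rw [mem_normalizer_iff_cj]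
    refine le_antisymm (key u hu) ?_
    have h1 := cj_mono u (key u⁻¹ (inv_mem hu))
    rwa [cj_cj_inv] at h1

/-- a dominant conjugate -/
theorem exists_dominant : ∃ w : W, ∀ i, 0 ≤ cpr cs h (sr i) (rep cs h w a) := by
  obtain ⟨w, hw⟩ := exists_dom (cs := cs) (h := h) (ell cs h L.root)
  refine ⟨w⁻¹, fun i => ?_⟩
  have h1 : 0 ≤ cpr cs h (rep cs h w (sr i)) a := hw i
  rwa [cpr_rep_left w _ L.root] at h1

theorem cj_Ge {w : W} {k : Y} (hk : Rp cs R.nsys w k) :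
    cj k (PS T X (Ge cs h a)) = PS T X (Ge cs h (rep cs h w a)) := by
  rw [cj_PS R hk (fun x hx => hx.1)]
  congr 1
  ext x
  constructor
  · intro hx
    have hx' : rep cs h w⁻¹ x ∈ Ge cs h a := hx
    have h1 : IsRoot cs h x := by
      have := hx'.1.act w
      rwa [rep_apply_inv] at this
    refine ⟨h1, ?_⟩
    have h2 := hx'.2
    rwa [cpr_rep_left _ _ L.root, inv_inv] at h2
  · intro hx
    show rep cs h w⁻¹ x ∈ Ge cs h a
    refine ⟨hx.1.act _, ?_⟩
    rw [cpr_rep_left _ _ L.root, inv_inv]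
    exact hx.2

theorem rep_eq_iff {i : I} : rep cs h (cs.simple i) a = a ↔ cpr cs h (sr i) a = 0 := by
  rw [cpr_zero_comm cs h (isRoot_sr cs h i) L.root, cpr_sr, rep_simple_eq, sub_eq_self]
  constructor
  · intro h1
    exact (smul_eq_zero.1 h1).resolve_right (sr_ne_zero i)
  · intro h1
    rw [h1, zero_smul]

/-- **The normaliser of `X a`.** -/
theorem normalizer : Subgroup.normalizer (X a : Set Y) ⊓ GG cs h T X = PS T X (Ge cs h a) := by
  -- the dominant case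
  have key : ∀ {a : I → ℤ}, LR R a → (∀ i, 0 ≤ cpr cs h (sr i) a) →
      Subgroup.normalizer (X a : Set Y) ⊓ GG cs h T X ≤ PS T X (Ge cs h a) := by
    intro a L hd
    have h1 : PS T X (Ge cs h a) = PJ cs h T X {i | ell cs h L.root (sr i) = 0} :=
      PS_half_of_dom (f := ell cs h L.root) hd
    have hB : RGD.B cs h T X ≤ Subgroup.normalizer (X a : Set Y) := by
      refine le_trans ?_ L.PS_le_normalizer
      rw [h1]; exact B_le_PJ
    rw [inf_eq_PJ R hB, h1]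
    have h2 : {i | n i ∈ Subgroup.normalizer (X a : Set Y)} = {i | ell cs h L.root (sr i) = 0} := by
      ext i
      show n i ∈ Subgroup.normalizer (X a : Set Y) ↔ cpr cs h (sr i) a = 0
      rw [← L.rep_eq_iff, mem_normalizer_iff_cj, R.conj i a L.root]
      constructor
      · intro h3
        exact X_injective R (L.root.act _) L.root h3
      · intro h3
        rw [h3]
    rw [h2]
  refine le_antisymm ?_ (le_inf L.PS_le_normalizer (PS_le_GG fun x hx => hx.1))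
  obtain ⟨w, hw⟩ := L.exists_dominant
  obtain ⟨k, hk⟩ := exists_rp cs R.nsys w
  intro g hg
  rw [Subgroup.mem_inf] at hg
  have h1 : k * g * k⁻¹ ∈ Subgroup.normalizer (X (rep cs h w a) : Set Y) ⊓ GG cs h T X := by
    rw [Subgroup.mem_inf]
    have hkG := NN_le_GG R ⟨w, hk⟩
    refine ⟨?_, mul_mem (mul_mem hkG hg.2) (inv_mem hkG)⟩
    rw [← R.conj_rp hk L.root, normalizer_cj]
    exact conj_mem_cj.2 hg.1
  have h2 := key (L.act w) hw h1
  rw [← L.cj_Ge hk] at h2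
  exact conj_mem_cj.1 h2

theorem mem_normalizer_iff {w : W} {k : Y} (hk : Rp cs R.nsys w k) :
    k ∈ Subgroup.normalizer (X a : Set Y) ↔ rep cs h w a = a := by
  rw [mem_normalizer_iff_cj, R.conj_rp hk L.root]
  constructor
  · intro h3
    exact X_injective R (L.root.act _) L.root h3
  · intro h3
    rw [h3]

/-- **The root groups are TI.** -/
theorem ti {w : W} {g z : Y} (hg : g ∈ GG cs h T X) (hz : z ∈ X a) (hz1 : z ≠ 1)
    (hgz : g * z * g⁻¹ ∈ X (rep cs h w a)) : cj g (X a) = X (rep cs h w a) := by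
  -- reduce to `w = 1`
  have key : ∀ {a : I → ℤ}, LR R a → ∀ {g z : Y}, g ∈ GG cs h T X → z ∈ X a → z ≠ 1 → g * z * g⁻¹ ∈ X a →
      (∀ i, 0 ≤ cpr cs h (sr i) a) → cj g (X a) = X a := by
    intro a L g z hg hz hz1 hgz hd
    have h1 : PS T X (Ge cs h a) = PJ cs h T X {i | ell cs h L.root (sr i) = 0} :=
      PS_half_of_dom (f := ell cs h L.root) hd
    have hB : RGD.B cs h T X ≤ Subgroup.normalizer (X a : Set Y) := by
      refine le_trans ?_ L.PS_le_normalizer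
      rw [h1]; exact B_le_PJ
    obtain ⟨v, b₁, hb₁, k, hk, b₂, hb₂, e⟩ := (mem_GG R).1 hg
    have hz' : b₂ * z * b₂⁻¹ ∈ X a := (Subgroup.mem_normalizer_iff.1 (hB hb₂) z).1 hz
    have h2 : k * (b₂ * z * b₂⁻¹) * k⁻¹ ∈ X (rep cs h v a) := R.conj_mem hk L.root hz'
    have h3 : k * (b₂ * z * b₂⁻¹) * k⁻¹ ∈ X a := by
      have h4 := (Subgroup.mem_normalizer_iff.1 (hB (inv_mem hb₁)) _).1 hgz
      have : b₁⁻¹ * (g * z * g⁻¹) * b₁⁻¹⁻¹ = k * (b₂ * z * b₂⁻¹) * k⁻¹ := by rw [e]; group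
      rwa [this] at h4
    have h5 : rep cs h v a = a := by
      by_contra h6
      have h7 : k * (b₂ * z * b₂⁻¹) * k⁻¹ ∈ X (rep cs h v a) ⊓ X a := ⟨h2, h3⟩
      rw [X_inf_X R (L.root.act v) L.root h6, Subgroup.mem_bot] at h7
      apply hz1
      have : z = b₂⁻¹ * (k⁻¹ * (k * (b₂ * z * b₂⁻¹) * k⁻¹) * k) * b₂ := by group
      rw [this, h7]; group
    rw [← mem_normalizer_iff_cj, e]
    exact mul_mem (mul_mem (hB hb₁) ((L.mem_normalizer_iff hk).2 h5)) (hB hb₂)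
  obtain ⟨v, hv⟩ := L.exists_dominant
  obtain ⟨k, hk⟩ := exists_rp cs R.nsys v
  obtain ⟨l, hl⟩ := exists_rp cs R.nsys w
  have hkG := NN_le_GG R ⟨v, hk⟩
  have hlG := NN_le_GG R ⟨w, hl⟩
  have h1 : l⁻¹ * (g * z * g⁻¹) * l ∈ X a := by
    have := R.conj_mem' hl (L.root.act w) hgz
    rwa [rep_inv_apply] at this
  have h2 := key (L.act v) (g := k * (l⁻¹ * g) * k⁻¹) (z := k * z * k⁻¹)
    (mul_mem (mul_mem hkG (mul_mem (inv_mem hlG) hg)) (inv_mem hkG)) (R.conj_mem hk L.root hz)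
    (fun h3 => hz1 (by
      have : z = k⁻¹ * (k * z * k⁻¹) * k := by group
      rw [this, h3]; group))
    (by
      have h3 := R.conj_mem hk L.root h1
      have : k * (l⁻¹ * g) * k⁻¹ * (k * z * k⁻¹) * (k * (l⁻¹ * g) * k⁻¹)⁻¹ =
        k * (l⁻¹ * (g * z * g⁻¹) * l) * k⁻¹ := by group
      rw [this]; exact h3) hv
  rw [← R.conj_rp hk L.root, ← cj_mul] at h2
  have h3 : cj (l⁻¹ * g) (X a) = X a := by
    have h4 := congrArg (cj k⁻¹) h2
    rw [cj_inv_cj, ← cj_mul] at h4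
    have : k⁻¹ * (k * (l⁻¹ * g) * k⁻¹ * k) = l⁻¹ * g := by group
    rwa [this] at h4
  have h5 := congrArg (cj l) h3
  rw [← cj_mul, mul_inv_cancel_left, R.conj_rp hl L.root] at h5
  exact h5

theorem ti_self {g z : Y} (hg : g ∈ GG cs h T X) (hz : z ∈ X a) (hz1 : z ≠ 1) (hgz : g * z * g⁻¹ ∈ X a) :
    g ∈ Subgroup.normalizer (X a : Set Y) := by
  have h1 := L.ti (w := 1) hg hz hz1 (by rwa [map_one, Module.End.one_apply])
  rw [map_one, Module.End.one_apply] at h1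
  exact mem_normalizer_iff_cj.2 h1

theorem le_PS_of_comm {g z : Y} (hg : g ∈ GG cs h T X) (hz : z ∈ X a) (hz1 : z ≠ 1) (hgz : g * z = z * g) :
    g ∈ PS T X (Ge cs h a) := by
  rw [← L.normalizer]
  refine ⟨L.ti_self hg hz hz1 ?_, hg⟩
  have : g * z * g⁻¹ = z := by rw [hgz]; group
  rwa [this]

/-- **The centraliser of an element of `X a`.** -/
theorem mem_centralizer {g z : Y} (hg : g ∈ GG cs h T X) (hz : z ∈ X a) (hz1 : z ≠ 1) :
    g * z = z * g ↔ ∃ t ∈ T, t * z = z * t ∧ ∃ q ∈ RGD.Sup X (Ge cs h a), g = t * q := by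
  constructor
  · intro h1
    have h2 : g ∈ ((PS T X (Ge cs h a) : Subgroup Y) : Set Y) := L.le_PS_of_comm hg hz hz1 h1
    have hT : T ≤ Subgroup.normalizer (RGD.Sup X (Ge cs h a) : Set Y) := R.T_le_normalizer fun x hx => hx.1
    unfold PS at h2
    rw [Subgroup.coe_mul_of_left_le_normalizer_right _ _ hT, Set.mem_mul] at h2
    obtain ⟨t, ht, q, hq, rfl⟩ := h2
    refine ⟨t, ht, ?_, q, hq, rfl⟩
    have h3 := L.comm' hq hz
    have h4 : t * z * q = z * t * q := by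
      rw [mul_assoc, ← h3, ← mul_assoc, h1, mul_assoc]
    exact mul_right_cancel h4
  · rintro ⟨t, ht, h1, q, hq, rfl⟩
    have h3 := L.comm' hq hz
    rw [mul_assoc, h3, ← mul_assoc, h1, mul_assoc]

end LR

end Cfsg.Agent.KFacts.RgdTI
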