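import Mathlib
import Cfsg.Agent.KFacts.RgdCent
set_option linter.all false

/-!
Elements of order prime to `p` centralising unipotent radicals (ODD, D10; the odd extension of (F3)).

* `step_a` : `g` of order prime to `p` normalises `GG` and centralises `⟨X a : a ∈ Ψ⟩`; then it centralises
  `N_GG(⟨X a : a ∈ Ψ⟩)` when `C_GG(⟨X a : a ∈ Ψ⟩)` is a `p`-group centralised by `g`;
* `cent_GG_of_U` : `g` centralises a maximal unipotent subgroup `⟹` `g` centralises `GG`;
* `f3_rad : C_GG(⟨X a : ⟨a, r^∨⟩ ≥ 1⟩) = X r`; `k1`, `k2` : the same in an overgroup in which `GG` is normal of index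
  prime to `p` and has trivial centraliser.
-/

set_option autoImplicit false
set_option linter.unusedSectionVars false

namespace Cfsg.Agent.KFacts.RgdOdd

open CoxeterSystem Cfsg.Agent.ChevalleyStructure.CoxeterGeom Cfsg.Agent.Tits.Roots Cfsg.Agent.Tits.Core
  Cfsg.Agent.Tits.RootComb Cfsg.Agent.Tits.Exchange Cfsg.Agent.Nodes.Reps Cfsg.Agent.Nodes.BNOf
  Cfsg.Agent.Nodes.StabComb Cfsg.Agent.Nodes.Bruhat Cfsg.Agent.Nodes.OppDec Cfsg.Agent.Nodes.LeviDec
  Cfsg.Agent.Nodes.NormX Cfsg.Agent.Nodes.Coroot Cfsg.Agent.Nodes.PosPair Cfsg.Agent.KFacts.RgdPar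
  Cfsg.Agent.KFacts.RgdSL Cfsg.Agent.KFacts.RgdTI Cfsg.Agent.KFacts.RgdCent
open scoped commutatorElement

variable {I W Y : Type*} [Fintype I] [DecidableEq I] [Group W] [Group Y] {M : CoxeterMatrix I}
  {cs : CoxeterSystem M W} {A : I → I → ℤ} {h : IsCartan M A} {p : ℕ} {T : Subgroup Y} {n : I → Y}
  {X : (I → ℤ) → Subgroup Y}

/-! ### The radical of the normaliser of a root group -/

/-- `{a | ⟨a, r^∨⟩ ≥ 1}` -/
def Rad (cs : CoxeterSystem M W) (h : IsCartan M A) (r : I → ℤ) : Set (I → ℤ) :=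
  {a | IsRoot cs h a ∧ 1 ≤ cpr cs h a r}

/-- every root orthogonal to `r` has a neighbour in `Rad r` -/
def Orth (cs : CoxeterSystem M W) (h : IsCartan M A) (r : I → ℤ) : Prop :=
  ∀ b, IsRoot cs h b → cpr cs h b r = 0 → ∃ a, IsRoot cs h a ∧ cpr cs h a r = 1 ∧ cpr cs h a b = -1

section Rad

variable [Finite W] (hs : SL cs h) {r : I → ℤ} (hr : IsRoot cs h r) (hO : Orth cs h r)

include hs hr hO

theorem star_rad : Star cs h (Rad cs h r) = {r} := by
  ext b
  constructor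
  · intro hb
    have h1 : 0 ≤ cpr cs h b r := hb.2 r ⟨hr, by rw [cpr_self cs h hr]; norm_num⟩
    rcases hs.cases hb.1 hr with h2 | h2 | h2
    · exact h2.1
    · omega
    exfalso
    have h3 : cpr cs h b r = 0 ∨ cpr cs h b r = 1 := by omega
    rcases h3 with h3 | h3
    · obtain ⟨a, ha, har, hab⟩ := hO b hb.1 h3
      have h4 := hb.2 a ⟨ha, har.ge⟩
      rw [hs b a hb.1 ha, hab] at h4
      omega
    · have hrb : cpr cs h r b = 1 := by rw [hs r b hr hb.1, h3]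
      have h4 : IsRoot cs h (r - b) := isRoot_sub hr hb.1 hrb
      have h5 := hb.2 (r - b) ⟨h4, by rw [cpr_sub_left hs hr hr hr, cpr_self cs h hr, h3]; norm_num⟩
      rw [hs b _ hb.1 h4, cpr_sub_left hs hr hr hb.1, cpr_self cs h hb.1, hrb] at h5
      omega
  · intro hb
    rw [Set.mem_singleton_iff] at hb
    subst hb
    exact ⟨hr, fun a ha => by rw [hs _ _ hr ha.1]; exact le_trans zero_le_one ha.2⟩

theorem cen_of_rad (R : RGD cs h p T n X) {t : Y} (ht : t ∈ T) (hP : Rad cs h r ⊆ Cen cs h X t) {b : I → ℤ}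
    (hb : IsRoot cs h b) : b ∈ Cen cs h X t := by
  rcases lt_trichotomy (cpr cs h b r) 0 with h1 | h1 | h1
  · have h4 := cen_neg R ht (hP (a := -b) ⟨hb.neg, by rw [cpr_neg_left _ hr]; omega⟩)
    rwa [neg_neg] at h4
  · obtain ⟨a, ha, har, hab⟩ := hO b hb h1
    have haC : a ∈ Cen cs h X t := hP ⟨ha, har.ge⟩
    have h2 : a + b ∈ Cen cs h X t := hP ⟨isRoot_add ha hb hab, by rw [cpr_add cs h _ _ hr]; omega⟩
    have h3 := cen_sub R hs ht hr hr h2 haC (by
      rw [cpr_add cs h _ _ ha, cpr_self cs h ha, hs b a hb ha, hab]; norm_num)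
    rwa [add_sub_cancel_left] at h3
  · exact hP ⟨hb, h1⟩

/-- **(K1)** `C_GG(Q_r) = X_r`. -/
theorem f3_rad (R : RGD cs h p T n X) (hL : ∀ a, IsRoot cs h a → LR R a) (hN : NoCent cs h T X) {g : Y}
    (hg : g ∈ GG cs h T X) (hc : ∀ a ∈ Rad cs h r, ∀ v ∈ X a, g * v = v * g) : g ∈ X r := by
  have hL' : ∀ a ∈ Rad cs h r, LR R a := fun a ha => hL a ha.1
  obtain ⟨t, ht, hP, q, hq, rfl⟩ := cent_eq R hL' (star_comm hL') hg hc
  have h1 : t = 1 := hN t ht fun b hb => (cen_of_rad hs hr hO R ht hP hb).2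
  rw [h1, one_mul]
  rw [star_rad hs hr hO] at hq
  refine (RGD.Sup_le fun z hz => ?_ : RGD.Sup X {r} ≤ X r) hq
  rw [Set.mem_singleton_iff] at hz
  rw [hz]

end Rad

/-! ### Elements of order prime to `p` -/

/-- conjugation by `g` multiplies `u` by a commuting `p`-element: impossible -/
theorem eq_one_of_conj {g c u : Y} (he : g * u * g⁻¹ = c * u) (hgc : g * c = c * g) {m k : ℕ} (hm : g ^ m = 1)
    (hc : c ^ p ^ k = 1) (hmp : m.Coprime p) : c = 1 := by
  have key : ∀ j : ℕ, g ^ j * u * (g ^ j)⁻¹ = c ^ j * u := by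
    intro j
    induction j with
    | zero => simp
    | succ j ih =>
      have h1 : g * c ^ j * g⁻¹ = c ^ j := by
        have h2 : Commute g (c ^ j) := (show Commute g c from hgc).pow_right j
        rw [h2.eq]; group
      calc g ^ (j + 1) * u * (g ^ (j + 1))⁻¹ = g * (g ^ j * u * (g ^ j)⁻¹) * g⁻¹ := by rw [pow_succ']; group
        _ = g * (c ^ j * u) * g⁻¹ := by rw [ih]
        _ = (g * c ^ j * g⁻¹) * (g * u * g⁻¹) := by group
        _ = c ^ j * (c * u) := by rw [h1, he]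
        _ = c ^ (j + 1) * u := by rw [pow_succ]; group
  have h1 := key m
  rw [hm, one_mul, inv_one, mul_one] at h1
  have h2 : c ^ m = 1 := by
    have : c ^ m * u = 1 * u := by rw [← h1, one_mul]
    exact mul_right_cancel this
  have h3 : orderOf c ∣ 1 := by
    have h4 : Nat.gcd m (p ^ k) = 1 := hmp.pow_right k
    rw [← h4]
    exact Nat.dvd_gcd (orderOf_dvd_of_pow_eq_one h2) (orderOf_dvd_of_pow_eq_one hc)
  exact orderOf_eq_one_iff.1 (Nat.dvd_one.1 h3)

/-- The basic step. -/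
theorem step_a {K : Subgroup Y} {P : Subgroup Y} {g : Y} (hgK : ∀ u ∈ K, g * u * g⁻¹ ∈ K)
    (hP : ∀ x ∈ P, g * x = x * g) {m : ℕ} (hm : g ^ m = 1) (hmp : m.Coprime p)
    (hC : ∀ c ∈ K, (∀ x ∈ P, c * x = x * c) → g * c = c * g ∧ ∃ k : ℕ, c ^ p ^ k = 1) {u : Y} (hu : u ∈ K)
    (huP : cj u P = P) : g * u = u * g := by
  set c := g * u * g⁻¹ * u⁻¹ with hc
  have h1 : c ∈ K := mul_mem (hgK u hu) (inv_mem hu)
  have h2 : ∀ x ∈ P, c * x = x * c := by
    intro x hx
    have h3 : u⁻¹ * x * u ∈ P := by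
      have : x ∈ cj u P := by rw [huP]; exact hx
      exact mem_cj.1 this
    have h4 := hP _ h3
    have h5 := hP x hx
    have e4 : g⁻¹ * (u⁻¹ * x * u) * g = u⁻¹ * x * u := by
      calc g⁻¹ * (u⁻¹ * x * u) * g = g⁻¹ * ((u⁻¹ * x * u) * g) := by group
        _ = g⁻¹ * (g * (u⁻¹ * x * u)) := by rw [h4]
        _ = _ := by group
    have e5 : c * x * c⁻¹ = x := by
      calc c * x * c⁻¹ = g * u * (g⁻¹ * (u⁻¹ * x * u) * g) * u⁻¹ * g⁻¹ := by rw [hc]; group
        _ = g * u * (u⁻¹ * x * u) * u⁻¹ * g⁻¹ := by rw [e4]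
        _ = g * x * g⁻¹ := by group
        _ = x * g * g⁻¹ := by rw [h5]
        _ = x := by group
    calc c * x = (c * x * c⁻¹) * c := by group
      _ = x * c := by rw [e5]
  obtain ⟨h3, k, h4⟩ := hC c h1 h2
  have h5 : g * u * g⁻¹ = c * u := by rw [hc]; group
  have h6 := eq_one_of_conj h5 h3 hm h4 hmp
  rw [h6, one_mul] at h5
  calc g * u = (g * u * g⁻¹) * g := by group
    _ = u * g := by rw [h5]

variable (R : RGD cs h p T n X)

include R

/-- every node has a neighbour with a simple bond, rank `≥ 2` -/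
theorem star_posNe [Finite W] (hs : SL cs h) {i j : I} (hij : cpr cs h (sr i) (sr j) = -1) {S : Set (I → ℤ)}
    (hS : ∀ x, IsRoot cs h x → 0 ≤ x → x ≠ sr i → x ∈ S) {b : I → ℤ} (hb : b ∈ Star cs h S) : 0 ≤ b := by
  have hi := isRoot_sr cs h i
  have hj := isRoot_sr cs h j
  rcases hb.1.pos_or_neg with h1 | h1
  · exact h1
  exfalso
  by_cases h2 : -b = sr i
  · have h3 := isRoot_add hi hj hij
    have h4 : (0 : I → ℤ) ≤ sr i + sr j := add_nonneg (sr_nonneg i) (sr_nonneg j)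
    have h5 := hb.2 _ (hS _ h3 h4 (by
      intro h0
      exact hj.ne_zero (by simpa using h0)))
    have h6 : b = -sr i := by rw [← h2, neg_neg]
    rw [h6, cpr_neg_left _ h3, hs _ _ hi h3, cpr_add cs h _ _ hi, cpr_self cs h hi, hs _ _ hj hi, hij] at h5
    omega
  · have h5 := hb.2 _ (hS _ hb.1.neg (neg_nonneg.2 h1) h2)
    rw [cpr_neg_right cs h _ hb.1, cpr_self cs h hb.1] at h5
    omega

theorem cen_posNe [Finite W] (hs : SL cs h) {i j : I} (hij : cpr cs h (sr i) (sr j) = -1) {t : Y} (ht : t ∈ T)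
    (hP : ∀ x, IsRoot cs h x → 0 ≤ x → x ≠ sr i → x ∈ Cen cs h X t) {b : I → ℤ}
    (hb : IsRoot cs h b) : b ∈ Cen cs h X t := by
  have hi := isRoot_sr cs h i
  have hj := isRoot_sr cs h j
  have hji : cpr cs h (sr j) (sr i) = -1 := by rw [hs _ _ hj hi, hij]
  have h3 := isRoot_add hi hj hij
  have hiC : sr i ∈ Cen cs h X t := by
    have h4 := cen_sub R hs ht hi hi (b := sr i + sr j) (c := sr j) (hP _ h3
      (add_nonneg (sr_nonneg i) (sr_nonneg j)) (by
        intro h0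
        exact hj.ne_zero (by simpa using h0))) (hP _ hj (sr_nonneg j) (by
        intro h0
        rw [h0, cpr_self cs h hi] at hij
        omega)) (by
        rw [cpr_add cs h _ _ hj, cpr_self cs h hj, hij]; norm_num)
    rwa [add_sub_cancel_right] at h4
  rcases hb.pos_or_neg with h1 | h1
  · by_cases h2 : b = sr i
    · rw [h2]; exact hiC
    · exact hP b hb h1 h2
  · by_cases h2 : -b = sr i
    · have h4 := cen_neg R ht hiC
      rwa [← h2, neg_neg] at h4
    · have h4 := cen_neg R ht (hP _ hb.neg (neg_nonneg.2 h1) h2)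
      rwa [neg_neg] at h4

section Main

variable [Finite W] (hs : SL cs h) (hL : ∀ a, IsRoot cs h a → LR R a) (hN : NoCent cs h T X)
  (hconn : ∀ i : I, ∃ j, cpr cs h (sr i) (sr j) = -1)

include hs hL hN hconn

/-- `C_GG(V_i)` is contained in `U`. -/
theorem cent_posNe {i : I} {S : Set (I → ℤ)} (hS : ∀ x, IsRoot cs h x → 0 ≤ x → x ≠ sr i → x ∈ S)
    (hS' : ∀ x ∈ S, IsRoot cs h x) {c : Y} (hc : c ∈ GG cs h T X) (hcS : ∀ a ∈ S, ∀ v ∈ X a, c * v = v * c) :
    c ∈ RGD.Sup X (RGD.Pos cs h) := by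
  obtain ⟨j, hij⟩ := hconn i
  have hL' : ∀ a ∈ S, LR R a := fun a ha => hL a (hS' a ha)
  obtain ⟨t, ht, hP, q, hq, rfl⟩ := cent_eq R hL' (star_comm hL') hc hcS
  have h1 : t = 1 := hN t ht fun b hb => (cen_posNe R hs hij ht (fun x hx h0 hne => hP (hS x hx h0 hne)) hb).2
  rw [h1, one_mul]
  have hsub : Star cs h S ⊆ RGD.Pos cs h := fun b hb => ⟨hb.1, star_posNe R hs hij hS hb⟩
  exact RGD.Sup_mono hsub hq

/-- an element of order prime to `p` centralising `U` centralises `GG` -/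
theorem cent_GG_std {g : Y} (hgK : ∀ u ∈ GG cs h T X, g * u * g⁻¹ ∈ GG cs h T X) {m : ℕ} (hm : g ^ m = 1)
    (hmp : m.Coprime p) (hc : ∀ x ∈ RGD.Pos cs h, ∀ v ∈ X x, g * v = v * g) :
    ∀ u ∈ GG cs h T X, g * u = u * g := by
  have hU : ∀ u ∈ RGD.Sup X (RGD.Pos cs h), g * u = u * g := by
    have h1 : RGD.Sup X (RGD.Pos cs h) ≤ Subgroup.centralizer {g} := by
      refine RGD.Sup_le fun x hx v hv => ?_
      rw [Subgroup.mem_centralizer_singleton_iff]
      exact (hc x hx v hv).symm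
    intro u hu
    exact (Subgroup.mem_centralizer_singleton_iff.1 (h1 hu)).symm
  have hpos : ∀ c ∈ RGD.Sup X (RGD.Pos cs h), ∃ k : ℕ, c ^ p ^ k = 1 := by
    intro c hc
    obtain ⟨k, hk⟩ := R.isPGroup_Upos ⟨c, hc⟩
    exact ⟨k, congrArg Subtype.val hk⟩
  -- the torus
  have hT : ∀ t ∈ T, g * t = t * g := by
    intro t ht
    by_cases hI : Nonempty I
    · obtain ⟨i⟩ := hI
      refine step_a (K := GG cs h T X) (P := RGD.Sup X (RGD.Pos cs h)) hgK hU hm hmp ?_ (T_le_GG ht) ?_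
      · intro c hcG hcU
        have h2 := cent_posNe R hs hL hN hconn (i := i) (S := RGD.Pos cs h) (fun x hx h0 _ => ⟨hx, h0⟩)
          (fun x hx => hx.1) hcG (fun a ha v hv => hcU v (RGD.le_Sup ha hv))
        exact ⟨hU c h2, hpos c h2⟩
      · exact mem_normalizer_iff_cj.1 (R.T_le_normalizer (fun x hx => hx.1) ht)
    · have h1 : t = 1 := by
        refine hN t ht fun b hb => ?_
        obtain ⟨w, i, _⟩ := hb
        exact absurd ⟨i⟩ hI
      rw [h1, mul_one, one_mul]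
  -- the reflections
  have hn : ∀ i, g * n i = n i * g := by
    intro i
    refine step_a (K := GG cs h T X) (P := RGD.Sup X (RGD.PosNe cs h i)) hgK ?_ hm hmp ?_
      (NN_le_GG R ⟨_, rp_simple cs R.nsys i⟩) (R.cj_n_V i)
    · have hsub : RGD.PosNe cs h i ⊆ RGD.Pos cs h := fun x hx => ⟨hx.1, hx.2.1⟩
      exact fun x hx => hU x (RGD.Sup_mono hsub hx)
    · intro c hcG hcU
      have h2 := cent_posNe R hs hL hN hconn (i := i) (S := RGD.PosNe cs h i) (fun x hx h0 hne => ⟨hx, h0, hne⟩)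
        (fun x hx => hx.1) hcG (fun a ha v hv => hcU v (RGD.le_Sup ha hv))
      exact ⟨hU c h2, hpos c h2⟩
  have hcl : Subgroup.closure (Set.range n) ≤ Subgroup.centralizer {g} := by
    rw [Subgroup.closure_le]
    rintro _ ⟨i, rfl⟩
    rw [SetLike.mem_coe, Subgroup.mem_centralizer_singleton_iff]
    exact (hn i).symm
  have hall : GG cs h T X ≤ Subgroup.centralizer {g} := by
    refine sup_le ?_ (RGD.Sup_le fun x hx v hv => ?_)
    · intro t ht
      rw [Subgroup.mem_centralizer_singleton_iff]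
      exact (hT t ht).symm
    · obtain ⟨w, i, rfl⟩ := hx
      obtain ⟨k, hk, hkr⟩ := exists_rp_closure (cs := cs) (hN := R.nsys) w
      have h1 : k⁻¹ * v * k ∈ X (sr i) := by
        have := R.conj_mem' hkr ⟨w, i, rfl⟩ hv
        rwa [rep_inv_apply] at this
      have h2 : k⁻¹ * v * k ∈ Subgroup.centralizer {g} := by
        rw [Subgroup.mem_centralizer_singleton_iff]
        exact (hc (sr i) ⟨isRoot_sr cs h i, sr_nonneg i⟩ _ h1).symm
      have h3 : v = k * (k⁻¹ * v * k) * k⁻¹ := by group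
      rw [h3]
      exact mul_mem (mul_mem (hcl hk) h2) (inv_mem (hcl hk))
  intro u hu
  exact (Subgroup.mem_centralizer_singleton_iff.1 (hall hu)).symm

/-- the same for the half space of a functional -/
theorem cent_GG_half (f : (I → ℤ) →+ ℤ) {g : Y} (hgK : ∀ u ∈ GG cs h T X, g * u * g⁻¹ ∈ GG cs h T X) {m : ℕ}
    (hm : g ^ m = 1) (hmp : m.Coprime p) (hc : ∀ x, IsRoot cs h x → 0 ≤ f x → ∀ v ∈ X x, g * v = v * g) :
    ∀ u ∈ GG cs h T X, g * u = u * g := by
  obtain ⟨w, hw⟩ := exists_dom (cs := cs) (h := h) f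
  obtain ⟨k, hk⟩ := exists_rp cs R.nsys w
  have hkG := NN_le_GG R ⟨w, hk⟩
  have key := cent_GG_std R hs hL hN hconn (g := k⁻¹ * g * k) (m := m) (fun u hu => ?_) ?_ hmp ?_
  · intro u hu
    have h1 := key (k⁻¹ * u * k) (mul_mem (mul_mem (inv_mem hkG) hu) hkG)
    have e1 : g * u = k * (k⁻¹ * g * k * (k⁻¹ * u * k)) * k⁻¹ := by group
    rw [e1, h1]; group
  · have h1 := hgK (k * u * k⁻¹) (mul_mem (mul_mem hkG hu) (inv_mem hkG))
    have e1 : k⁻¹ * g * k * u * (k⁻¹ * g * k)⁻¹ = k⁻¹ * (g * (k * u * k⁻¹) * g⁻¹) * k := by group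
    rw [e1]
    exact mul_mem (mul_mem (inv_mem hkG) h1) hkG
  · have h1 : (k⁻¹ * g * k) ^ m = k⁻¹ * g ^ m * k := by
      have := conj_pow (a := k⁻¹) (b := g) (i := m)
      rwa [inv_inv] at this
    rw [h1, hm]; group
  · intro x hx v hv
    have h1 : k * v * k⁻¹ ∈ X (rep cs h w x) := R.conj_mem hk hx.1 hv
    have h2 := hc (rep cs h w x) (hx.1.act w) (dom_nonneg hw hx.2) _ h1
    have e1 : k⁻¹ * g * k * v = k⁻¹ * (g * (k * v * k⁻¹)) * k := by group
    rw [e1, h2]; group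

section K1

variable {r : I → ℤ} (hr : IsRoot cs h r) (hO : Orth cs h r)

include hr hO

/-- odd part of (K1) -/
theorem odd_k1 {g : Y} (hgK : ∀ u ∈ GG cs h T X, g * u * g⁻¹ ∈ GG cs h T X) {m : ℕ} (hm : g ^ m = 1)
    (hmp : m.Coprime p) (hc : ∀ a ∈ Rad cs h r, ∀ v ∈ X a, g * v = v * g) : ∀ u ∈ GG cs h T X, g * u = u * g := by
  have hP : ∀ u ∈ RGD.Sup X (Rad cs h r), g * u = u * g := by
    have h1 : RGD.Sup X (Rad cs h r) ≤ Subgroup.centralizer {g} := by
      refine RGD.Sup_le fun x hx v hv => ?_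
      rw [Subgroup.mem_centralizer_singleton_iff]
      exact (hc x hx v hv).symm
    intro u hu
    exact (Subgroup.mem_centralizer_singleton_iff.1 (h1 hu)).symm
  refine cent_GG_half R hs hL hN hconn (ell cs h hr) hgK hm hmp ?_
  intro b hb hbr v hv
  have hbr' : 0 ≤ cpr cs h b r := hbr
  refine step_a (K := GG cs h T X) (P := RGD.Sup X (Rad cs h r)) hgK hP hm hmp ?_ (X_le_GG hb hv) ?_
  · intro c hcG hcP
    have h2 := f3_rad hs hr hO R hL hN hcG (fun a ha v hv => hcP v (RGD.le_Sup ha hv))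
    refine ⟨hc r ⟨hr, by rw [cpr_self cs h hr]; norm_num⟩ c h2, ?_⟩
    obtain ⟨k, hk⟩ := R.pgrp' hr ⟨c, h2⟩
    exact ⟨k, congrArg Subtype.val hk⟩
  · rw [← mem_normalizer_iff_cj]
    have hyp : ∀ y ∈ Rad cs h r, IsRoot cs h y ∧ (b = y ∨ (b ≠ -y ∧ ∀ z, Btwn cs h b y z → z ∈ Rad cs h r)) := by
      intro y hy
      refine ⟨hy.1, Or.inr ⟨?_, fun z hz => ⟨hz.1, ?_⟩⟩⟩
      · rintro rfl
        have h3 := hy.2
        rw [cpr_neg_left _ hr] at hbr'
        omega
      · have h3 : 0 < ell cs h hr z := Nodes.Slope.btwn_pos' hz.symm (ell cs h hr) hy.2 hbr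
        exact h3
    exact R.le_normalizer hb hyp hv

end K1

section K2

variable {r s : I → ℤ} (hr : IsRoot cs h r) (hsr : IsRoot cs h s) (hrs : cpr cs h r s = 1)

include hr hsr hrs

/-- odd part of (K2) -/
theorem odd_k2 {g : Y} (hgK : ∀ u ∈ GG cs h T X, g * u * g⁻¹ ∈ GG cs h T X) {m : ℕ} (hm : g ^ m = 1)
    (hmp : m.Coprime p) (hc : ∀ a ∈ Psi cs h r s, ∀ v ∈ X a, g * v = v * g) :
    ∀ u ∈ GG cs h T X, g * u = u * g := by
  have hsr' : cpr cs h s r = 1 := by rw [hs s r hsr hr, hrs]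
  have hP : ∀ u ∈ RGD.Sup X (Psi cs h r s), g * u = u * g := by
    have h1 : RGD.Sup X (Psi cs h r s) ≤ Subgroup.centralizer {g} := by
      refine RGD.Sup_le fun x hx v hv => ?_
      rw [Subgroup.mem_centralizer_singleton_iff]
      exact (hc x hx v hv).symm
    intro u hu
    exact (Subgroup.mem_centralizer_singleton_iff.1 (h1 hu)).symm
  have hrP : r ∈ Psi cs h r s := ⟨hr, by rw [cpr_self cs h hr]; norm_num, by rw [hrs]; norm_num⟩
  have hsP : s ∈ Psi cs h r s := ⟨hsr, by rw [hsr']; norm_num, by rw [cpr_self cs h hsr]; norm_num⟩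
  have hcent : ∀ c ∈ GG cs h T X, (∀ x ∈ RGD.Sup X (Psi cs h r s), c * x = x * c) →
      g * c = c * g ∧ ∃ k : ℕ, c ^ p ^ k = 1 := by
    intro c hcG hcP
    have h2 := f3_one R hs hL hN hr hsr hcG hrs (fun a ha v hv => hcP v (RGD.le_Sup ha hv))
    have h3 : X r ⊔ X s ≤ RGD.Sup X (Psi cs h r s) := sup_le (RGD.le_Sup hrP) (RGD.le_Sup hsP)
    refine ⟨hP c (h3 h2), ?_⟩
    have h4 : IsPGroup p ↥(X r ⊔ X s) := (isPGroup_pair R hr hsr (by
      rintro rfl
      rw [cpr_neg_left _ hsr, cpr_self cs h hsr] at hrs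
      omega)).to_le le_sup_left
    obtain ⟨k, hk⟩ := h4 ⟨c, h2⟩
    exact ⟨k, congrArg Subtype.val hk⟩
  -- `X (r - s)` normalises the group
  have hnorm : ∀ {r s : I → ℤ}, IsRoot cs h r → IsRoot cs h s → cpr cs h r s = 1 → ∀ {b : I → ℤ}, IsRoot cs h b →
      cpr cs h b s < 0 → 0 ≤ cpr cs h b r + cpr cs h b s →
      X b ≤ Subgroup.normalizer (RGD.Sup X (Psi cs h r s) : Set Y) := by
    intro r s hr hsr hrs b hb h1 h2
    have h3 : b = r - s := by
      refine hs.eq_of_cpr hb (isRoot_sub hr hsr hrs) ?_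
      rw [hs b _ hb (isRoot_sub hr hsr hrs), cpr_sub_left hs hr hsr hb, hs r b hr hb, hs s b hsr hb]
      omega
    have hbr : cpr cs h b r = 1 := by
      rw [h3, cpr_sub_left hs hr hsr hr, cpr_self cs h hr, hs s r hsr hr, hrs]; norm_num
    have hbs : cpr cs h b s = -1 := by
      rw [h3, cpr_sub_left hs hr hsr hsr, cpr_self cs h hsr, hrs]; norm_num
    refine R.le_normalizer hb fun y hy => ⟨hy.1, Or.inr ⟨?_, fun z hz => ?_⟩⟩
    · rintro h0
      have h4 : cpr cs h b r = -cpr cs h y r := by rw [h0, cpr_neg_left _ hr]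
      have := hy.2.1
      omega
    · have hne : b ≠ y := by
        rintro rfl
        have := hy.2.2
        omega
      have hne' : b ≠ -y := by
        intro h0
        have h4 : cpr cs h b r = -cpr cs h y r := by rw [h0, cpr_neg_left _ hr]
        have := hy.2.1
        omega
      obtain ⟨h5, h6⟩ := hs.btwn hb hy.1 hne hne' hz
      rw [h3, cpr_sub_left hs hr hsr hy.1, hs r y hr hy.1, hs s y hsr hy.1] at h5
      rw [h6]
      refine ⟨by rw [← h6]; exact hz.1, ?_, ?_⟩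
      · rw [cpr_add cs h _ _ hr]
        have := hy.2.1
        omega
      · rw [cpr_add cs h _ _ hsr]
        have := hy.2.1
        omega
  refine cent_GG_half R hs hL hN hconn (ell cs h hr + ell cs h hsr) hgK hm hmp ?_
  intro b hb hbr v hv
  have hbr' : 0 ≤ cpr cs h b r + cpr cs h b s := hbr
  refine step_a (K := GG cs h T X) (P := RGD.Sup X (Psi cs h r s)) hgK hP hm hmp hcent (X_le_GG hb hv) ?_
  by_cases h1 : 0 ≤ cpr cs h b r
  · by_cases h2 : 0 ≤ cpr cs h b s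
    · exact cj_eq_of_mem (RGD.le_Sup (S := Psi cs h r s) ⟨hb, h1, h2⟩ hv)
    · push Not at h2
      exact mem_normalizer_iff_cj.1 (hnorm hr hsr hrs hb h2 hbr' hv)
  · push Not at h1
    rw [psi_comm]
    exact mem_normalizer_iff_cj.1 (hnorm hsr hr hsr' hb h1 (by omega) hv)

end K2

omit hs hL hN hconn in
/-- from odd elements to all elements of an overgroup -/
theorem mem_GG_of_odd {K1 : Subgroup Y} {j : ℕ} (hj : j.Coprime p) (hjK : ∀ g ∈ K1, g ^ j ∈ GG cs h T X)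
    (hp : p.Prime) {c : Y} (hc : c ∈ K1) (hfin : IsOfFinOrder c)
    (hodd : ∀ g ∈ Subgroup.zpowers c, ∀ m : ℕ, g ^ m = 1 → m.Coprime p → g = 1) : c ∈ GG cs h T X := by
  have hn : orderOf c ≠ 0 := hfin.orderOf_pos.ne'
  obtain ⟨k, m, hm, e⟩ := Nat.exists_eq_pow_mul_and_not_dvd hn p hp.ne_one
  have hmp : m.Coprime p := ((hp.coprime_iff_not_dvd).2 hm).symm
  have h1 : c ^ p ^ k = 1 := by
    refine hodd _ (Subgroup.npow_mem_zpowers c _) m ?_ hmp
    rw [← pow_mul, ← e, pow_orderOf_eq_one]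
  have h2 : j.Coprime (orderOf c) := by
    have h3 : orderOf c ∣ p ^ k := orderOf_dvd_of_pow_eq_one h1
    exact Nat.Coprime.coprime_dvd_right h3 (hj.pow_right k)
  obtain ⟨a, ha⟩ := exists_pow_eq_self_of_coprime h2
  rw [← ha]
  exact pow_mem (hjK c hc) a

variable {K1 : Subgroup Y} (hK1 : ∀ g ∈ K1, ∀ u ∈ GG cs h T X, g * u * g⁻¹ ∈ GG cs h T X) {j : ℕ}
  (hj : j.Coprime p) (hjK : ∀ g ∈ K1, g ^ j ∈ GG cs h T X)
  (hC1 : ∀ g ∈ K1, (∀ u ∈ GG cs h T X, g * u = u * g) → g = 1) (hp : p.Prime)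

include hK1 hj hjK hC1 hp

/-- **(K1)** in an overgroup of index prime to `p`. -/
theorem k1 {r : I → ℤ} (hr : IsRoot cs h r) (hO : Orth cs h r) {c : Y} (hc : c ∈ K1) (hfin : IsOfFinOrder c)
    (hcr : ∀ a ∈ Rad cs h r, ∀ v ∈ X a, c * v = v * c) : c ∈ X r := by
  refine f3_rad hs hr hO R hL hN (mem_GG_of_odd R hj hjK hp hc hfin ?_) hcr
  intro g hg m hm hmp
  have hgK1 : g ∈ K1 := (Subgroup.zpowers_le.2 hc) hg
  refine hC1 g hgK1 (odd_k1 R hs hL hN hconn hr hO (hK1 g hgK1) hm hmp fun a ha v hv => ?_)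
  have h1 : Subgroup.zpowers c ≤ Subgroup.centralizer {v} := by
    rw [Subgroup.zpowers_le, Subgroup.mem_centralizer_singleton_iff]
    exact hcr a ha v hv
  exact Subgroup.mem_centralizer_singleton_iff.1 (h1 hg)

/-- **(K2)** in an overgroup of index prime to `p`. -/
theorem k2 {r s : I → ℤ} (hr : IsRoot cs h r) (hsr : IsRoot cs h s) (hrs : cpr cs h r s = 1) {c : Y} (hc : c ∈ K1)
    (hfin : IsOfFinOrder c) (hcr : ∀ a ∈ Psi cs h r s, ∀ v ∈ X a, c * v = v * c) : c ∈ X r ⊔ X s := by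
  refine f3_one R hs hL hN hr hsr (mem_GG_of_odd R hj hjK hp hc hfin ?_) hrs hcr
  intro g hg m hm hmp
  have hgK1 : g ∈ K1 := (Subgroup.zpowers_le.2 hc) hg
  refine hC1 g hgK1 (odd_k2 R hs hL hN hconn hr hsr hrs (hK1 g hgK1) hm hmp fun a ha v hv => ?_)
  have h1 : Subgroup.zpowers c ≤ Subgroup.centralizer {v} := by
    rw [Subgroup.zpowers_le, Subgroup.mem_centralizer_singleton_iff]
    exact hcr a ha v hv
  exact Subgroup.mem_centralizer_singleton_iff.1 (h1 hg)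

end Main

end Cfsg.Agent.KFacts.RgdOdd
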