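import Mathlib
import Cfsg.Prelude.Def_CaseTheorems
import Cfsg.Agent.KFacts.RgdVJ
import Cfsg.Agent.Lib.ThompsonPQ
import Cfsg.Agent.Lib.Cores
set_option linter.all false

/-!
`p`-local subgroups of groups with a root group datum (ODD, D10; consequences of Borel–Tits).

* `BT` : the conclusion of the Borel–Tits theorem (`RgdBorelTits.borel_tits`);
* `eq_one_of_cent` : the `A × B` argument;
* `local_char` : `C(O_p(N(K))) ≤ O_p(N(K))` for every `p`-subgroup `K ≠ 1`; `local_core` : `O_{p'}(N(K)) = 1`;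
* `char_two_type`, `core_two` (`O(C(a)) = 1`).
-/

set_option autoImplicit false
set_option linter.unusedSectionVars false

namespace Cfsg.Agent.KFacts.RgdCharP

open CoxeterSystem Cfsg.Agent.ChevalleyStructure.CoxeterGeom Cfsg.Agent.Tits.Roots Cfsg.Agent.Tits.Core
  Cfsg.Agent.Tits.RootComb Cfsg.Agent.Tits.Exchange Cfsg.Agent.Nodes.Reps Cfsg.Agent.Nodes.BNOf
  Cfsg.Agent.Nodes.StabComb Cfsg.Agent.Nodes.Bruhat Cfsg.Agent.Nodes.OppDec Cfsg.Agent.Nodes.LeviDec
  Cfsg.Agent.Nodes.NormX Cfsg.Agent.KFacts.RgdPar Cfsg.Agent.KFacts.RgdCent Cfsg.Agent.KFacts.RgdEx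
  Cfsg.Agent.KFacts.RgdVJ
open scoped commutatorElement

variable {I W Y : Type*} [Fintype I] [DecidableEq I] [Group W] [Group Y] {M : CoxeterMatrix I}
  {cs : CoxeterSystem M W} {A : I → I → ℤ} {h : IsCartan M A} {p : ℕ} {T : Subgroup Y} {n : I → Y}
  {X : (I → ℤ) → Subgroup Y}

/-- The conclusion of the Borel–Tits theorem. -/
def BT (cs : CoxeterSystem M W) (h : IsCartan M A) (p : ℕ) (T : Subgroup Y) (X : (I → ℤ) → Subgroup Y) : Prop :=
  ∀ K : Subgroup Y, IsPGroup p K → K ≠ ⊥ → ∃ (g : Y) (J : Set I), J ≠ Set.univ ∧ K ≤ cj g (VJ cs h X J) ∧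
    Subgroup.normalizer (K : Set Y) ≤ cj g (PJ cs h T X J)

/-- The diagram is connected. -/
def Conn (M : CoxeterMatrix I) : Prop :=
  ∀ J : Set I, J.Nonempty → J ≠ Set.univ → ∃ a ∈ J, ∃ b, b ∉ J ∧ M a b ≠ 2

theorem coprime_of_pow_eq_one {x : Y} [Fact p.Prime] (hx : (orderOf x).Coprime p) {k : ℕ} (hk : x ^ p ^ k = 1) :
    x = 1 := by
  have h1 : orderOf x ∣ p ^ k := orderOf_dvd_of_pow_eq_one hk
  have h2 : orderOf x ∣ 1 := by
    have h3 : (orderOf x).Coprime (p ^ k) := Nat.Coprime.pow_right k hx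
    have h4 := Nat.dvd_gcd dvd_rfl h1
    rwa [h3] at h4
  exact orderOf_eq_one_iff.1 (Nat.dvd_one.1 h2)

section Gen

variable (R : RGD cs h p T n X)

include R

theorem isPGroup_VJ [Finite W] (J : Set I) : IsPGroup p (VJ cs h X J) :=
  R.isPGroup_of_pos (S := NotJ cs h J) fun _ hx => ⟨hx.1, hx.2.1⟩

variable [Finite W] [Finite Y] [Fact p.Prime] (hBT : BT cs h p T X) (hG : GG cs h T X = ⊤)
  (hN : NoCent cs h T X) (hconn : Conn M)

include hBT hG hN hconn

/-- The `A × B` argument. -/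
theorem eq_one_of_cent {K : Subgroup Y} (hK : IsPGroup p K) (hK1 : K ≠ ⊥) {x : Y} (hx : (orderOf x).Coprime p)
    (hxK : ∀ k ∈ K, x * k = k * x) (hD : ∀ D : Subgroup Y, IsPGroup p D →
      D ≤ Subgroup.normalizer (K : Set Y) → (∀ g ∈ Subgroup.normalizer (K : Set Y), ∀ d ∈ D, g * d * g⁻¹ ∈ D) →
        ∀ d ∈ D, x * d = d * x) : x = 1 := by
  obtain ⟨g, J, hJ, hKV, hNP⟩ := hBT K hK hK1
  have hxN : x ∈ Subgroup.normalizer (K : Set Y) := by
    rw [Subgroup.mem_normalizer_iff]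
    intro k
    constructor
    · intro hk
      rw [hxK k hk, mul_inv_cancel_right]
      exact hk
    · intro hk
      have h1 := hxK _ hk
      have h2 : x * k * x⁻¹ = k := by
        have h3 : x * (x * k * x⁻¹) * x⁻¹ = x * k * x⁻¹ := by rw [h1]; group
        have h4 : x⁻¹ * (x * (x * k * x⁻¹) * x⁻¹) * x = x⁻¹ * (x * k * x⁻¹) * x := by rw [h3]
        have h5 : x⁻¹ * (x * (x * k * x⁻¹) * x⁻¹) * x = x * k * x⁻¹ := by group
        have h6 : x⁻¹ * (x * k * x⁻¹) * x = k := by group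
        rw [h5, h6] at h4
        exact h4
      rwa [h2] at hk
  set V := cj g (VJ cs h X J) with hV
  have hVp : IsPGroup p V := by
    rw [hV]; unfold cj
    exact (isPGroup_VJ R J).map _
  have hPN : ∀ y ∈ cj g (PJ cs h T X J), ∀ v ∈ V, y * v * y⁻¹ ∈ V := by
    intro y hy v hv
    rw [hV, mem_cj] at hv ⊢
    rw [mem_cj] at hy
    have h1 := (Subgroup.mem_normalizer_iff.1 (PJ_le_normalizer_VJ R J hy) _).1 hv
    have h2 : g⁻¹ * y * g * (g⁻¹ * v * g) * (g⁻¹ * y * g)⁻¹ = g⁻¹ * (y * v * y⁻¹) * g := by group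
    rwa [h2] at h1
  -- `x` centralises `C_V(K)`
  have h1 : ∀ d ∈ V ⊓ Subgroup.centralizer (K : Set Y), x * d = d * x := by
    refine hD _ (hVp.to_le inf_le_left) ?_ ?_
    · exact le_trans inf_le_right (Subgroup.centralizer_le_normalizer _)
    · rintro y hy d ⟨hd1, hd2⟩
      refine Subgroup.mem_inf.2 ⟨hPN y (hNP hy) d hd1, ?_⟩
      rw [Subgroup.mem_centralizer_iff]
      intro k hk
      have hk' : y⁻¹ * k * y ∈ K := by
        have := (Subgroup.mem_normalizer_iff.1 (inv_mem hy) k).1 hk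
        rwa [inv_inv] at this
      have h2 := Subgroup.mem_centralizer_iff.1 hd2 _ hk'
      calc k * (y * d * y⁻¹) = y * (y⁻¹ * k * y * d) * y⁻¹ := by group
        _ = y * (d * (y⁻¹ * k * y)) * y⁻¹ := by rw [h2]
        _ = _ := by group
  have hc : Subgroup.zpowers x ≤ Subgroup.centralizer (V : Set Y) := by
    refine Lib.ThompsonPQ.thompson_p_times_q p K (Subgroup.zpowers x) V hK ?_ hVp ?_ ?_ ?_ ?_
    · rw [Nat.card_zpowers]
      exact hx
    · intro k hk
      rw [Subgroup.mem_centralizer_iff]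
      intro y hy
      obtain ⟨j, rfl⟩ := Subgroup.mem_zpowers_iff.1 hy
      have : Commute x k := hxK k hk
      exact (this.zpow_left j)
    · exact le_trans hKV Subgroup.le_normalizer
    · rw [Subgroup.zpowers_le]
      rw [Subgroup.mem_normalizer_iff]
      refine fun v => ⟨hPN x (hNP hxN) v, fun hv => ?_⟩
      have h2 := hPN x⁻¹ (inv_mem (hNP hxN)) _ hv
      have h3 : x⁻¹ * (x * v * x⁻¹) * x⁻¹⁻¹ = v := by group
      rwa [h3] at h2
    · intro d hd
      rw [Subgroup.mem_centralizer_iff]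
      intro y hy
      obtain ⟨j, rfl⟩ := Subgroup.mem_zpowers_iff.1 hy
      have : Commute x d := h1 d hd
      exact (this.zpow_left j)
  -- hence `x ∈ V`
  have h2 : g⁻¹ * x * g ∈ VJ cs h X J := by
    refine cent_VJ_le R hN hconn hJ (Subgroup.mem_inf.2 ⟨?_, by rw [hG]; trivial⟩)
    rw [Subgroup.mem_centralizer_iff]
    intro v hv
    have h3 : g * v * g⁻¹ ∈ V := conj_mem_cj.2 hv
    have h4 := Subgroup.mem_centralizer_iff.1 (hc (Subgroup.mem_zpowers x)) _ h3
    calc v * (g⁻¹ * x * g) = g⁻¹ * (g * v * g⁻¹ * x) * g := by group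
      _ = g⁻¹ * (x * (g * v * g⁻¹)) * g := by rw [h4]
      _ = _ := by group
  have h3 : x ∈ V := mem_cj.2 h2
  obtain ⟨k, hk⟩ := hVp ⟨x, h3⟩
  exact coprime_of_pow_eq_one hx (congrArg Subtype.val hk)

/-- **`p`-local subgroups have characteristic `p`.** -/
theorem local_char {K : Subgroup Y} (hK : IsPGroup p K) (hK1 : K ≠ ⊥) :
    Subgroup.centralizer (pCore p ↥(Subgroup.normalizer (K : Set Y)) : Set ↥(Subgroup.normalizer (K : Set Y))) ≤
      pCore p ↥(Subgroup.normalizer (K : Set Y)) := by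
  set N := Subgroup.normalizer (K : Set Y) with hNdef
  set C := Subgroup.centralizer (pCore p ↥N : Set ↥N) with hC
  have hpn : (pCore p ↥N).Normal := Lib.Cores.pCore_normal p
  have hCn : C.Normal := by
    rw [hC]; infer_instance
  -- elements of `C` of order prime to `p` are trivial
  have key : ∀ x : ↥N, x ∈ C → (orderOf x).Coprime p → x = 1 := by
    intro x hx hxo
    have hle : ∀ D : Subgroup Y, IsPGroup p D → D ≤ N → (∀ g ∈ N, ∀ d ∈ D, g * d * g⁻¹ ∈ D) →
        ∀ d ∈ D, (x : Y) * d = d * x := by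
      intro D hDp hDN hDn d hd
      have h1 : D.subgroupOf N ≤ pCore p ↥N := by
        refine Lib.Cores.le_pCore ⟨fun d hd g => ?_⟩ (hDp.comap_of_injective N.subtype N.subtype_injective)
        rw [Subgroup.mem_subgroupOf] at hd ⊢
        exact hDn g.1 g.2 d.1 hd
      have h2 : (⟨d, hDN hd⟩ : ↥N) ∈ pCore p ↥N := h1 (by rw [Subgroup.mem_subgroupOf]; exact hd)
      have h3 := Subgroup.mem_centralizer_iff.1 hx _ h2
      exact (congrArg Subtype.val h3).symm
    have h1 : (x : Y) = 1 := by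
      refine eq_one_of_cent R hBT hG hN hconn hK hK1 (by rwa [Subgroup.orderOf_coe]) ?_ hle
      refine hle K hK Subgroup.le_normalizer fun g hg d hd => ?_
      exact (Subgroup.mem_normalizer_iff.1 hg d).1 hd
    exact Subtype.ext h1
  refine Lib.Cores.le_pCore hCn ?_
  rw [IsPGroup.iff_orderOf]
  intro x
  -- split off the `p`-part
  obtain ⟨k, m, hm, he⟩ := Nat.exists_eq_pow_mul_and_not_dvd (orderOf_pos x).ne' p (Fact.out : p.Prime).ne_one
  refine ⟨k, ?_⟩
  have h1 : (x ^ p ^ k : ↥C) = 1 := by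
    have h2 := key ((x ^ p ^ k : ↥C) : ↥N) (x ^ p ^ k : ↥C).2 (by
      rw [Subgroup.orderOf_coe, orderOf_pow' _ (pow_ne_zero _ (Fact.out : p.Prime).ne_zero), he,
        Nat.gcd_eq_right (Dvd.intro _ rfl), Nat.mul_div_cancel_left _ (pow_pos (Fact.out : p.Prime).pos _)]
      exact ((Nat.Prime.coprime_iff_not_dvd Fact.out).2 hm).symm)
    exact Subtype.ext h2
  have h3 := orderOf_dvd_of_pow_eq_one h1
  have h4 : m = 1 := by
    rw [he] at h3
    have h5 : m ∣ p ^ k := (Dvd.intro_left _ rfl).trans h3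
    have h6 : Nat.Coprime m (p ^ k) := Nat.Coprime.pow_right k ((Nat.Prime.coprime_iff_not_dvd Fact.out).2 hm).symm
    have := Nat.dvd_gcd dvd_rfl h5
    rw [h6] at this
    exact Nat.dvd_one.1 this
  rw [he, h4, mul_one]

/-- `O_{p'}(N(K)) = 1`. -/
theorem local_core {K : Subgroup Y} (hK : IsPGroup p K) (hK1 : K ≠ ⊥) {E : Subgroup Y}
    (hE : E ≤ Subgroup.normalizer (K : Set Y))
    (hn : ∀ g ∈ Subgroup.normalizer (K : Set Y), ∀ e ∈ E, g * e * g⁻¹ ∈ E) (hc : (Nat.card E).Coprime p) :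
    E = ⊥ := by
  rw [Subgroup.eq_bot_iff_forall]
  intro x hx
  have hxo : (orderOf x).Coprime p := by
    have h1 : orderOf x ∣ Nat.card E := by
      have := orderOf_dvd_natCard (⟨x, hx⟩ : E)
      rwa [Subgroup.orderOf_mk] at this
    exact Nat.Coprime.coprime_dvd_left h1 hc
  have hle : ∀ D : Subgroup Y, IsPGroup p D → D ≤ Subgroup.normalizer (K : Set Y) →
      (∀ g ∈ Subgroup.normalizer (K : Set Y), ∀ d ∈ D, g * d * g⁻¹ ∈ D) → ∀ d ∈ D, x * d = d * x := by
    intro D hDp hDN hDn d hd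
    have h1 : x * d * x⁻¹ * d⁻¹ ∈ D := mul_mem (hDn x (hE hx) d hd) (inv_mem hd)
    have h2 : x * d * x⁻¹ * d⁻¹ ∈ E := by
      have h3 : x * d * x⁻¹ * d⁻¹ = x * (d * x⁻¹ * d⁻¹) := by group
      rw [h3]
      exact mul_mem hx (hn d (hDN hd) _ (inv_mem hx))
    have h3 : x * d * x⁻¹ * d⁻¹ = 1 := by
      obtain ⟨k, hk⟩ := hDp ⟨_, h1⟩
      refine coprime_of_pow_eq_one ?_ (congrArg Subtype.val hk)
      have h4 : orderOf (x * d * x⁻¹ * d⁻¹) ∣ Nat.card E := by
        have := orderOf_dvd_natCard (⟨_, h2⟩ : E)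
        rwa [Subgroup.orderOf_mk] at this
      exact Nat.Coprime.coprime_dvd_left h4 hc
    calc x * d = x * d * x⁻¹ * d⁻¹ * d * x := by group
      _ = d * x := by rw [h3, one_mul]
  refine eq_one_of_cent R hBT hG hN hconn hK hK1 hxo ?_ hle
  exact hle K hK Subgroup.le_normalizer fun g hg d hd => (Subgroup.mem_normalizer_iff.1 hg d).1 hd

end Gen

end Cfsg.Agent.KFacts.RgdCharP
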