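import Cfsg.Agent.KFacts.RgdFilt
import Cfsg.Agent.Nodes.RGDFold
import Cfsg.Agent.Nodes.RGDTwAll
set_option linter.all false

-- part: KFacts/RgdFiltTw
section
/-!
The integral commutator formula `IntComm` for the twisted groups obtained by folding (`Nodes/RGDTwGen`), helper650:
`intComm`, under the hypothesis `Int` that the commutators of the big group are integral on the restrictions.
-/

set_option autoImplicit false
set_option linter.unusedSectionVars false

namespace Cfsg.Agent.KFacts.RgdFiltTw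

open CoxeterSystem Cfsg.Agent.ChevalleyStructure.CoxeterGeom Cfsg.Agent.Tits.Roots Cfsg.Agent.Tits.Core
  Cfsg.Agent.Nodes.Reps Cfsg.Agent.Nodes.BNOf Cfsg.Agent.Nodes.RGDTwGen
open Cfsg.Agent.ChevalleyStructure.TwistedU Cfsg.Agent.ChevalleyStructure.TwistedFix
  Cfsg.Agent.ChevalleyStructure.TwistedFixOrbit
open Cfsg.Agent.KFacts.RgdBorelTits Cfsg.Agent.KFacts.RgdFilt
open scoped commutatorElement

section IBs

variable {I W : Type*} [Fintype I] [DecidableEq I] [Group W] {M : CoxeterMatrix I} {cs : CoxeterSystem M W}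
  {A : I → I → ℤ} {h : IsCartan M A}

theorem IB.trans {x y z w : I → ℤ} (hz : IB cs h x y z) (hw : IB cs h x z w) : IB cs h x y w := by
  obtain ⟨-, i, j, hi, hj, rfl⟩ := hz
  obtain ⟨hr, i', j', hi', hj', rfl⟩ := hw
  refine ⟨hr, i' + j' * i, j' * j, add_pos hi' (mul_pos hj' hi), mul_pos hj' hj, ?_⟩
  rw [add_smul, smul_add, mul_smul, mul_smul]
  abel

theorem IB.comb {x y z z' w : I → ℤ} (hz : IB cs h x y z) (hz' : IB cs h x y z') (hw : IB cs h z z' w) :
    IB cs h x y w := by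
  obtain ⟨-, i, j, hi, hj, rfl⟩ := hz
  obtain ⟨-, i', j', hi', hj', rfl⟩ := hz'
  obtain ⟨hr, a, b, ha, hb, rfl⟩ := hw
  refine ⟨hr, a * i + b * i', a * j + b * j', add_pos (mul_pos ha hi) (mul_pos hb hi'),
    add_pos (mul_pos ha hj) (mul_pos hb hj'), ?_⟩
  rw [add_smul, add_smul, smul_add, smul_add, mul_smul, mul_smul, mul_smul, mul_smul]
  abel

theorem IB.act {x y z : I → ℤ} (hz : IB cs h x y z) (w : W) :
    IB cs h (rep cs h w x) (rep cs h w y) (rep cs h w z) := by
  obtain ⟨hr, i, j, hi, hj, rfl⟩ := hz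
  exact ⟨hr.act w, i, j, hi, hj, by rw [map_add, map_smul, map_smul]⟩

end IBs

section Main

variable {I W Γ K : Type*} [Fintype I] [DecidableEq I] [Group W] [Group Γ] [AddGroup K] {M : CoxeterMatrix I}

variable {cs : CoxeterSystem M W} {A : I → I → ℤ} {h : IsCartan M A} {x : ℕ → K → Γ} {N : ℕ}
    {V : ℕ → I → ℤ} {C : ℕ → ℕ → Set ℕ} {L : List (List ℕ)} {σ : Γ →* Γ} {ρ ρ' : ℕ → ℕ} {f : ℕ → K → K}
    {T : Subgroup Γ} {n : I → Γ} {p : ℕ}

variable (D : TwIn cs h x N V C L σ ρ ρ' f T n p)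
  (hC : ∀ r < N, ∀ s < N, r ≠ s → V r ≠ -V s → ∀ k ∈ C r s, ∃ a b : ℤ, 0 < a ∧ 0 < b ∧ V k = a • V r + b • V s)

include D hC

theorem ib_of {r s k : ℕ} (hr : r < N) (hs : s < N) (hne : r ≠ s) (hneg : V r ≠ -V s) (hk : k ∈ C r s) :
    k < N ∧ IB cs h (V r) (V s) (V k) := by
  have h1 := (D.C_root r hr s hs hne hneg k hk).1
  exact ⟨h1, D.isRoot h1, hC r hr s hs hne hneg k hk⟩

theorem span_conj {y z : I → ℤ} {r : ℕ} (hr : r < N) (hy : V r = y) (hyz : y ≠ z) (hyz' : y ≠ -z)
    (hzr : IsRoot cs h z) (t : K) :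
    x r t ∈ Subgroup.normalizer (rspan x {k | k < N ∧ IB cs h y z (V k)} : Set Γ) := by
  subst hy
  set S : Set ℕ := {k | k < N ∧ IB cs h (V r) z (V k)} with hS
  have key : ∀ t : K, ∀ g ∈ rspan x S, x r t * g * (x r t)⁻¹ ∈ rspan x S := by
    intro t g hg
    have h1 : rspan x S ≤ (rspan x S).comap (MulAut.conj (x r t)).toMonoidHom := by
      refine rspan_le x fun k hk u => ?_
      obtain ⟨hkN, hkB⟩ := hk
      obtain ⟨h2, h3⟩ := btwn_ne (D.isRoot hr) hzr hyz hyz' hkB.btwn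
      have hne : r ≠ k := by rintro rfl; exact h2 rfl
      have hneg : V r ≠ -V k := fun e => h3 (by rw [e, neg_neg])
      have h4 : ⁅x r t, x k u⁆ ∈ rspan x S := by
        refine rspan_mono x (fun j hj => ?_) (D.comm r hr k hkN hne hneg t u)
        obtain ⟨hjN, hj'⟩ := ib_of D hC hr hkN hne hneg hj
        exact ⟨hjN, IB.trans hkB hj'⟩
      have h5 := mul_mem h4 (mem_rspan x (S := S) (r := k) ⟨hkN, hkB⟩ u)
      rw [commutatorElement_def, inv_mul_cancel_right] at h5
      exact h5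
    exact h1 hg
  rw [Subgroup.mem_normalizer_iff]
  intro g
  refine ⟨key t g, fun hg => ?_⟩
  have h1 := key (-t) _ hg
  have e : x r (-t) = (x r t)⁻¹ := x_neg D.setup.hadd r t
  rw [e] at h1
  have e2 : (x r t)⁻¹ * (x r t * g * (x r t)⁻¹) * (x r t)⁻¹⁻¹ = g := by group
  rwa [e2] at h1

theorem span_comm {y z : I → ℤ} (hy : IsRoot cs h y) (hz : IsRoot cs h z) (hyz : y ≠ z) (hyz' : y ≠ -z)
    {a b : Γ} (ha : a ∈ rspan x {k | k < N ∧ V k = y}) (hb : b ∈ rspan x {k | k < N ∧ V k = z}) :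
    ⁅a, b⁆ ∈ rspan x {k | k < N ∧ IB cs h y z (V k)} := by
  refine comm_closure ?_ ?_ ?_ ha hb
  · rintro _ ⟨r, hr, t, rfl⟩
    exact span_conj D hC hr.1 hr.2 hyz hyz' hz t
  · rintro _ ⟨r, hr, t, rfl⟩
    have h1 := span_conj D hC hr.1 hr.2 hyz.symm (fun e => hyz' (by rw [e, neg_neg])) hy t
    have h2 : {k | k < N ∧ IB cs h z y (V k)} = {k | k < N ∧ IB cs h y z (V k)} := by
      ext k
      exact and_congr_right fun _ => ⟨fun h => h.symm, fun h => h.symm⟩
    rwa [h2] at h1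
  · rintro _ ⟨r, hr, t, rfl⟩ _ ⟨s, hs, u, rfl⟩
    have hne : r ≠ s := by rintro rfl; exact hyz (hr.2.symm.trans hs.2)
    have hneg : V r ≠ -V s := by rw [hr.2, hs.2]; exact hyz'
    refine rspan_mono x (fun j hj => ?_) (D.comm r hr.1 s hs.1 hne hneg t u)
    obtain ⟨hjN, hj'⟩ := ib_of D hC hr.1 hs.1 hne hneg hj
    rw [hr.2, hs.2] at hj'
    exact ⟨hjN, hj'⟩

theorem fix_btw {y z : I → ℤ} (hy : 0 ≤ y) (hz : 0 ≤ z) :
    rspan x {k | k < N ∧ IB cs h y z (V k)} ⊓ fixS σ ≤ FS (RX x N V σ) {w | IB cs h y z w} := by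
  classical
  rintro g ⟨hg, hgσ⟩
  set P : ℕ → Prop := fun k => IB cs h y z (V k) with hP
  set l := L.flatten.filter fun k => decide (P k) with hl
  have hmem : ∀ k, k ∈ l ↔ k < N ∧ P k := by
    intro k
    rw [hl, List.mem_filter, D.posL, decide_eq_true_eq]
    exact ⟨fun h1 => ⟨h1.1.1, h1.2⟩, fun h1 => ⟨⟨h1.1, RGD.nonneg_of_btwn hy hz h1.2.btwn⟩, h1.2⟩⟩
  have hset : {k | k < N ∧ IB cs h y z (V k)} = {k | k ∈ l} := by
    ext k; exact (hmem k).symm
  have hpos : ∀ r ∈ L.flatten, ∀ s ∈ L.flatten, V r ≠ -V s := by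
    intro r hr s hs e
    have h1 := (D.posL r).1 hr
    have h2 := (D.posL s).1 hs
    have h3 : V s ≤ 0 := by
      have := h1.2
      rw [e] at this
      exact neg_nonneg.1 this
    exact (D.isRoot h2.1).not_pos_neg h2.2 h3
  have hnd : l.Nodup := D.setup.nodup.filter _
  have hgood : GoodC C l := by
    have key : ∀ l' : List ℕ, l'.Nodup → (∀ r ∈ l', r ∈ L.flatten) → GoodC C l' →
        GoodC C (l'.filter fun k => decide (P k)) := by
      intro l'
      induction l' with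
      | nil => intro _ _ _; exact trivial
      | cons r l' ih =>
        intro hnd' hsub hg
        have hnd'' := List.nodup_cons.1 hnd'
        have hsub' : ∀ r ∈ l', r ∈ L.flatten := fun a ha => hsub a (List.mem_cons_of_mem _ ha)
        by_cases hr : P r
        · rw [List.filter_cons_of_pos (by simpa using hr)]
          refine ⟨fun s hs k hk => ?_, ih hnd''.2 hsub' hg.2⟩
          have hs' := List.mem_filter.1 hs
          have hPs : P s := of_decide_eq_true hs'.2
          have hrL := hsub r List.mem_cons_self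
          have hsL := hsub' s hs'.1
          have hne : r ≠ s := by rintro rfl; exact hnd''.1 hs'.1
          obtain ⟨hkN, hk'⟩ := ib_of D hC ((D.posL r).1 hrL).1 ((D.posL s).1 hsL).1 hne (hpos r hrL s hsL) hk
          exact List.mem_filter.2 ⟨hg.1 s hs'.1 k hk, decide_eq_true (IB.comb hr hPs hk')⟩
        · rw [List.filter_cons_of_neg (by simpa using hr)]
          exact ih hnd''.2 hsub' hg.2
    exact key _ D.setup.nodup (fun r hr => hr) D.goodC
  have hgood' : Good x l := good_of_goodC hnd (fun r hr s hs hne t u =>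
    D.comm r ((hmem r).1 hr).1 s ((hmem s).1 hs).1 hne
      (hpos r (List.mem_filter.1 hr).1 s (List.mem_filter.1 hs).1) t u) hgood
  rw [hset] at hg
  obtain ⟨t, ht⟩ := exists_lprod D.setup.hadd hnd hgood' hg
  set t' : ℕ → K := fun r => if P r then t r else 0 with ht'
  have h1 : g = lprod x L.flatten t' := by
    rw [ht, ht', lprod_filter D.setup.hadd P L.flatten t]
  have h2 : g ∈ rspan x {k | k ∈ L.flatten} ⊓ fixS σ :=
    ⟨h1 ▸ lprod_mem_rspan x (fun _ hk => hk) t', hgσ⟩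
  obtain ⟨s, hs, hgs⟩ := D.setup.mem_fix_iff.1 h2
  have h3 : ∀ r ∈ L.flatten, s r = t' r := D.setup.inj _ _ (hgs.symm.trans h1)
  have h4 : ∀ L' : List (List ℕ), (∀ o ∈ L', o ∈ L) → lprod x L'.flatten s ∈ FS (RX x N V σ) {w | IB cs h y z w} := by
    intro L'
    induction L' with
    | nil => intro _; exact Subgroup.one_mem _
    | cons o L' ih =>
      intro hL
      rw [List.flatten_cons, lprod_append]
      refine mul_mem ?_ (ih fun o' ho' => hL o' (List.mem_cons_of_mem _ ho'))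
      have ho := hL o List.mem_cons_self
      have h5 := D.setup.orbit_mem_fix hs ho
      rcases o with _ | ⟨r, o⟩
      · rw [lprod_nil]; exact one_mem _
      · have hr : r ∈ r :: o := List.mem_cons_self
        have hcl := D.clsL _ ho r hr
        have hrN : r < N := ((hcl r).1 hr).1
        by_cases hPr : P r
        · exact le_FS (G := RX x N V σ) (S := {w | IB cs h y z w}) (z := V r) hPr
            ⟨rspan_mono x (fun k hk => (hcl k).1 hk) h5.1, h5.2⟩
        · have h6 : ∀ k ∈ r :: o, s k = 0 := by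
            intro k hk
            rw [h3 k (List.mem_flatten.2 ⟨_, ho, hk⟩)]
            have h7 : ¬ P k := by
              intro h8
              apply hPr
              have h9 := ((hcl k).1 hk).2
              show IB cs h y z (V r)
              rw [← h9]; exact h8
            show (if P k then t k else 0) = 0
            rw [if_neg h7]
          have h7 : lprod x (r :: o) s = 1 := by
            refine Subgroup.mem_bot.1 (lprod_mem x (H := ⊥) fun k hk => ?_)
            rw [h6 k hk, x_zero D.setup.hadd]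
            exact one_mem _
          rw [h7]; exact one_mem _
  rw [hgs]
  exact h4 L fun _ ho => ho

/-- **The integral commutator formula.** -/
theorem intComm [Finite W] : IntComm cs h (RX x N V σ) := by
  intro y z hy hz hyz hyz' a ha b hb
  obtain ⟨w, hwy, hwz⟩ := exists_pos_pair hy hz hyz'
  obtain ⟨g, hg⟩ := exists_rp cs D.nsys w
  have ha' : g * a * g⁻¹ ∈ RX x N V σ (rep cs h w y) := by
    rw [← D.cj_rp hg]; exact conj_mem_cj.2 ha
  have hb' : g * b * g⁻¹ ∈ RX x N V σ (rep cs h w z) := by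
    rw [← D.cj_rp hg]; exact conj_mem_cj.2 hb
  have h1 : rep cs h w y ≠ rep cs h w z := fun e => hyz (rep_injective_apply cs h w e)
  have h2 : rep cs h w y ≠ -rep cs h w z := fun e => hyz' (rep_injective_apply cs h w (by rw [e, map_neg]))
  have h3 := span_comm D hC (hy.act w) (hz.act w) h1 h2 ha'.1 hb'.1
  have h4 : ⁅g * a * g⁻¹, g * b * g⁻¹⁆ ∈ fixS σ := by
    rw [commutatorElement_def]
    exact mul_mem (mul_mem (mul_mem ha'.2 hb'.2) (inv_mem ha'.2)) (inv_mem hb'.2)
  have h5 := fix_btw D hC hwy hwz ⟨h3, h4⟩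
  have h6 : ⁅g * a * g⁻¹, g * b * g⁻¹⁆ = g * ⁅a, b⁆ * g⁻¹ := by simp only [commutatorElement_def]; group
  rw [h6] at h5
  have h7 : cj g⁻¹ (FS (RX x N V σ) {v | IB cs h (rep cs h w y) (rep cs h w z) v}) ≤
      FS (RX x N V σ) {v | IB cs h y z v} := by
    unfold FS
    rw [cj_iSup]
    refine iSup_le ?_
    rintro ⟨v, hv⟩
    have h8 := IB.act (show IB cs h _ _ v from hv) w⁻¹
    rw [rep_inv_apply, rep_inv_apply] at h8
    show cj g⁻¹ (RX x N V σ v) ≤ _
    rw [D.cj_rp hg.inv]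
    exact le_iSup (fun z : {v | IB cs h y z v} => RX x N V σ z.1) ⟨_, h8⟩
  apply h7
  rw [mem_cj, inv_inv]
  exact h5

end Main

end Cfsg.Agent.KFacts.RgdFiltTw
end

-- part: KFacts/RgdFiltTwAll
section
/-!
Filtered root group data of the twisted groups `³D₄(q)`, `²E₆(q)` (helper650): `hasFilt_of_twisted`.
-/

set_option autoImplicit false
set_option linter.unusedSectionVars false

namespace Cfsg.Agent.KFacts.RgdFiltTwAll

open CoxeterSystem Cfsg.Agent.ChevalleyStructure.CoxeterGeom Cfsg.Agent.Tits.Roots Cfsg.Agent.Tits.Core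
  Cfsg.Agent.Nodes.BNOf Cfsg.Agent.Nodes.RGDTwGen Cfsg.Agent.Nodes.RGDChev Cfsg.Agent.Nodes.RGDFold
open Cfsg.Lie Cfsg.Agent.ChevalleyStructure Cfsg.Agent.ChevalleyStructure.Elts
  Cfsg.Agent.ChevalleyStructure.RootVec Cfsg.Agent.ChevalleyStructure.RootVecTab
open Cfsg.Agent.Nodes Cfsg.Agent.KFacts.RgdBorelTits Cfsg.Agent.KFacts.RgdFilt

universe u

section Group

variable {D : ChevalleyDatum} {l : ℕ} {M' : CoxeterMatrix (Fin l)} {hp : IsType D l M'} {K : Type u} [Field K]
variable {m : ℕ} {M : CoxeterMatrix (Fin m)} {W : Type*} [Group W] (cs : CoxeterSystem M W)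
  {A : Fin m → Fin m → ℤ} (h : IsCartan M A)
variable {J : Fin m → List (Fin l)} {L : List (List ℕ)} {σ : GL D.Idx K →* GL D.Idx K} {ρ ρ' : ℕ → ℕ}
    {f : ℕ → K → K} {G : Subgroup (GL D.Idx K)} (FD : FoldData D M A J L)
    (FG : FoldGrp hp K J L σ ρ ρ' f G)

include FD FG

theorem intComm_fold [Finite K] (p : ℕ) [Fact p.Prime] [CharP K p] : IntComm cs h (R D hp K J σ) := by
  have : Finite W := finite_W (hp := hp) cs h FD
  refine RgdFiltTw.intComm (twIn cs h FD FG p) ?_
  intro r hr s hs hrs hneg k hk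
  obtain ⟨⟨v, C, i, j⟩, hv, rfl⟩ := hk
  obtain ⟨hv1, -, -, hi, hj, hvec⟩ := commTerms_rt hp.checked hv
  refine ⟨j, i, by exact_mod_cast hj, by exact_mod_cast hi, ?_⟩
  exact V_linear fun a => by rw [hvec]; ring

theorem filt_fold [Finite K] (p : ℕ) [Fact p.Prime] [CharP K p] :
    Filt (rgd cs h FD FG p) (fun x s => (F2 (R D hp K J σ) (R D hp K J σ) x s).subgroupOf G) :=
  filt_restrict (R := rgd_GL cs h FD FG p) (intComm_fold cs h FD FG p).filt G
    (fun _ hz => R_le cs h FD FG p hz) (fun _ => rfl) _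

theorem hasFilt_fold [Finite K] (p : ℕ) [CharP K p] (h : IsCartan M A) : HasFilt p ↥G := by
  have : Fact p.Prime := ⟨CharP.char_is_prime K p⟩
  exact ⟨m, M, A, h, _, _, _, rgd M.toCoxeterSystem h FD FG p, _, finite_W (hp := hp) M.toCoxeterSystem h FD,
    G1_eq_top M.toCoxeterSystem h FD FG p, filt_fold M.toCoxeterSystem h FD FG p⟩

end Group

theorem hasFilt_D4 {K : Type u} [Field K] [Fintype K] {q : ℕ} (hq : IsPrimePow q) (hK : Fintype.card K = q ^ 3)
    (p : ℕ) [CharP K p] : HasFilt p ↥(twistedD4 K q) := by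
  obtain ⟨φ, hφ⟩ := D4Fixed.exists_frob hq hK
  exact hasFilt_fold RGDTwD4.foldData (RGDTwD4.foldGrp hφ (D4Fixed.twisted_le_fix hK hφ)) p RGDTwD4.isCartan

theorem hasFilt_E6 {K : Type u} [Field K] [Fintype K] {q : ℕ} (hq : IsPrimePow q) (hK : Fintype.card K = q ^ 2)
    (p : ℕ) [CharP K p] : HasFilt p ↥(twistedE6 K q) := by
  obtain ⟨φ, hφ, hqq⟩ := TwE6Basic.exists_frob hq hK
  exact hasFilt_fold RGDTwE6.foldData (RGDTwE6.foldGrp hφ hqq) p RGDTwE6.isCartan

/-- Every group `²E₆(q)`, `³D₄(q)` of characteristic `p` has a filtered root group datum of characteristic `p`. -/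
theorem hasFilt_of_twisted {p : ℕ} {G : Type*} [Group G] (hG : IsTwistedE6D4Char p G) : HasFilt p G := by
  obtain ⟨K, _, _, _, q, hq, ⟨hK, ⟨e⟩⟩ | ⟨hK, ⟨e⟩⟩⟩ := hG
  · exact (hasFilt_E6 hq hK p).of_equiv e.symm
  · exact (hasFilt_D4 hq hK p).of_equiv e.symm

end Cfsg.Agent.KFacts.RgdFiltTwAll
end
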