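import Mathlib
import Cfsg.Prelude.Def_Transfer
import Cfsg.Agent.Lib.FrattiniPGroup
import Cfsg.Agent.J3Type.OneClass
set_option linter.all false

/-!
# The group `2^{1+4}_- : A₅` (helper206)

Facts about a group with a signed permutation model (`J2Type.Model.IsModel`, `J3Type.OneClass.HasModel`): it is
perfect, `Q` is extraspecial, `C(Q) = ⟨z⟩`, and no normal subgroup lies strictly between `⟨z⟩` and `Q`.
-/

set_option autoImplicit false

namespace Cfsg.Agent.KFacts.QMinus

open scoped commutatorElement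
open Cfsg.Agent.J2Type.Model Cfsg.Agent.J2Type.SPFacts Cfsg.Agent.J2Type.CStruct Cfsg.Agent.J3Type.OneClass

/-- a criterion for extraspecial groups -/
theorem extra_of {X : Type*} [Group X] [Finite X] (z : X) (hz1 : z ≠ 1) (hz2 : z * z = 1)
    (hcen : ∀ q : X, q ∈ Subgroup.center X ↔ q = 1 ∨ q = z)
    (hsq : ∀ q : X, q * q = 1 ∨ q * q = z)
    (hcomm : ∀ x y : X, x * y = y * x ∨ x * y = z * (y * x))
    (hex : ∃ x : X, x * x = z) (hex2 : ∃ x y : X, x * y = z * (y * x)) : Cfsg.IsExtraspecial 2 X := by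
  have hpG : IsPGroup 2 X := by
    intro q
    refine ⟨2, ?_⟩
    have h4 : q ^ (2 ^ 2) = (q * q) * (q * q) := by
      rw [show (2 : ℕ) ^ 2 = 2 + 2 by norm_num, pow_add, pow_two]
    rw [h4]
    rcases hsq q with h | h
    · rw [h, one_mul]
    · rw [h, hz2]
  have hfact : Fact (Nat.Prime 2) := ⟨Nat.prime_two⟩
  have hcm : ∀ x y : X, ⁅x, y⁆ ∈ Subgroup.center X := by
    intro x y
    rw [hcen]
    have h1 : ⁅x, y⁆ = x * y * x⁻¹ * y⁻¹ := rfl
    rw [h1]
    rcases hcomm x y with h | h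
    · left; rw [h]; group
    · right; rw [h]; group
  have hzle : ∀ N : Subgroup X, z ∈ N → Subgroup.center X ≤ N := by
    intro N hN c hc
    rcases (hcen c).1 hc with h | h
    · rw [h]; exact N.one_mem
    · rw [h]; exact hN
  refine ⟨⟨hpG, ?_, ?_⟩, ?_⟩
  · apply le_antisymm
    · apply Cfsg.Agent.Lib.FrattiniPGroup.frattini_le (p := 2) (Subgroup.center X) hcm
      intro x
      rw [hcen, pow_two]
      exact hsq x
    · apply hzle
      obtain ⟨x, hx⟩ := hex
      have h1 := Cfsg.Agent.Lib.FrattiniPGroup.pow_mem_frattini hpG x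
      rwa [pow_two, hx] at h1
  · apply le_antisymm
    · rw [_root_.commutator_def, Subgroup.commutator_le]
      intro x _ y _
      exact hcm x y
    · apply hzle
      obtain ⟨x, y, hxy⟩ := hex2
      have h1 : ⁅x, y⁆ = z := by
        show x * y * x⁻¹ * y⁻¹ = z
        rw [hxy]; group
      rw [← h1, _root_.commutator_def]
      exact Subgroup.commutator_mem_commutator (Subgroup.mem_top _) (Subgroup.mem_top _)
  · have h1 : (Subgroup.center X : Set X) = {1, z} := by
      ext c
      exact hcen c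
    have h2 : Nat.card (Subgroup.center X) = (Subgroup.center X : Set X).ncard := rfl
    rw [h2, h1, Set.ncard_pair hz1.symm]

section C

variable {C : Type*} [Group C] {Q : Subgroup C} {z : C} {v : Fin 5 → C} {ρ : C →* SP}

/-- the centraliser of `Q` -/
theorem cent_Q (M : IsModel Q z v ρ) {c : C} (h : ∀ i, c * v i = v i * c) : c = 1 ∨ c = z := by
  apply (M.ker c).1
  have key : ∀ i, (ρ c).s i = 0 ∧ (ρ c).σ i = i := by
    intro i
    have h1 := M.conj c i
    rw [h i, mul_inv_cancel_right] at h1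
    have h2 : zp z 0 * v i = zp z ((ρ c).s i) * v ((ρ c).σ i) := by rw [zp_zero, one_mul]; exact h1
    have h3 := M.v_inj _ _ _ _ h2
    exact ⟨h3.1.symm, h3.2.symm⟩
  apply SP.ext
  · apply Equiv.ext
    intro j
    exact (key j).2
  · funext j
    exact (key j).1

/-- a subgroup containing all `v i` contains `Q` -/
theorem Q_le (M : IsModel Q z v ρ) {N : Subgroup C} (h : ∀ i, v i ∈ N) : Q ≤ N := by
  have hz : z ∈ N := by
    rw [← vv_sq M (show (0 : Fin 5) ≠ 1 by decide)]
    exact N.mul_mem (N.mul_mem (h 0) (h 1)) (N.mul_mem (h 0) (h 1))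
  have hzp : ∀ a, zp z a ∈ N := fun a => zp_mem N z hz a
  intro q hq
  rcases M.cover q hq with ⟨a, h1⟩ | ⟨a, i, h1⟩ | ⟨a, i, j, _, h1⟩
  · rw [h1]; exact hzp a
  · rw [h1]; exact N.mul_mem (hzp a) (h i)
  · rw [h1]; exact N.mul_mem (hzp a) (N.mul_mem (h i) (h j))

/-- an element with given signed permutation, even and of sum zero -/
theorem exists_c (M : IsModel Q z v ρ) (σ : Equiv.Perm (Fin 5)) (hσ : Equiv.Perm.sign σ = 1) :
    ∃ c, ∀ i, c * v i * c⁻¹ = v (σ i) := by
  obtain ⟨c, hc⟩ := (M.range ⟨σ, fun _ => 0⟩).2 ⟨hσ, by simp⟩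
  refine ⟨c, fun i => ?_⟩
  rw [M.conj, hc]
  show zp z 0 * v (σ i) = v (σ i)
  rw [zp_zero, one_mul]

/-- a `C`-invariant subgroup of `Q` containing some `z^a v_i` is `Q` -/
theorem eq_Q_of_v (M : IsModel Q z v ρ) {N : Subgroup C} (hN : N ≤ Q)
    (hn : ∀ c, ∀ n ∈ N, c * n * c⁻¹ ∈ N) {a : ZMod 2} {i : Fin 5} (h : zp z a * v i ∈ N) : N = Q := by
  apply le_antisymm hN
  apply Q_le M
  intro j
  obtain ⟨c, hc⟩ := trans_v M a 0 i j
  have h1 := hn c _ h
  rw [hc, zp_zero, one_mul] at h1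
  exact h1

theorem perm_aux : ∀ i j k l : Fin 5, i ≠ j → k ≠ l →
    ∃ σ : Equiv.Perm (Fin 5), Equiv.Perm.sign σ = 1 ∧ σ i = k ∧ σ j = l := by
  decide +kernel

/-- normal subgroups inside `Q` -/
theorem irr (M : IsModel Q z v ρ) {N : Subgroup C} (hN : N ≤ Q)
    (hn : ∀ c, ∀ n ∈ N, c * n * c⁻¹ ∈ N) : (∀ n ∈ N, n = 1 ∨ n = z) ∨ N = Q := by
  by_contra hcon
  push Not at hcon
  obtain ⟨⟨n, hnN, hn1, hnz⟩, hne⟩ := hcon
  rcases M.cover n (hN hnN) with ⟨a, h1⟩ | ⟨a, i, h1⟩ | ⟨a, i, j, hij, h1⟩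
  · rcases zmod2_cases a with rfl | rfl
    · rw [zp_zero] at h1; exact hn1 h1
    · rw [zp_one] at h1; exact hnz h1
  · rw [h1] at hnN
    exact hne (eq_Q_of_v M hN hn hnN)
  · -- `n = z^a v_i v_j`
    have hsq : n * n = z := by rw [h1, sq_zp_mul M, vv_sq M hij.ne]
    have hz : z ∈ N := by rw [← hsq]; exact N.mul_mem hnN hnN
    have hzp : ∀ b, zp z b ∈ N := fun b => zp_mem N z hz b
    have hvv : v i * v j ∈ N := by
      have h2 : v i * v j = zp z a * n := by
        rw [h1, ← mul_assoc, zp_sq M, one_mul]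
      rw [h2]; exact N.mul_mem (hzp a) hnN
    have hall : ∀ k l : Fin 5, k ≠ l → v k * v l ∈ N := by
      intro k l hkl
      obtain ⟨σ, hσ, hk, hl⟩ := perm_aux i j k l hij.ne hkl
      obtain ⟨c, hc⟩ := exists_c M σ hσ
      have h2 := hn c _ hvv
      have h3 : c * (v i * v j) * c⁻¹ = (c * v i * c⁻¹) * (c * v j * c⁻¹) := by group
      rw [h3, hc, hc, hk, hl] at h2
      exact h2
    have h4 : v 4 ∈ N := by
      have h5 : v 0 * v 1 * (v 2 * v 3) * v 4 = 1 := by rw [← M.v_prod]; group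
      have h6 : v 0 * v 1 * (v 2 * v 3) ∈ N :=
        N.mul_mem (hall 0 1 (by decide)) (hall 2 3 (by decide))
      rw [← inv_mem_iff, ← eq_inv_of_mul_eq_one_left h5]
      exact h6
    apply hne
    apply eq_Q_of_v M hN hn (a := 0) (i := 4)
    rw [zp_zero, one_mul]; exact h4

/-- `C` is perfect -/
theorem perfect (M : IsModel Q z v ρ) : commutator C = ⊤ := by
  set D := commutator C with hD
  have hcomm : ∀ a b : C, a * b * a⁻¹ * b⁻¹ ∈ D := by
    intro a b
    rw [hD, _root_.commutator_def]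
    exact Subgroup.commutator_mem_commutator (Subgroup.mem_top a) (Subgroup.mem_top b)
  -- `v i v j ∈ D`
  have hvv : ∀ i j, v i * v j ∈ D := by
    intro i j
    obtain ⟨c, hc⟩ := trans_v M 0 0 j i
    rw [zp_zero, one_mul, one_mul] at hc
    have h1 := hcomm c (v j)
    rw [hc] at h1
    have h2 : (v j)⁻¹ = v j := inv_eq_of_mul_eq_one_left (M.v_sq j)
    rwa [h2] at h1
  have hQ : Q ≤ D := by
    apply Q_le M
    intro i
    have h4 : v 4 ∈ D := by
      have h5 : v 0 * v 1 * (v 2 * v 3) * v 4 = 1 := by rw [← M.v_prod]; group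
      rw [← inv_mem_iff, ← eq_inv_of_mul_eq_one_left h5]
      exact D.mul_mem (hvv 0 1) (hvv 2 3)
    have h6 := D.mul_mem (hvv i 4) h4
    rwa [mul_assoc, M.v_sq, mul_one] at h6
  -- the map to `A₅`
  let f : C →* Equiv.Perm (Fin 5) :=
    { toFun := fun c => (ρ c).σ
      map_one' := by rw [map_one]; rfl
      map_mul' := fun a b => by rw [map_mul]; rfl }
  have hf : ∀ c, f c = (ρ c).σ := fun c => rfl
  have hrange : f.range = alternatingGroup (Fin 5) := by
    ext σ
    rw [Equiv.Perm.mem_alternatingGroup]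
    constructor
    · rintro ⟨c, rfl⟩
      exact ((M.range (ρ c)).1 ⟨c, rfl⟩).1
    · intro h
      obtain ⟨c, hc⟩ := (M.range ⟨σ, fun _ => 0⟩).2 ⟨h, by simp⟩
      exact ⟨c, by rw [hf, hc]⟩
  have hmap : D.map f = alternatingGroup (Fin 5) := by
    rw [hD, _root_.commutator_def, Subgroup.map_commutator, ← MonoidHom.range_eq_map, hrange]
    exact _root_.commutator_alternatingGroup_eq_self (by simp)
  rw [eq_top_iff]
  intro c _
  have h1 : f c ∈ D.map f := by rw [hmap, ← hrange]; exact ⟨c, rfl⟩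
  obtain ⟨d, hd, hdc⟩ := h1
  have h2 : d⁻¹ * c ∈ Q := by
    rw [M.mem_Q, ← hf, map_mul, map_inv, hdc, inv_mul_cancel]
  have h3 := D.mul_mem hd (hQ h2)
  rwa [mul_inv_cancel_left] at h3

/-- the action on the five classes -/
def permHom (ρ : C →* SP) : C →* Equiv.Perm (Fin 5) where
  toFun c := (ρ c).σ
  map_one' := by rw [map_one]; rfl
  map_mul' a b := by rw [map_mul]; rfl

theorem permHom_apply (c : C) : permHom ρ c = (ρ c).σ := rfl

theorem range_permHom (M : IsModel Q z v ρ) : (permHom ρ).range = alternatingGroup (Fin 5) := by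
  ext σ
  rw [Equiv.Perm.mem_alternatingGroup]
  constructor
  · rintro ⟨c, rfl⟩
    exact ((M.range (ρ c)).1 ⟨c, rfl⟩).1
  · intro h
    obtain ⟨c, hc⟩ := (M.range ⟨σ, fun _ => 0⟩).2 ⟨h, by simp⟩
    exact ⟨c, by rw [permHom_apply, hc]⟩

theorem ker_permHom (M : IsModel Q z v ρ) : (permHom ρ).ker = Q := by
  ext c
  rw [MonoidHom.mem_ker, permHom_apply, M.mem_Q]

theorem card_A5 : Nat.card (alternatingGroup (Fin 5)) = 60 := by
  rw [Nat.card_eq_fintype_card]
  decide +kernel

theorem card_mul (M : IsModel Q z v ρ) : Nat.card Q * 60 = Nat.card C := by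
  have h1 := Subgroup.card_eq_card_quotient_mul_card_subgroup (permHom ρ).ker
  rw [Nat.card_congr (QuotientGroup.quotientKerEquivRange (permHom ρ)).toEquiv, range_permHom M,
    card_A5, ker_permHom M, mul_comm] at h1
  exact h1.symm

theorem sq_mem (M : IsModel Q z v ρ) {x : C} (hx : x ∈ Q) : x * x = 1 ∨ x * x = z := by
  rcases M.cover x hx with ⟨a, h1⟩ | ⟨a, i, h1⟩ | ⟨a, i, j, hij, h1⟩
  · left; rw [h1]; exact zp_sq M a
  · left; rw [h1, sq_zp_mul M, M.v_sq]
  · right; rw [h1, sq_zp_mul M, vv_sq M hij.ne]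

theorem comm_mem (M : IsModel Q z v ρ) {x y : C} (hx : x ∈ Q) (hy : y ∈ Q) :
    x * y = y * x ∨ x * y = z * (y * x) := by
  have h1 : ρ (x * y) = ρ (y * x) := by
    have hx1 := (M.mem_Q x).1 hx
    have hy1 := (M.mem_Q y).1 hy
    rw [map_mul, map_mul]
    apply SP.ext
    · rw [mul_σ, mul_σ, hx1, hy1]
    · funext i
      rw [mul_s, mul_s, hx1, hy1]
      show (ρ y).s i + (ρ x).s i = (ρ x).s i + (ρ y).s i
      ring
  obtain ⟨a, ha⟩ := eq_of_rho_eq M h1
  rcases zmod2_cases a with rfl | rfl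
  · rw [zp_zero, one_mul] at ha; exact Or.inl ha
  · rw [zp_one] at ha; exact Or.inr ha

theorem center_eq (M : IsModel Q z v ρ) (q : Q) :
    q ∈ Subgroup.center Q ↔ (q : C) = 1 ∨ (q : C) = z := by
  rw [Subgroup.mem_center_iff]
  constructor
  · intro h
    apply cent_Q M
    intro i
    exact (congrArg Subtype.val (h ⟨v i, M.v_mem i⟩)).symm
  · intro h g
    apply Subtype.ext
    rw [Subgroup.coe_mul, Subgroup.coe_mul]
    rcases h with h | h
    · rw [h, mul_one, one_mul]
    · rw [h, M.z_comm]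

/-- `Q` is extraspecial -/
theorem extraspecial [Finite C] (M : IsModel Q z v ρ) : Cfsg.IsExtraspecial 2 Q := by
  refine extra_of (⟨z, M.z_mem⟩ : Q) (fun h => M.z_ne (congrArg Subtype.val h)) (Subtype.ext M.z_sq)
    ?_ ?_ ?_ ⟨⟨v 0 * v 1, Q.mul_mem (M.v_mem 0) (M.v_mem 1)⟩, Subtype.ext (vv_sq M (by decide))⟩
    ⟨⟨v 0, M.v_mem 0⟩, ⟨v 1, M.v_mem 1⟩, Subtype.ext (M.v_anti 0 1 (by decide))⟩
  · intro q
    rw [center_eq M]
    constructor
    · rintro (h | h)
      · exact Or.inl (Subtype.ext h)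
      · exact Or.inr (Subtype.ext h)
    · rintro (h | h)
      · exact Or.inl (congrArg Subtype.val h)
      · exact Or.inr (congrArg Subtype.val h)
  · intro q
    rcases sq_mem M q.2 with h | h
    · exact Or.inl (Subtype.ext h)
    · exact Or.inr (Subtype.ext h)
  · intro x y
    rcases comm_mem M x.2 y.2 with h | h
    · exact Or.inl (Subtype.ext h)
    · exact Or.inr (Subtype.ext h)

end C

section K

variable {K : Type*} [Group K]

/-- the facts on `P = C_K(z)`, `R = O₂(P)` used in the odd half -/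
structure Sheet (z : K) (R : Subgroup K) : Prop where
  ne : z ≠ 1
  sq : z * z = 1
  perf : ⁅Subgroup.centralizer ({z} : Set K), Subgroup.centralizer ({z} : Set K)⁆ =
    Subgroup.centralizer ({z} : Set K)
  zR : z ∈ R
  comm : ∀ r ∈ R, r * z = z * r
  norm : ∀ c, c * z = z * c → ∀ r ∈ R, c * r * c⁻¹ ∈ R
  ext : Cfsg.IsExtraspecial 2 R
  card : Nat.card R = 32
  cen : ∀ c, (∀ r ∈ R, c * r = r * c) → c = 1 ∨ c = z
  irr : ∀ N : Subgroup K, N ≤ R → (∀ c, c * z = z * c → ∀ n ∈ N, c * n * c⁻¹ ∈ N) →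
    (∀ n ∈ N, n = 1 ∨ n = z) ∨ N = R

theorem mem_cent {z c : K} : c ∈ Subgroup.centralizer ({z} : Set K) ↔ c * z = z * c :=
  Subgroup.mem_centralizer_singleton_iff

/-- the sheet of a group with a model -/
theorem sheet [Finite K] {t : K} {Q : Subgroup (Subgroup.centralizer ({t} : Set K))}
    {v : Fin 5 → Subgroup.centralizer ({t} : Set K)} {ρ : Subgroup.centralizer ({t} : Set K) →* SP}
    (hc : Nat.card (Subgroup.centralizer ({t} : Set K)) = 1920)
    (M : IsModel Q (zc t) v ρ) : Sheet t (Q.map (Subgroup.centralizer ({t} : Set K)).subtype) where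
  ne := fun h => M.z_ne (Subtype.ext h)
  sq := congrArg Subtype.val M.z_sq
  perf := by
    have h1 := perfect M
    rw [_root_.commutator_def] at h1
    have h2 := congrArg (Subgroup.map (Subgroup.centralizer ({t} : Set K)).subtype) h1
    rw [Subgroup.map_commutator, ← MonoidHom.range_eq_map, Subgroup.range_subtype] at h2
    exact h2
  zR := ⟨zc t, M.z_mem, rfl⟩
  comm := by
    rintro _ ⟨r, _, rfl⟩
    exact mem_cent.1 r.2
  norm := by
    rintro c hc _ ⟨r, hr, rfl⟩
    have := normal_Q M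
    exact ⟨⟨c, mem_cent.2 hc⟩ * r * ⟨c, mem_cent.2 hc⟩⁻¹, Subgroup.Normal.conj_mem this r hr _, rfl⟩
  ext := by
    have e : Q ≃* (Q.map (Subgroup.centralizer ({t} : Set K)).subtype) :=
      Q.equivMapOfInjective _ (Subgroup.subtype_injective _)
    have hX := extraspecial M
    have hcen : ∀ q : Q, q ∈ Subgroup.center Q ↔ q = 1 ∨ q = ⟨zc t, M.z_mem⟩ := by
      intro q
      rw [center_eq M]
      exact or_congr ⟨fun h => Subtype.ext h, fun h => congrArg Subtype.val h⟩
        ⟨fun h => Subtype.ext h, fun h => congrArg Subtype.val h⟩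
    refine extra_of (e ⟨zc t, M.z_mem⟩) ?_ ?_ ?_ ?_ ?_ ?_ ?_
    · intro h
      rw [← map_one e] at h
      exact M.z_ne (congrArg Subtype.val (e.injective h))
    · rw [← map_mul, ← map_one e]
      exact congrArg e (Subtype.ext M.z_sq)
    · intro q
      obtain ⟨q, rfl⟩ := e.surjective q
      rw [← map_one e, e.injective.eq_iff, e.injective.eq_iff, ← hcen, Subgroup.mem_center_iff,
        Subgroup.mem_center_iff]
      constructor
      · intro h g
        have h1 := h (e g)
        rw [← map_mul, ← map_mul] at h1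
        exact e.injective h1
      · intro h g
        obtain ⟨g, rfl⟩ := e.surjective g
        rw [← map_mul, ← map_mul, h g]
    · intro q
      obtain ⟨q, rfl⟩ := e.surjective q
      rw [← map_mul, ← map_one e, e.injective.eq_iff, e.injective.eq_iff]
      rcases sq_mem M q.2 with h | h
      · exact Or.inl (Subtype.ext h)
      · exact Or.inr (Subtype.ext h)
    · intro x y
      obtain ⟨x, rfl⟩ := e.surjective x
      obtain ⟨y, rfl⟩ := e.surjective y
      rw [← map_mul, ← map_mul, ← map_mul, e.injective.eq_iff, e.injective.eq_iff]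
      rcases comm_mem M x.2 y.2 with h | h
      · exact Or.inl (Subtype.ext h)
      · exact Or.inr (Subtype.ext h)
    · refine ⟨e ⟨v 0 * v 1, Q.mul_mem (M.v_mem 0) (M.v_mem 1)⟩, ?_⟩
      rw [← map_mul]
      exact congrArg e (Subtype.ext (vv_sq M (by decide)))
    · refine ⟨e ⟨v 0, M.v_mem 0⟩, e ⟨v 1, M.v_mem 1⟩, ?_⟩
      rw [← map_mul, ← map_mul, ← map_mul]
      exact congrArg e (Subtype.ext (M.v_anti 0 1 (by decide)))
  card := by
    have e : Q ≃* (Q.map (Subgroup.centralizer ({t} : Set K)).subtype) :=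
      Q.equivMapOfInjective _ (Subgroup.subtype_injective _)
    rw [← Nat.card_congr e.toEquiv]
    have := card_mul M
    omega
  cen := by
    intro c h
    have hct : c * t = t * c := h t ⟨zc t, M.z_mem, rfl⟩
    rcases cent_Q M (c := ⟨c, mem_cent.2 hct⟩) (fun i => Subtype.ext (h _ ⟨v i, M.v_mem i, rfl⟩)) with h | h
    · exact Or.inl (congrArg Subtype.val h)
    · exact Or.inr (congrArg Subtype.val h)
  irr := by
    intro N hN hn
    have hle : N ≤ Subgroup.centralizer ({t} : Set K) := by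
      intro n hnN
      obtain ⟨r, _, rfl⟩ := hN hnN
      exact r.2
    rcases irr M (N := N.subgroupOf (Subgroup.centralizer ({t} : Set K))) (by
        intro n hnN
        obtain ⟨r, hr, h⟩ := hN hnN
        have : n = r := Subtype.ext h.symm
        rw [this]; exact hr) (fun c n hnN => hn c (mem_cent.1 c.2) n hnN) with h | h
    · left
      intro n hnN
      rcases h ⟨n, hle hnN⟩ hnN with h1 | h1
      · exact Or.inl (congrArg Subtype.val h1)
      · exact Or.inr (congrArg Subtype.val h1)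
    · right
      rw [← h, Subgroup.map_subgroupOf_eq_of_le hle]

end K

end Cfsg.Agent.KFacts.QMinus
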