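import Mathlib
import Cfsg.Prelude.Def_Transfer
import Cfsg.Agent.ClassificationK.Extraspecial
import Cfsg.Agent.KFacts.CentTwo
set_option linter.all false

/-!
# Automorphisms fixing an involution with extraspecial `O₂` of the centraliser

Let `z` be an involution of `K` and `Q ⊴ C_K(z)` extraspecial with `C_K(Q) ≤ ⟨z⟩`, and suppose that `C_K(z)` has no
subgroup of index 2. If an automorphism `α` fixing `z` induces on `Q / ⟨z⟩` what some element of `C_K(z)` induces,
then `α` agrees on `C_K(z)` with an inner automorphism (`exists_conj_mul`); with the fusion hypotheses of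
`CentTwo.eq_one_or_conj` it is inner (`exists_conj`).
-/

set_option autoImplicit false

namespace Cfsg.Agent.KFacts.OutQ

variable {K : Type*} [Group K]

theorem conj_inv_mul_apply (k : K) (α : MulAut K) (x : K) : ((MulAut.conj k)⁻¹ * α) x = k⁻¹ * α x * k := by
  rw [MulAut.mul_apply, ← map_inv, MulAut.conj_apply, inv_inv]

/-- An automorphism fixing `z` and inducing on `Q / ⟨z⟩` what an element `c₀` of `C_K(z)` induces agrees on `C_K(z)` with
the conjugation by some element `c₀ x`, `x ∈ Q`. -/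
theorem exists_conj_mul [Finite K] {z : K} (hz1 : z ≠ 1) (hz : z * z = 1) (Q : Subgroup K)
    (hQ : Cfsg.IsExtraspecial 2 Q) (hzQ : z ∈ Q) (hQz : ∀ q ∈ Q, q * z = z * q)
    (hnorm : ∀ c : K, c * z = z * c → ∀ q ∈ Q, c * q * c⁻¹ ∈ Q)
    (hCQ : ∀ c : K, (∀ q ∈ Q, c * q = q * c) → c = 1 ∨ c = z)
    (hno : ∀ N : Subgroup (Subgroup.centralizer ({z} : Set K)), N.index ≠ 2)
    (α : MulAut K) (hαz : α z = z) {c₀ : K} (hc₀ : c₀ * z = z * c₀)
    (hmod : ∀ q ∈ Q, α q = c₀ * q * c₀⁻¹ ∨ α q = c₀ * q * c₀⁻¹ * z) :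
    ∃ x ∈ Q, ∀ c : K, c * z = z * c → α c = (c₀ * x) * c * (c₀ * x)⁻¹ := by
  have hzi : z⁻¹ = z := inv_eq_of_mul_eq_one_left hz
  -- the centre of `Q`
  have hcen : ∀ q : Q, q ∈ Subgroup.center Q ↔ (q : K) = 1 ∨ (q : K) = z := by
    intro q
    constructor
    · intro h
      refine hCQ q fun r hr => ?_
      exact congrArg Subtype.val (Subgroup.mem_center_iff.1 h ⟨r, hr⟩).symm
    · intro h
      rw [Subgroup.mem_center_iff]
      intro r
      apply Subtype.ext
      rcases h with h | h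
      · rw [Subgroup.coe_mul, Subgroup.coe_mul, h, mul_one, one_mul]
      · rw [Subgroup.coe_mul, Subgroup.coe_mul, h]
        exact hQz r r.2
  -- the automorphism `β = conj(c₀)⁻¹ α`
  set β : MulAut K := (MulAut.conj c₀)⁻¹ * α with hβ
  have hβa : ∀ x, β x = c₀⁻¹ * α x * c₀ := fun x => conj_inv_mul_apply c₀ α x
  have hc₀i : c₀⁻¹ * z * c₀ = z := by
    rw [mul_assoc, ← hc₀]; group
  have hβQ : ∀ q ∈ Q, β q = q ∨ β q = q * z := by
    intro q hq
    rw [hβa]
    rcases hmod q hq with h | h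
    · left; rw [h]; group
    · right
      rw [h]
      calc c₀⁻¹ * (c₀ * q * c₀⁻¹ * z) * c₀ = q * (c₀⁻¹ * z * c₀) := by group
        _ = q * z := by rw [hc₀i]
  have hβmem : ∀ q ∈ Q, β q ∈ Q := by
    intro q hq
    rcases hβQ q hq with h | h
    · rw [h]; exact hq
    · rw [h]; exact mul_mem hq hzQ
  let σ : Q →* Q := (β.toMonoidHom.comp Q.subtype).codRestrict Q fun q => hβmem q q.2
  have hσ : ∀ q : Q, ((σ q : Q) : K) = β q := fun q => rfl
  obtain ⟨x, hx⟩ := Cfsg.Agent.ClassificationK.Extraspecial.exists_inner hQ.1.2.2 Nat.prime_two hQ.2 σ (by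
    intro q
    rw [hcen]
    rw [Subgroup.coe_mul, hσ, Subgroup.coe_inv]
    rcases hβQ q q.2 with h | h
    · left; rw [h, mul_inv_cancel]
    · right
      rw [h, hQz q q.2]
      group)
  have hβx : ∀ q ∈ Q, β q = x * q * (x : K)⁻¹ := fun q hq => by
    have := congrArg Subtype.val (hx ⟨q, hq⟩)
    exact this
  -- the automorphism `γ = conj(x)⁻¹ β` fixes `Q`
  set γ : MulAut K := (MulAut.conj (x : K))⁻¹ * β with hγ
  have hγa : ∀ y, γ y = (x : K)⁻¹ * β y * x := fun y => conj_inv_mul_apply _ β y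
  have hγQ : ∀ q ∈ Q, γ q = q := by
    intro q hq
    rw [hγa, hβx q hq]; group
  have hγz : γ z = z := hγQ z hzQ
  have key : ∀ c : K, c * z = z * c → c⁻¹ * γ c = 1 ∨ c⁻¹ * γ c = z := by
    intro c hc
    apply hCQ
    intro q hq
    have h1 := hγQ _ (hnorm c hc q hq)
    rw [map_mul, map_mul, map_inv, hγQ q hq] at h1
    have h2 : c⁻¹ * (γ c * q * (γ c)⁻¹) * γ c = c⁻¹ * (c * q * c⁻¹) * γ c := by rw [h1]
    calc c⁻¹ * γ c * q = c⁻¹ * (γ c * q * (γ c)⁻¹) * γ c := by group
      _ = c⁻¹ * (c * q * c⁻¹) * γ c := h2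
      _ = q * (c⁻¹ * γ c) := by group
  -- the homomorphism `c ↦ c⁻¹ γ(c)`
  have hfix : ∀ c : K, c * z = z * c → γ c = c := by
    let N : Subgroup (Subgroup.centralizer ({z} : Set K)) :=
      { carrier := {c | γ c = c}
        one_mem' := by
          change γ ((1 : Subgroup.centralizer ({z} : Set K)) : K) = _
          rw [Subgroup.coe_one, map_one]
        mul_mem' := fun {a b} ha hb => by
          change γ ((a * b : Subgroup.centralizer ({z} : Set K)) : K) = _
          rw [Subgroup.coe_mul, map_mul, show γ a = a from ha, show γ b = b from hb]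
        inv_mem' := fun {a} ha => by
          change γ ((a⁻¹ : Subgroup.centralizer ({z} : Set K)) : K) = _
          rw [Subgroup.coe_inv, map_inv, show γ a = a from ha] }
    have hmemN : ∀ c : Subgroup.centralizer ({z} : Set K), c ∈ N ↔ γ c = c := fun _ => Iff.rfl
    have hcz : ∀ c : Subgroup.centralizer ({z} : Set K), (c : K) * z = z * c := fun c =>
      (Subgroup.mem_centralizer_singleton_iff.1 c.2)
    have htop : N = ⊤ := by
      by_contra hne
      obtain ⟨a, ha⟩ : ∃ a, a ∉ N := by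
        by_contra hcon
        push Not at hcon
        exact hne ((Subgroup.eq_top_iff' N).2 hcon)
      have hγd : ∀ c : Subgroup.centralizer ({z} : Set K), c ∉ N → γ c = c * z := by
        intro c hc
        rcases key c (hcz c) with h | h
        · exact absurd ((hmemN c).2 (inv_mul_eq_one.1 h).symm) hc
        · rw [inv_mul_eq_iff_eq_mul] at h
          exact h
      apply hno N
      rw [Subgroup.index_eq_two_iff]
      refine ⟨a, fun b => ?_⟩
      have hγab : γ ((b * a : Subgroup.centralizer ({z} : Set K)) : K) = γ b * (a * z) := by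
        rw [Subgroup.coe_mul, map_mul, hγd a ha]
      by_cases hb : b ∈ N
      · right
        refine ⟨hb, fun h => ?_⟩
        rw [hmemN, hγab, (hmemN b).1 hb, Subgroup.coe_mul, ← mul_assoc] at h
        exact hz1 (mul_eq_left.1 h)
      · left
        refine ⟨?_, hb⟩
        rw [hmemN, hγab, hγd b hb, Subgroup.coe_mul]
        calc (b : K) * z * (a * z) = b * (z * a) * z := by group
          _ = b * (a * z) * z := by rw [hcz a]
          _ = b * a * (z * z) := by group
          _ = b * a := by rw [hz, mul_one]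
    intro c hc
    have h1 : (⟨c, Subgroup.mem_centralizer_singleton_iff.2 hc⟩ : Subgroup.centralizer ({z} : Set K)) ∈ N := by
      rw [htop]; exact Subgroup.mem_top _
    exact (hmemN _).1 h1
  refine ⟨x, x.2, fun c hc => ?_⟩
  have h1 := hfix c hc
  rw [hγa, hβa] at h1
  calc α c = c₀ * x * ((x : K)⁻¹ * (c₀⁻¹ * α c * c₀) * x) * (c₀ * x)⁻¹ := by group
    _ = c₀ * x * c * (c₀ * x)⁻¹ := by rw [h1]

/-- **Automorphisms fixing an involution `z`, of inner type on `Q / ⟨z⟩`, are inner.** -/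
theorem exists_conj [Finite K] {z z' n τ : K} (hz1 : z ≠ 1) (hz : z * z = 1) (hz' : z' * z' = 1)
    (hc : z * z' = z' * z) (hne : z ≠ z') (hn : n * z * n⁻¹ = z') (hn' : n * z' * n⁻¹ = z * z')
    (hτ : τ * z = z * τ) (hτ' : τ * z' * τ⁻¹ = z * z')
    (hV : ∀ s : K, (∀ c : K, c * z = z * c → c * z' = z' * c → s * c = c * s) →
      s = 1 ∨ s = z ∨ s = z' ∨ s = z * z')
    (hgen : Subgroup.closure ({c : K | c * z = z * c} ∪ {n}) = ⊤) (Q : Subgroup K)
    (hQ : Cfsg.IsExtraspecial 2 Q) (hzQ : z ∈ Q) (hQz : ∀ q ∈ Q, q * z = z * q)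
    (hnorm : ∀ c : K, c * z = z * c → ∀ q ∈ Q, c * q * c⁻¹ ∈ Q)
    (hCQ : ∀ c : K, (∀ q ∈ Q, c * q = q * c) → c = 1 ∨ c = z)
    (hno : ∀ N : Subgroup (Subgroup.centralizer ({z} : Set K)), N.index ≠ 2)
    (α : MulAut K) (hαz : α z = z) {c₀ : K} (hc₀ : c₀ * z = z * c₀)
    (hmod : ∀ q ∈ Q, α q = c₀ * q * c₀⁻¹ ∨ α q = c₀ * q * c₀⁻¹ * z) :
    ∃ k : K, α = MulAut.conj k := by
  obtain ⟨x, hxQ, hx⟩ := exists_conj_mul hz1 hz Q hQ hzQ hQz hnorm hCQ hno α hαz hc₀ hmod
  have h1 : ∀ c : K, c * z = z * c → ((MulAut.conj (c₀ * x))⁻¹ * α) c = c := by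
    intro c hcz
    rw [conj_inv_mul_apply, hx c hcz]; group
  rcases CentTwo.eq_one_or_conj hz hz' hc hne hn hn' hτ hτ' hV hgen _ h1 with h | h
  · exact ⟨c₀ * x, (inv_mul_eq_one.1 h).symm⟩
  · refine ⟨c₀ * x * z, ?_⟩
    rw [inv_mul_eq_iff_eq_mul] at h
    rw [h, ← map_mul]

end Cfsg.Agent.KFacts.OutQ
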