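import Mathlib
import Cfsg.Agent.KFacts.RgdEx
import Cfsg.Agent.LieRecognition.BNCox
import Cfsg.Agent.Nodes.TypeD
import Mathlib.GroupTheory.PGroup
import Mathlib.GroupTheory.Perm.Fin
import Cfsg.Agent.KFacts.SLRow.Def
import Cfsg.Agent.Nodes.RGDChev
import Cfsg.Agent.S1054
import Cfsg.Agent.KFacts.RgdOver
import Cfsg.Agent.StdRank2.OutField
import Cfsg.Agent.KFacts.ChevTwoSysInst
import Cfsg.Agent.Nodes.KindF
import Cfsg.Agent.S1077
import Cfsg.Agent.Nodes.Unique
import Cfsg.Agent.Lib.ListFast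
import Cfsg.Agent.KFacts.RgdChevCoord
import Cfsg.Agent.FastGrp
import Cfsg.Agent.Prune
set_option linter.all false

section
prune_inst 0x7ffffffabffceddfffff7e7dfedfdffc39f9bfffe6fff9437fe9e3ff0bdf0b89abe5fb8f8de050fe9ff6e2bc10b87b03fbffffffeb6bfc7ffffd5ff45ffbee5fe5f7bd8971d69c3e0ffc4fffebf06f8e7f3fffffffffffffffffffffffffffffffffffffffff

-- part: KFacts/RgdOwn
section
prune_inst 0x112200000018201002000040040000900040000021c0054201464440a04600014820040090100c5028050040000000000038000000000800000001208022400292080100220001003107180c00000000000000000000000000000000000000000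
set_option linter.all false
open scoped Cfsg.Agent.FastGrp

/-!
The action of `T_x = T ⊓ ⟨X x, X (-x)⟩` on `X x` itself (ODD, D10), characteristic 2, inside an `A₂`-plane.

* `A2.comm_mul_left`, `mu_comm` : `μ(u) ⁅u, v⁆ μ(u)⁻¹ = v⁻¹`;
* `A2.own` : for `u, u' ∈ X x \ 1` an element `t ∈ T_x` with `⁅u, t v t⁻¹⁆ = ⁅u', v⁆`, `t ⁅u', v⁆ t⁻¹ = ⁅u, v⁆`;
* `A2.own_trans` : if `T` is abelian and `p = 2`, `T_x` is transitive on `X x \ 1`.
-/

set_option autoImplicit false
set_option linter.unusedSectionVars false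

namespace Cfsg.Agent.KFacts.RgdSL

open CoxeterSystem Cfsg.Agent.ChevalleyStructure.CoxeterGeom Cfsg.Agent.Tits.Roots Cfsg.Agent.Tits.Core
  Cfsg.Agent.Tits.RootComb Cfsg.Agent.Tits.Exchange Cfsg.Agent.Nodes.Reps Cfsg.Agent.Nodes.BNOf
  Cfsg.Agent.Nodes.StabComb Cfsg.Agent.Nodes.Bruhat Cfsg.Agent.Nodes.OppDec Cfsg.Agent.Nodes.LeviDec
  Cfsg.Agent.Nodes.NormX Cfsg.Agent.Nodes.Coroot Cfsg.Agent.Nodes.PosPair
open scoped commutatorElement

variable {I W Y : Type*} [Fintype I] [DecidableEq I] [Group W] [Group Y] {M : CoxeterMatrix I}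
  {cs : CoxeterSystem M W} {A : I → I → ℤ} {h : IsCartan M A} {p : ℕ} {T : Subgroup Y} {n : I → Y}
  {X : (I → ℤ) → Subgroup Y}

namespace A2

variable (R : RGD cs h p T n X)

include R

variable [Finite W] {x y : I → ℤ} (hA : A2 cs h x y)

include hA

/-- `μ(u) ⁅u, v⁆ μ(u)⁻¹ = v⁻¹`. -/
theorem mu_comm {u v : Y} (hu : u ∈ X x) (hu1 : u ≠ 1) (hv : v ∈ X y) {a b m : Y} (ha : a ∈ X (-x))
    (hb : b ∈ X (-x)) {s : W} (hs : ∀ y, rep cs h s y = y - cpr cs h y x • x) (hm : Rp cs R.nsys s m)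
    (he : m = a * u * b) : m * ⁅u, v⁆ * m⁻¹ = v⁻¹ := by
  have hnx : -x ≠ y := fun h0 => hA.ne_neg (by rw [← h0, neg_neg])
  have hnx' : -x ≠ -y := fun h0 => hA.ne (neg_injective h0)
  set w := ⁅u, v⁆ with hw
  have hwX : w ∈ X (x + y) := comm_mem R hA hu hv
  have hsy : rep cs h s (x + y) = y := by
    rw [hs, cpr_add cs h _ _ hA.rx, cpr_self cs h hA.rx, hA.cyx]
    module
  have hz : m * w * m⁻¹ ∈ X y := by
    have := R.conj_mem hm hA.rxy hwX
    rwa [hsy] at this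
  set z := m * w * m⁻¹ with hzdef
  have e1 : a * z = z * a := comm_of_not_btwn R hA.rx.neg hA.ry hnx hnx' hA.b2 ha hz
  have e2 : b * w * b⁻¹ = u⁻¹ * z * u := by
    have h1 : a⁻¹ * z * a = z := by
      calc a⁻¹ * z * a = a⁻¹ * (z * a) := by group
        _ = a⁻¹ * (a * z) := by rw [e1]
        _ = z := by group
    have h2 : a⁻¹ * z * a = u * (b * w * b⁻¹) * u⁻¹ := by
      rw [hzdef, he]; group
    rw [h1] at h2
    rw [h2]; group
  have hd : ⁅b, w⁆ ∈ X y := by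
    refine btw_le_of hA.b3 (R.comm (-x) (x + y) hA.rx.neg hA.rxy ?_ ?_ b hb _ hwX)
    · intro h0
      have h4 : y = (-2 : ℤ) • x := by
        have : y = (x + y) - x := by abel
        rw [this, ← h0]; module
      have := isUnit_of_smul cs h hA.ry (-2) h4
      rw [Int.isUnit_iff] at this
      omega
    · intro h0
      rw [neg_inj] at h0
      exact hA.ry.ne_zero (by simpa using h0.symm)
  have hex : ⁅z⁻¹, u⁻¹⁆ ∈ X (x + y) := by
    have := comm_mem R hA.symm (inv_mem hz) (inv_mem hu)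
    rwa [add_comm] at this
  have e3 : z⁻¹ * ⁅b, w⁆ = ⁅z⁻¹, u⁻¹⁆ * w⁻¹ := by
    have h1 : ⁅b, w⁆ = b * w * b⁻¹ * w⁻¹ := by rw [commutatorElement_def]
    rw [h1, e2, commutatorElement_def]; group
  have e4 : ⁅z⁻¹, u⁻¹⁆ = w := by
    have h1 : ⁅z⁻¹, u⁻¹⁆ * w⁻¹ ∈ X y ⊓ X (x + y) := by
      refine Subgroup.mem_inf.2 ⟨?_, mul_mem hex (inv_mem hwX)⟩
      rw [← e3]
      exact mul_mem (inv_mem hz) hd
    have h9 := X_inf_X R hA.ry hA.rxy (by
      intro h0
      exact hA.rx.ne_zero (by simpa using h0.symm))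
    rw [h9, Subgroup.mem_bot] at h1
    exact mul_inv_eq_one.1 h1
  have e5 : ⁅u, z⁻¹⁆ = ⁅u, v⁆ := by
    have h1 := comm_left R hA hex hu
    calc ⁅u, z⁻¹⁆ = u * ⁅z⁻¹, u⁻¹⁆ * u⁻¹ := by
          rw [commutatorElement_def, commutatorElement_def]; group
      _ = ⁅z⁻¹, u⁻¹⁆ := by rw [← h1]; group
      _ = _ := e4
  have e6 := comm_inj R hA hu hu1 (inv_mem hz) hv e5
  rw [← e6, inv_inv]

/-- The elements of `T ⊓ ⟨X x, X (-x)⟩`. -/
theorem own {u u' : Y} (hu : u ∈ X x) (hu1 : u ≠ 1) (hu' : u' ∈ X x) (hu1' : u' ≠ 1) :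
    ∃ t ∈ T ⊓ (X x ⊔ X (-x)), (∀ v ∈ X y, ⁅u, t * v * t⁻¹⁆ = ⁅u', v⁆) ∧
      ∀ v ∈ X y, t * ⁅u', v⁆ * t⁻¹ = ⁅u, v⁆ := by
  obtain ⟨s, hs, a, ha, b, hb, m, hm, he⟩ := exists_mu R hA.rx hu hu1
  obtain ⟨s', hs', a', ha', b', hb', m', hm', he'⟩ := exists_mu R hA.rx hu' hu1'
  have hss : s = s' := by
    have : s'⁻¹ * s = 1 := by
      refine eq_one_of_fix cs h _ fun i => ?_
      have h3 : rep cs h s (sr i) = rep cs h s' (sr i) := by rw [hs, hs']
      show rep cs h (s'⁻¹ * s) (sr i) = sr i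
      rw [rep_mul_apply, h3, rep_inv_apply]
    exact (inv_mul_eq_one.1 this).symm
  subst hss
  have hmX : ∀ {a u b m : Y}, a ∈ X (-x) → u ∈ X x → b ∈ X (-x) → m = a * u * b → m ∈ X x ⊔ X (-x) := by
    rintro a u b m ha hu hb rfl
    exact mul_mem (mul_mem (Subgroup.mem_sup_right ha) (Subgroup.mem_sup_left hu)) (Subgroup.mem_sup_right hb)
  have htT : m⁻¹ * m' ∈ T := hm.unique hm'
  refine ⟨m⁻¹ * m', Subgroup.mem_inf.2 ⟨htT, mul_mem (inv_mem (hmX ha hu hb he)) (hmX ha' hu' hb' he')⟩,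
    fun v hv => ?_, fun v hv => ?_⟩
  · have h1 : m⁻¹ * m' * v * (m⁻¹ * m')⁻¹ ∈ X y := by
      have h2 : cj (m⁻¹ * m') (X y) = X y := R.tor y hA.ry _ htT
      rw [← h2]
      exact conj_mem_cj.2 hv
    rw [comm_eq R hA hu h1 ha hb hs hm he, comm_eq R hA hu' hv ha' hb' hs' hm' he']
    group
  · have h1 := mu_comm R hA hu hu1 hv ha hb hs hm he
    have h2 := mu_comm R hA hu' hu1' hv ha' hb' hs' hm' he'
    calc m⁻¹ * m' * ⁅u', v⁆ * (m⁻¹ * m')⁻¹ = m⁻¹ * (m' * ⁅u', v⁆ * m'⁻¹) * m := by group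
      _ = m⁻¹ * (m * ⁅u, v⁆ * m⁻¹) * m := by rw [h1, h2]
      _ = _ := by group

end A2

end Cfsg.Agent.KFacts.RgdSL
end

-- part: KFacts/SLRow/Diag
section
prune_inst 0x5400112200000018201202003c2064000190006b880161c00f420f066141a0430721d8d0160011d422e07007c00000000049402000000a0082004000012084234062923c1d0033000140f907180c00000000000000000000000000000000000000000
set_option linter.all false
open scoped Cfsg.Agent.FastGrp

/-!
# 2-groups of diagram symmetries (K-facts for S1765, D7)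

`DTwo M` : a 2-group of symmetries of the diagram `M` has order at most two [= `D7Out.Outer.DiagTwo`];
`dTwo_A`, `dTwo_D` (`n ≥ 2`), `dTwo_E6`, `dTwo_E7`, `dTwo_E8`.
-/

set_option autoImplicit false
set_option linter.unusedSectionVars false

namespace Cfsg.Agent.KFacts.SLRow.Diag

/-- 2-groups of diagram symmetries have order at most two -/
def DTwo {I : Type*} (M : CoxeterMatrix I) : Prop :=
  ∀ P : Subgroup (Equiv.Perm I), IsPGroup 2 P → (∀ σ ∈ P, ∀ i j, M (σ i) (σ j) = M i j) →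
    ∀ σ ∈ P, ∀ τ ∈ P, σ ≠ 1 → τ ≠ 1 → σ = τ

theorem dTwo_of_unique {I : Type*} {M : CoxeterMatrix I}
    (h : ∀ σ τ : Equiv.Perm I, (∀ i j, M (σ i) (σ j) = M i j) → (∀ i j, M (τ i) (τ j) = M i j) → σ ≠ 1 → τ ≠ 1 →
      σ = τ) : DTwo M :=
  fun _ _ hP σ hσ τ hτ h1 h2 => h σ τ (hP σ hσ) (hP τ hτ) h1 h2

/-- Every symmetry is trivial or given by `f`. -/
theorem dTwo_of_cases {I : Type*} {M : CoxeterMatrix I} (f : I → I)
    (h : ∀ σ : Equiv.Perm I, (∀ i j, M (σ i) (σ j) = M i j) → (∀ i, σ i = i) ∨ ∀ i, σ i = f i) : DTwo M := by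
  refine dTwo_of_unique fun σ τ hσ hτ h1 h2 => ?_
  rcases h σ hσ with h3 | h3
  · exact absurd (Equiv.ext h3) h1
  rcases h τ hτ with h4 | h4
  · exact absurd (Equiv.ext h4) h2
  exact Equiv.ext fun i => (h3 i).trans (h4 i).symm

/-! ### Exceptional types -/

/-- entries -/
def m6 (i j : Fin 6) : ℕ := CoxeterMatrix.E₆ i j
/-- entries -/
def m7 (i j : Fin 7) : ℕ := CoxeterMatrix.E₇ i j
/-- entries -/
def m8 (i j : Fin 8) : ℕ := CoxeterMatrix.E₈ i j

set_option synthInstance.maxHeartbeats 400000 in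
set_option synthInstance.maxSize 10000 in
set_option maxRecDepth 100000 in
theorem e8 : ∀ x3 x1 : Fin 8, m8 x1 x3 = 3 → ∀ x2, m8 x2 x3 = 3 → x2 ≠ x1 →
    ∀ x4, m8 x4 x3 = 3 → x4 ≠ x1 → x4 ≠ x2 → ∀ x0, m8 x0 x2 = 3 → x0 ≠ x3 → ∀ x5, m8 x5 x4 = 3 → x5 ≠ x3 →
    ∀ x6, m8 x6 x5 = 3 → x6 ≠ x4 → ∀ x7, m8 x7 x6 = 3 → x7 ≠ x5 →
    x0 = 0 ∧ x1 = 1 ∧ x2 = 2 ∧ x3 = 3 ∧ x4 = 4 ∧ x5 = 5 ∧ x6 = 6 ∧ x7 = 7 := by decide +kernel

set_option synthInstance.maxHeartbeats 400000 in
set_option synthInstance.maxSize 10000 in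
set_option maxRecDepth 100000 in
theorem e7 : ∀ x3 x1 : Fin 7, m7 x1 x3 = 3 → ∀ x2, m7 x2 x3 = 3 → x2 ≠ x1 →
    ∀ x4, m7 x4 x3 = 3 → x4 ≠ x1 → x4 ≠ x2 → ∀ x0, m7 x0 x2 = 3 → x0 ≠ x3 → ∀ x5, m7 x5 x4 = 3 → x5 ≠ x3 →
    ∀ x6, m7 x6 x5 = 3 → x6 ≠ x4 →
    x0 = 0 ∧ x1 = 1 ∧ x2 = 2 ∧ x3 = 3 ∧ x4 = 4 ∧ x5 = 5 ∧ x6 = 6 := by decide +kernel

set_option synthInstance.maxHeartbeats 400000 in
set_option synthInstance.maxSize 10000 in
set_option maxRecDepth 100000 in
theorem e6 : ∀ x3 x1 : Fin 6, m6 x1 x3 = 3 → ∀ x2, m6 x2 x3 = 3 → x2 ≠ x1 →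
    ∀ x4, m6 x4 x3 = 3 → x4 ≠ x1 → x4 ≠ x2 → ∀ x0, m6 x0 x2 = 3 → x0 ≠ x3 → ∀ x5, m6 x5 x4 = 3 → x5 ≠ x3 →
    (x0 = 0 ∧ x1 = 1 ∧ x2 = 2 ∧ x3 = 3 ∧ x4 = 4 ∧ x5 = 5) ∨
    (x0 = 5 ∧ x1 = 1 ∧ x2 = 4 ∧ x3 = 3 ∧ x4 = 2 ∧ x5 = 0) := by decide +kernel

theorem dTwo_E6 : DTwo CoxeterMatrix.E₆ := by
  refine dTwo_of_cases ![5, 1, 4, 3, 2, 0] fun σ hσ => ?_
  have hm : ∀ i j, m6 i j = 3 → m6 (σ i) (σ j) = 3 := fun i j h => (hσ i j).trans h
  have hi : ∀ i j, i ≠ j → σ i ≠ σ j := fun i j h => σ.injective.ne h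
  rcases e6 (σ 3) (σ 1) (hm 1 3 rfl) (σ 2) (hm 2 3 rfl) (hi _ _ (by decide)) (σ 4) (hm 4 3 rfl) (hi _ _ (by decide))
    (hi _ _ (by decide)) (σ 0) (hm 0 2 rfl) (hi _ _ (by decide)) (σ 5) (hm 5 4 rfl) (hi _ _ (by decide)) with h | h
  · left
    intro i
    fin_cases i
    · exact h.1
    · exact h.2.1
    · exact h.2.2.1
    · exact h.2.2.2.1
    · exact h.2.2.2.2.1
    · exact h.2.2.2.2.2
  · right
    intro i
    fin_cases i
    · exact h.1
    · exact h.2.1
    · exact h.2.2.1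
    · exact h.2.2.2.1
    · exact h.2.2.2.2.1
    · exact h.2.2.2.2.2

theorem dTwo_E7 : DTwo CoxeterMatrix.E₇ := by
  refine dTwo_of_cases id fun σ hσ => ?_
  have hm : ∀ i j, m7 i j = 3 → m7 (σ i) (σ j) = 3 := fun i j h => (hσ i j).trans h
  have hi : ∀ i j, i ≠ j → σ i ≠ σ j := fun i j h => σ.injective.ne h
  have h := e7 (σ 3) (σ 1) (hm 1 3 rfl) (σ 2) (hm 2 3 rfl) (hi _ _ (by decide)) (σ 4) (hm 4 3 rfl) (hi _ _ (by decide))
    (hi _ _ (by decide)) (σ 0) (hm 0 2 rfl) (hi _ _ (by decide)) (σ 5) (hm 5 4 rfl) (hi _ _ (by decide))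
    (σ 6) (hm 6 5 rfl) (hi _ _ (by decide))
  left
  intro i
  fin_cases i
  · exact h.1
  · exact h.2.1
  · exact h.2.2.1
  · exact h.2.2.2.1
  · exact h.2.2.2.2.1
  · exact h.2.2.2.2.2.1
  · exact h.2.2.2.2.2.2

theorem dTwo_E8 : DTwo CoxeterMatrix.E₈ := by
  refine dTwo_of_cases id fun σ hσ => ?_
  have hm : ∀ i j, m8 i j = 3 → m8 (σ i) (σ j) = 3 := fun i j h => (hσ i j).trans h
  have hi : ∀ i j, i ≠ j → σ i ≠ σ j := fun i j h => σ.injective.ne h
  have h := e8 (σ 3) (σ 1) (hm 1 3 rfl) (σ 2) (hm 2 3 rfl) (hi _ _ (by decide)) (σ 4) (hm 4 3 rfl) (hi _ _ (by decide))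
    (hi _ _ (by decide)) (σ 0) (hm 0 2 rfl) (hi _ _ (by decide)) (σ 5) (hm 5 4 rfl) (hi _ _ (by decide))
    (σ 6) (hm 6 5 rfl) (hi _ _ (by decide)) (σ 7) (hm 7 6 rfl) (hi _ _ (by decide))
  left
  intro i
  fin_cases i
  · exact h.1
  · exact h.2.1
  · exact h.2.2.1
  · exact h.2.2.2.1
  · exact h.2.2.2.2.1
  · exact h.2.2.2.2.2.1
  · exact h.2.2.2.2.2.2.1
  · exact h.2.2.2.2.2.2.2

/-! ### Type `A` -/

open Cfsg.Agent.LieRecognition.BNCox (cA cA_apply)
open Cfsg.Agent.LieRecognition.CoxClass (mA)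

/-- A symmetry of the path does not increase distances. -/
theorem lip {n : ℕ} {σ : Equiv.Perm (Fin n)} (hσ : ∀ i j, cA n (σ i) (σ j) = cA n i j) (d : ℕ) :
    ∀ i j : Fin n, (i : ℕ) + d = j → ((σ i : ℕ) : ℤ) ≤ (σ j : ℕ) + d ∧ ((σ j : ℕ) : ℤ) ≤ (σ i : ℕ) + d := by
  induction d with
  | zero =>
    intro i j hij
    have : i = j := Fin.ext (by omega)
    subst this
    simp
  | succ d ih =>
    intro i j hij
    have hj := j.2
    obtain ⟨h1, h2⟩ := ih i ⟨i + d, by omega⟩ rfl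
    have h3 := hσ ⟨i + d, by omega⟩ j
    rw [cA_apply, cA_apply] at h3
    have h4 : mA ((⟨(i : ℕ) + d, by omega⟩ : Fin n) : ℕ) (j : ℕ) = 3 := by
      unfold mA
      rw [if_neg (by show ¬ (i : ℕ) + d = j; omega), if_pos (Or.inl (by show (i : ℕ) + d + 1 = j; omega))]
    rw [h4] at h3
    unfold mA at h3
    split_ifs at h3 with h5 h6
    all_goals (push_cast; constructor <;> omega)

theorem dTwo_A (n : ℕ) : DTwo (cA n) := by
  refine dTwo_of_cases Fin.rev fun σ hσ => ?_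
  rcases Nat.eq_zero_or_pos n with rfl | hn
  · left; intro i; exact absurd i.2 (by omega)
  have ha : ∀ i, σ (σ⁻¹ i) = i := fun i => σ.apply_symm_apply i
  have hb : ∀ i, σ⁻¹ (σ i) = i := fun i => σ.symm_apply_apply i
  have hσ' : ∀ i j, cA n (σ⁻¹ i) (σ⁻¹ j) = cA n i j := by
    intro i j
    have := hσ (σ⁻¹ i) (σ⁻¹ j)
    rw [ha, ha] at this
    exact this.symm
  -- distances
  have hiso : ∀ i j : Fin n, ((i : ℕ) : ℤ) - (j : ℕ) = ((σ i : ℕ) : ℤ) - (σ j : ℕ) ∨
      ((i : ℕ) : ℤ) - (j : ℕ) = ((σ j : ℕ) : ℤ) - (σ i : ℕ) := by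
    have key : ∀ i j : Fin n, (i : ℕ) ≤ j → ((i : ℕ) : ℤ) - (j : ℕ) = ((σ i : ℕ) : ℤ) - (σ j : ℕ) ∨
        ((i : ℕ) : ℤ) - (j : ℕ) = ((σ j : ℕ) : ℤ) - (σ i : ℕ) := by
      intro i j hij
      have h1 := lip hσ ((j : ℕ) - i) i j (by omega)
      rcases le_total ((σ i : ℕ)) (σ j : ℕ) with h2 | h2
      · have h3 := lip hσ' ((σ j : ℕ) - σ i) (σ i) (σ j) (by omega)
        rw [hb, hb] at h3
        omega
      · have h3 := lip hσ' ((σ i : ℕ) - σ j) (σ j) (σ i) (by omega)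
        rw [hb, hb] at h3
        omega
    intro i j
    rcases le_total (i : ℕ) (j : ℕ) with h | h
    · exact key i j h
    · have := key j i h
      omega
  have h0 := hiso ⟨0, hn⟩ ⟨n - 1, by omega⟩
  have b1 := (σ ⟨0, hn⟩).2
  have b2 := (σ ⟨n - 1, by omega⟩).2
  have e1 : (((⟨0, hn⟩ : Fin n) : ℕ) : ℤ) = 0 := rfl
  have e2 : (((⟨n - 1, by omega⟩ : Fin n) : ℕ) : ℤ) = n - 1 := by
    show ((n - 1 : ℕ) : ℤ) = n - 1
    omega
  rw [e1, e2] at h0
  have h1 : (σ ⟨0, hn⟩ : ℕ) = 0 ∨ (σ ⟨0, hn⟩ : ℕ) = n - 1 := by omega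
  rcases h1 with h1 | h1
  · left
    intro i
    have h2 := hiso i ⟨0, hn⟩
    rw [e1, h1] at h2
    exact Fin.ext (by omega)
  · right
    intro i
    have h2 := hiso i ⟨0, hn⟩
    have := (σ i).2
    have := i.2
    rw [e1, h1] at h2
    apply Fin.ext
    rw [Fin.val_rev]
    (clear * - h1 h2; omega)

/-! ### Type `D` -/

open Cfsg.Agent.Nodes.TypeD (M_apply)

/-- adjacency in `D_{n+2}` -/
def ad (n i j : ℕ) : Prop :=
  (j < n + 1 ∧ i + 1 = j) ∨ (j = n + 1 ∧ i + 2 = j) ∨ (i < n + 1 ∧ j + 1 = i) ∨ (i = n + 1 ∧ j + 2 = i)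

theorem M_eq_three {n : ℕ} (i j : Fin (n + 2)) : Cfsg.Agent.Nodes.TypeD.M n i j = 3 ↔ ad n i j := by
  rw [M_apply]
  unfold Cfsg.Agent.Nodes.TypeD.Adj ad
  by_cases h : i = j
  · subst h
    rw [if_pos rfl]
    constructor
    · intro h; omega
    · intro h; omega
  · rw [if_neg h]
    have h' : (i : ℕ) ≠ j := fun e => h (Fin.ext e)
    split_ifs with h1
    · simp only [true_iff]; (solve | lia | omega)
    · constructor
      · intro h2; omega
      · intro h2; omega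

theorem ad_low {n i j : ℕ} (hi : i + 2 ≤ n) (h : ad n i j) : j + 1 = i ∨ j = i + 1 := by
  unfold ad at h; omega

theorem ad_top {n i j : ℕ} (hi : n ≤ i) (h : ad n i j) : j + 1 = n := by
  unfold ad at h; omega

theorem ad_c {n i j : ℕ} (hi : i + 1 = n) (h : ad n i j) : j + 2 = n ∨ j = n ∨ j = n + 1 := by
  unfold ad at h; omega

/-- the vertex of degree three -/
theorem eq_c {n c a p q : ℕ} (hc : c < n + 2) (h1 : ad n c a) (h2 : ad n c p) (h3 : ad n c q) (k1 : a ≠ p)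
    (k2 : a ≠ q) (k3 : p ≠ q) : c + 1 = n := by
  by_contra hcon
  rcases Nat.lt_or_ge (c + 1) n with h | h
  · have e1 := ad_low (by omega) h1
    have e2 := ad_low (by omega) h2
    have e3 := ad_low (by omega) h3
    (clear * - k1 k2 k3 e1 e2 e3; omega)
  · have e1 := ad_top (by omega) h1
    have e2 := ad_top (by omega) h2
    omega

/-- `n ≥ 3` -/
theorem diag_D {n : ℕ} (hn : 3 ≤ n) {σ : Equiv.Perm (Fin (n + 2))}
    (hσ : ∀ i j, Cfsg.Agent.Nodes.TypeD.M n (σ i) (σ j) = Cfsg.Agent.Nodes.TypeD.M n i j) :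
    (∀ i, σ i = i) ∨ ∀ i, σ i = Equiv.swap (⟨n, by omega⟩ : Fin (n + 2)) ⟨n + 1, by omega⟩ i := by
  have had : ∀ i j : Fin (n + 2), ad n i j → ad n (σ i) (σ j) := fun i j h =>
    (M_eq_three _ _).1 ((hσ i j).trans ((M_eq_three i j).2 h))
  have hinj : ∀ i j : Fin (n + 2), (i : ℕ) ≠ j → (σ i : ℕ) ≠ σ j := fun i j h e =>
    h (congrArg Fin.val (σ.injective (Fin.ext e)))
  have hlt : ∀ i, (σ i : ℕ) < n + 2 := fun i => (σ i).2
  obtain ⟨c, hc⟩ : ∃ c : Fin (n + 2), (c : ℕ) = n - 1 := ⟨⟨n - 1, by omega⟩, rfl⟩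
  obtain ⟨a, ha⟩ : ∃ c : Fin (n + 2), (c : ℕ) = n - 2 := ⟨⟨n - 2, by omega⟩, rfl⟩
  obtain ⟨b, hb⟩ : ∃ c : Fin (n + 2), (c : ℕ) = n - 3 := ⟨⟨n - 3, by omega⟩, rfl⟩
  obtain ⟨p, hp⟩ : ∃ c : Fin (n + 2), (c : ℕ) = n := ⟨⟨n, by omega⟩, rfl⟩
  obtain ⟨q, hq⟩ : ∃ c : Fin (n + 2), (c : ℕ) = n + 1 := ⟨⟨n + 1, by omega⟩, rfl⟩
  have h1 := had c a (Or.inr (Or.inr (Or.inl ⟨by omega, by omega⟩)))
  have h2 := had c p (Or.inl ⟨by omega, by omega⟩)
  have h3 := had c q (Or.inr (Or.inl ⟨by omega, by omega⟩))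
  have h4 := had a b (Or.inr (Or.inr (Or.inl ⟨by omega, by omega⟩)))
  have k1 := hinj a p (by omega)
  have k2 := hinj a q (by omega)
  have k3 := hinj p q (by omega)
  have k4 := hinj b c (by (clear * - hn hc hb; omega))
  have l1 := hlt a
  have l2 := hlt p
  have l3 := hlt q
  have l4 := hlt c
  have e0 := eq_c l4 h1 h2 h3 k1 k2 k3
  have f1 := ad_c e0 h1
  have f2 := ad_c e0 h2
  have f3 := ad_c e0 h3
  have e1 : (σ c : ℕ) = n - 1 := by (solve | lia | omega)
  have e2 : (σ a : ℕ) = n - 2 := by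
    rcases f1 with f1 | f1 | f1
    · (solve | lia | omega)
    · have := ad_top (by omega) h4; (clear * - k4 e0 this; omega)
    · have := ad_top (by omega) h4; (clear * - k4 e0 this; omega)
  -- descending
  have key : ∀ d : ℕ, ∀ i : Fin (n + 2), (i : ℕ) + d = n - 1 → (σ i : ℕ) = i ∧
      ∀ j : Fin (n + 2), (j : ℕ) + 1 = i → (σ j : ℕ) = j := by
    intro d
    induction d with
    | zero =>
      intro i hi
      have : i = c := Fin.ext (by omega)
      subst this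
      refine ⟨by omega, fun j hj => ?_⟩
      have : j = a := Fin.ext (by (solve | lia | omega))
      subst this
      omega
    | succ d ih =>
      intro i hi
      have h5 := ih ⟨i + 1, by omega⟩ (by show (i : ℕ) + 1 + d = n - 1; omega)
      have h6 : (σ i : ℕ) = i := h5.2 i rfl
      refine ⟨h6, fun j hj => ?_⟩
      have h7 := had i j (Or.inr (Or.inr (Or.inl ⟨by omega, hj⟩)))
      have h8 := hinj ⟨i + 1, by omega⟩ j (by show (i : ℕ) + 1 ≠ j; omega)
      have h9 : (σ ⟨(i : ℕ) + 1, by omega⟩ : ℕ) = i + 1 := h5.1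
      rw [h9] at h8
      rw [h6] at h7
      have := ad_low (by omega) h7
      omega
  have key' : ∀ i : Fin (n + 2), (i : ℕ) ≤ n - 1 → (σ i : ℕ) = i := fun i hi =>
    (key (n - 1 - i) i (by omega)).1
  have e3 : ((σ p : ℕ) = n ∧ (σ q : ℕ) = n + 1) ∨ ((σ p : ℕ) = n + 1 ∧ (σ q : ℕ) = n) := by
    clear key key' h1 h2 h3 h4 f1 k4
    (clear * - hn k1 k2 k3 l3 f2 f3 e2; (solve | lia | omega))
  have hp' : p = ⟨n, by omega⟩ := Fin.ext hp
  have hq' : q = ⟨n + 1, by omega⟩ := Fin.ext hq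
  have hcases : ∀ i : Fin (n + 2), (i : ℕ) ≤ n - 1 ∨ i = p ∨ i = q := by
    intro i
    have := i.2
    by_cases h5 : (i : ℕ) ≤ n - 1
    · exact Or.inl h5
    · right
      by_cases h6 : (i : ℕ) = n
      · left; exact Fin.ext (by (clear * - hp h6; omega))
      · right; exact Fin.ext (by (clear * - hq h5 h6; omega))
  rcases e3 with e3 | e3
  · left
    intro i
    rcases hcases i with h5 | rfl | rfl
    · exact Fin.ext (key' i h5)
    · exact Fin.ext (by omega)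
    · exact Fin.ext (by (clear * - hq e3; omega))
  · right
    intro i
    rw [← hp', ← hq']
    rcases hcases i with h5 | rfl | rfl
    · rw [Equiv.swap_apply_of_ne_of_ne]
      · exact Fin.ext (key' i h5)
      · rintro rfl; omega
      · rintro rfl; omega
    · rw [Equiv.swap_apply_left]
      exact Fin.ext (by (clear * - hq e3; omega))
    · rw [Equiv.swap_apply_right]
      exact Fin.ext (by (clear * - hp e3; omega))

set_option synthInstance.maxHeartbeats 400000 in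
set_option synthInstance.maxSize 10000 in
set_option maxRecDepth 100000 in
theorem d4 : ∀ σ τ : Equiv.Perm (Fin 4), σ 1 = 1 → τ 1 = 1 → σ ≠ 1 → τ ≠ 1 →
    σ = τ ∨ σ ^ 3 = 1 ∨ τ ^ 3 = 1 ∨ ((σ * τ) ^ 3 = 1 ∧ σ * τ ≠ 1) := by decide +kernel

theorem dTwo_D {n : ℕ} (hn : 2 ≤ n) : DTwo (Cfsg.Agent.Nodes.TypeD.M n) := by
  by_cases h3 : 3 ≤ n
  · exact dTwo_of_cases _ fun σ hσ => diag_D h3 hσ
  obtain rfl : n = 2 := by omega
  intro P hP hM σ hσ τ hτ h1 h2
  have hone : ∀ σ ∈ P, σ 1 = 1 := by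
    intro σ hσ
    have had : ∀ i j : Fin 4, ad 2 i j → ad 2 (σ i) (σ j) := fun i j h =>
      (M_eq_three _ _).1 ((hM σ hσ i j).trans ((M_eq_three i j).2 h))
    have hinj : ∀ i j : Fin 4, (i : ℕ) ≠ j → (σ i : ℕ) ≠ σ j := fun i j h e =>
      h (congrArg Fin.val (σ.injective (Fin.ext e)))
    have a1 := had 1 0 (by unfold ad; decide)
    have a2 := had 1 2 (by unfold ad; decide)
    have a3 := had 1 3 (by unfold ad; decide)
    have k1 := hinj 0 2 (by decide)
    have k2 := hinj 0 3 (by decide)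
    have k3 := hinj 2 3 (by decide)
    have l1 := (σ 0).2
    have l2 := (σ 2).2
    have l3 := (σ 3).2
    have l4 := (σ 1).2
    unfold ad at a1 a2 a3
    apply Fin.ext
    show (σ 1 : ℕ) = 1
    (clear * - a2 a3 k3; omega)
  -- elements of order three are trivial
  have hthree : ∀ ρ ∈ P, ρ ^ 3 = 1 → ρ = 1 := by
    intro ρ hρ h4
    obtain ⟨k, hk⟩ := hP ⟨ρ, hρ⟩
    have hk' : ρ ^ 2 ^ k = 1 := congrArg Subtype.val hk
    have h5 : orderOf ρ ∣ Nat.gcd 3 (2 ^ k) := Nat.dvd_gcd (orderOf_dvd_of_pow_eq_one h4) (orderOf_dvd_of_pow_eq_one hk')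
    have h6 : Nat.gcd 3 (2 ^ k) = 1 := Nat.Coprime.pow_right k (by decide)
    rw [h6, Nat.dvd_one, orderOf_eq_one_iff] at h5
    exact h5
  rcases d4 σ τ (hone σ hσ) (hone τ hτ) h1 h2 with h | h | h | h
  · exact h
  · exact absurd (hthree σ hσ h) h1
  · exact absurd (hthree τ hτ h) h2
  · exact absurd (hthree _ (mul_mem hσ hτ) h.1) h.2

end Cfsg.Agent.KFacts.SLRow.Diag
end

-- part: KFacts/SLRow/Chev
section
set_option linter.all false
open scoped Cfsg.Agent.FastGrp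

/-!
# `D₄(q)`, `E₆(q)`, `E₇(q)`, `E₈(q)`, `q` even: simply laced data (K-facts for S1765, D7)

`isSL_D4`, `isSL_E6`, `isSL_E7`, `isSL_E8`.
-/

set_option autoImplicit false
set_option linter.unusedSectionVars false

namespace Cfsg.Agent.KFacts.SLRow.Chev

open CoxeterSystem Cfsg.Lie Cfsg.Agent.ChevalleyStructure Cfsg.Agent.ChevalleyStructure.Elts
  Cfsg.Agent.ChevalleyStructure.CoxeterGeom Cfsg.Agent.ChevalleyStructure.CoxeterGeomTypes
  Cfsg.Agent.Tits.Roots Cfsg.Agent.Tits.Core Cfsg.Agent.Nodes.Reps Cfsg.Agent.Nodes.BNOf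
  Cfsg.Agent.Nodes.RGDChev Cfsg.Agent.KFacts.SLRow.Def

universe u

variable {D : ChevalleyDatum} {l : ℕ} {M : CoxeterMatrix (Fin l)}

theorem card_XV (hp : IsType D l M) (K : Type u) [Field K] {W : Type*} [Group W] (cs : CoxeterSystem M W)
    {x : Fin l → ℤ} (hx : IsRoot cs hp.isCartan x) :
    Nat.card ↥((XV D l K x).subgroupOf (D.group K)) = Nat.card K := by
  obtain ⟨r, hr, rfl⟩ := (isRoot_iff hp cs x).1 hx
  have h1 : Nat.card ↥((XV D l K (vec D l r)).subgroupOf (D.group K)) = Nat.card ↥(XV D l K (vec D l r)) :=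
    Nat.card_congr (Subgroup.subgroupOfEquivOfLe (XV_le_group hp _)).toEquiv
  rw [h1, XV_vec hp K hr]
  refine (Nat.card_congr (Equiv.ofBijective
    (fun t : K => (⟨xG hp.inList r t, xG_mem_rootSubgroup hp.inList r t⟩ : ↥(D.rootSubgroup K r)))
    ⟨fun a b hab => ?_, fun g => ?_⟩)).symm
  · exact xG_injective hp.inList hr (congrArg Subtype.val hab)
  · obtain ⟨t, ht⟩ := (mem_rootSubgroup_iff hp.inList r g.1).1 g.2
    exact ⟨t, Subtype.ext ht.symm⟩

theorem isSL_group (hp : IsType D l M) (hD : D ∈ [chevD4, chevF4, chevE6, chevE7, chevE8])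
    (h4 : ∀ i j, M i j ≠ 4) (h6 : ∀ i j, M i j ≠ 6) (hc : Conn M) (h3 : 3 ≤ l) (K : Type u) [Field K] [Finite K]
    [CharP K 2] : IsSL (Nat.card K) l ↥(D.group K) := by
  have : Fact (Nat.Prime 2) := ⟨Nat.prime_two⟩
  have hW : Finite M.Group := finite_W hp M.toCoxeterSystem
  refine ⟨M, cartanOf D l, hp.isCartan, _, _, _, hW,
    rgd (K := K) hp M.toCoxeterSystem 2, le_top, G1_eq_top hp _, ?_, hc, ?_, h4, h6, fun x hx => card_XV hp K _ hx⟩
  · refine RgdCent.noCent_of_center (rgd (K := K) hp M.toCoxeterSystem 2) (G1_eq_top hp _) ?_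
    obtain ⟨hs, hna⟩ := Cfsg.Agent.S1054.result (F := K) D hD
    rcases (inferInstance : (Subgroup.center ↥(D.group K)).Normal).eq_bot_or_eq_top with h | h
    · exact h
    · exfalso
      apply hna
      refine ⟨⟨fun a b => ?_⟩⟩
      have : b ∈ Subgroup.center ↥(D.group K) := by rw [h]; exact Subgroup.mem_top b
      rw [Subgroup.mem_center_iff] at this
      exact this a
  · simpa using h3

theorem isSL_E6 (K : Type u) [Field K] [Finite K] [CharP K 2] : IsSL (Nat.card K) 6 ↥(chevE6.group K) :=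
  isSL_group (M := CoxeterMatrix.E₆) (by simp [IsType, typeList]) (by simp) (by intro i; fin_cases i <;> decide)
    (by intro i; fin_cases i <;> decide)
    (conn_of_parent ![0, 3, 1, 2, 3, 4] ![0, 3, 0, 2, 3, 4] (by decide) (by decide) (by decide)) (by norm_num) K

theorem isSL_E7 (K : Type u) [Field K] [Finite K] [CharP K 2] : IsSL (Nat.card K) 7 ↥(chevE7.group K) :=
  isSL_group (M := CoxeterMatrix.E₇) (by simp [IsType, typeList]) (by simp) (by intro i; fin_cases i <;> decide)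
    (by intro i; fin_cases i <;> decide)
    (conn_of_parent ![0, 3, 1, 2, 3, 4, 5] ![0, 3, 0, 2, 3, 4, 5] (by decide) (by decide) (by decide)) (by norm_num) K

theorem isSL_E8 (K : Type u) [Field K] [Finite K] [CharP K 2] : IsSL (Nat.card K) 8 ↥(chevE8.group K) :=
  isSL_group (M := CoxeterMatrix.E₈) (by simp [IsType, typeList]) (by simp) (by intro i; fin_cases i <;> decide)
    (by intro i; fin_cases i <;> decide)
    (conn_of_parent ![0, 3, 1, 2, 3, 4, 5, 6] ![0, 3, 0, 2, 3, 4, 5, 6] (by decide) (by decide) (by decide)) (by norm_num) K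

end Cfsg.Agent.KFacts.SLRow.Chev
end

-- part: KFacts/RgdGraph
section
prune_inst 0x1400002200000018001200003c4044000190006b880141800f420e04254020020721e8a01600000022c42000004000000000401000000a000000411800800001400202340900200000000004000000000000000000000000000000000000000000000
set_option linter.all false
open scoped Cfsg.Agent.FastGrp

/-!
# Graph automorphisms not preserving the Cartan matrix (types `B₂`, `F₄`, characteristic two)

* `exists_frob` : `Aut F` is generated by the Frobenius;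
* `cyc_key` : group theory;
* `frame_cyclic` : a `2`-group of frame automorphisms of `F₄(q)`, `B₂(q)` is cyclic;
* `exists_gen_graph` : the overgroup form: `S = f(U) C_S(K) ⟨g⟩`.
-/

set_option autoImplicit false
set_option linter.unusedSectionVars false

namespace Cfsg.Agent.KFacts.RgdGraph

open CoxeterSystem Cfsg.Agent.ChevalleyStructure.CoxeterGeom Cfsg.Agent.Tits.Roots Cfsg.Agent.Tits.Core
  Cfsg.Agent.Tits.Exchange Cfsg.Agent.Nodes.Reps Cfsg.Agent.Nodes.BNOf Cfsg.Agent.Nodes.StabComb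
  Cfsg.Agent.Nodes.Bruhat Cfsg.Agent.Nodes.OppDec Cfsg.Agent.Nodes.LeviDec Cfsg.Agent.Nodes.NormalForm
  Cfsg.Agent.Nodes.Coroot Cfsg.Agent.Nodes.PosPair
  Cfsg.Agent.KFacts.RgdOpp Cfsg.Agent.KFacts.RgdAut Cfsg.Agent.KFacts.RgdDiag Cfsg.Agent.KFacts.RgdRigid
  Cfsg.Agent.KFacts.RgdField Cfsg.Agent.KFacts.RgdTau Cfsg.Agent.KFacts.RgdOver

/-! ### The Frobenius -/

theorem exists_frob {F : Type*} [Field F] [Finite F] [CharP F 2] :
    ∃ fr : F ≃+* F, (∀ x, fr x = x ^ 2) ∧ ∀ σ : F ≃+* F, ∃ m : ℕ, σ = fr ^ m := by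
  have : Fact (Nat.Prime 2) := ⟨Nat.prime_two⟩
  let _ : Algebra (ZMod 2) F := ZMod.algebra F 2
  have : Fintype (ZMod 2) := ZMod.fintype 2
  let fr : F ≃+* F := (FiniteField.frobeniusAlgEquivOfAlgebraic (ZMod 2) F).toRingEquiv
  have hfr : ∀ x, fr x = x ^ 2 := by
    intro x
    show FiniteField.frobeniusAlgEquivOfAlgebraic (ZMod 2) F x = x ^ 2
    rw [FiniteField.frobeniusAlgEquivOfAlgebraic_apply, ZMod.card]
  have hpow : ∀ (m : ℕ) x, ((FiniteField.frobeniusAlgEquivOfAlgebraic (ZMod 2) F) ^ m) x = (fr ^ m) x := by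
    intro m
    induction m with
    | zero => intro x; rfl
    | succ m ih =>
      intro x
      rw [pow_succ, pow_succ, AlgEquiv.mul_apply, RingAut.mul_apply, ih]
      rfl
  refine ⟨fr, hfr, fun σ => ?_⟩
  obtain ⟨m, hm⟩ := (FiniteField.bijective_frobeniusAlgEquivOfAlgebraic_pow (ZMod 2) F).2
    (StdRank2.OutField.toGal 2 σ)
  refine ⟨m.1, ?_⟩
  ext x
  rw [← hpow]
  exact (congrArg (fun f : F ≃ₐ[ZMod 2] F => f x) hm).symm

/-! ### Group theory -/

theorem cyc_key {E B : Type*} [Group E] [CommGroup B] (hE : IsPGroup 2 E) {E0 : Subgroup E}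
    {φ : ↥E0 →* B} (hφ : Function.Injective φ) {fr : B} (hfr : ∀ a, ∃ m : ℕ, a = fr ^ m) {g : E} (hg : g * g ∈ E0)
    (hEg : ∀ x : E, x ∈ E0 ∨ x * g⁻¹ ∈ E0) {b : B} (hb : φ ⟨g * g, hg⟩ = fr * (b * b)) :
    ∀ x : E, ∃ m : ℤ, x = g ^ m := by
  have hcB : IsCyclic B := ⟨fr, fun a => by
    obtain ⟨m, hm⟩ := hfr a
    exact ⟨(m : ℤ), by rw [hm, ← zpow_natCast]⟩⟩
  have hc0 : IsCyclic ↥E0 := isCyclic_of_injective φ hφ
  obtain ⟨e, he⟩ := hc0.exists_generator
  obtain ⟨m, hm⟩ := he ⟨g * g, hg⟩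
  have hm' : e ^ m = ⟨g * g, hg⟩ := hm
  obtain ⟨k, hk⟩ := hE (e : E)
  have hk' : e ^ 2 ^ k = 1 := Subtype.ext hk
  have key : ∃ l : ℤ, e = (⟨g * g, hg⟩ : ↥E0) ^ l := by
    rcases Int.even_or_odd m with ⟨l, hl⟩ | ⟨l, hl⟩
    · -- `m` even
      have h1 : fr = (φ e ^ l * b⁻¹) * (φ e ^ l * b⁻¹) := by
        have h2 : φ e ^ (l + l) = fr * (b * b) := by
          rw [← hb, ← hl, ← map_zpow, hm']
        have h3 : fr = φ e ^ (l + l) * (b * b)⁻¹ := by rw [h2, mul_inv_cancel_right]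
        rw [h3, zpow_add, mul_inv, mul_mul_mul_comm]
      set θ := φ e ^ l * b⁻¹ with hθ
      obtain ⟨j, hj⟩ := hfr θ
      have h2 : θ ^ (2 * j) = θ := by
        conv_rhs => rw [hj, h1]
        rw [← pow_two, pow_mul]
      have h3 : ∀ a : B, a ^ (2 * j) = a := by
        intro a
        obtain ⟨i, rfl⟩ := hfr a
        have h4 : fr ^ i = θ ^ (2 * i) := by rw [h1, ← pow_two, pow_mul]
        rw [h4, ← pow_mul, mul_comm (2 * i), pow_mul, h2]
      have h4 : e ^ (2 * j) = e := hφ (by rw [map_pow]; exact h3 _)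
      have h5 : e = 1 := by
        rcases Nat.eq_zero_or_pos j with h0 | h0
        · rw [h0, mul_zero, pow_zero] at h4
          exact h4.symm
        · have h6 : e ^ (2 * j - 1) = 1 := by
            have h7 : e ^ (2 * j - 1) * e = e := by
              rw [← pow_succ, Nat.sub_add_cancel (by omega), h4]
            exact mul_eq_right.1 h7
          have h7 : orderOf e ∣ 1 := by
            have h8 : Nat.gcd (2 * j - 1) (2 ^ k) = 1 := by
              apply Nat.Coprime.pow_right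
              rw [Nat.coprime_two_right]
              exact ⟨j - 1, by omega⟩
            rw [← h8]
            exact Nat.dvd_gcd (orderOf_dvd_of_pow_eq_one h6) (orderOf_dvd_of_pow_eq_one hk')
          exact orderOf_eq_one_iff.1 (Nat.dvd_one.1 h7)
      exact ⟨0, by rw [zpow_zero]; exact h5⟩
    · -- `m` odd
      have h1 : IsCoprime m ((2 : ℤ) ^ k) := by
        apply IsCoprime.pow_right
        exact ⟨1, -l, by rw [hl]; ring⟩
      obtain ⟨x, y, hxy⟩ := h1
      refine ⟨x, ?_⟩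
      rw [← hm', ← zpow_mul]
      have h2 : m * x = 1 - y * 2 ^ k := by rw [← hxy]; ring
      have h3 : e ^ (y * 2 ^ k) = 1 := by
        rw [mul_comm, zpow_mul]
        have : e ^ ((2 : ℤ) ^ k) = 1 := by
          have h4 : ((2 : ℤ) ^ k) = ((2 ^ k : ℕ) : ℤ) := by push_cast; rfl
          rw [h4, zpow_natCast, hk']
        rw [this, one_zpow]
      rw [h2, zpow_sub, zpow_one, h3, inv_one, mul_one]
  obtain ⟨l, hl⟩ := key
  have h0 : ∀ x ∈ E0, ∃ m : ℤ, x = g ^ m := by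
    intro x hx
    obtain ⟨i, hi⟩ := he ⟨x, hx⟩
    have h1 : (⟨x, hx⟩ : ↥E0) = (⟨g * g, hg⟩ : ↥E0) ^ (l * i) := by
      rw [zpow_mul, ← hl]
      exact hi.symm
    refine ⟨2 * (l * i), ?_⟩
    have h2 := congrArg (fun y : ↥E0 => (y : E)) h1
    simp only [SubgroupClass.coe_zpow] at h2
    rw [h2, zpow_mul g 2, zpow_two, zpow_mul]
  intro x
  rcases hEg x with hx | hx
  · exact h0 x hx
  · obtain ⟨m, hm⟩ := h0 _ hx
    exact ⟨m + 1, by rw [zpow_add, zpow_one, ← hm, inv_mul_cancel_right]⟩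

/-! ### The frame group -/

variable {I W Y F : Type*} [Fintype I] [DecidableEq I] [Group W] [Group Y] [Field F] {M : CoxeterMatrix I}
variable {cs : CoxeterSystem M W} {A : I → I → ℤ} {h : IsCartan M A} {T : Subgroup Y} {n : I → Y}
  {X : (I → ℤ) → Subgroup Y} {x : (I → ℤ) → F → Y} {χ : (I → ℤ) → Y → F} {hh : I → F → Y}

/-- The field automorphisms at a double bond whose nodes are interchanged. -/
theorem semi_double [CharP F 2] (H : Coroots A T X χ hh) (hA2 : ∀ i, A i i = 2) {β : MulAut Y}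
    {σ : Equiv.Perm I} (D : Diag T X β σ) {hσ : ∀ i j, M (σ i) (σ j) = M i j} {τ : I → F ≃+* F}
    (S : Semi cs h T X x χ β σ hσ τ) {a b : I} (h1 : A b a = -1) (h2 : A a b = -2) (ha : σ a = b) (hb : σ b = a)
    {fr : F ≃+* F} (hfr : ∀ c, fr c = c ^ 2) : τ a = fr * τ b := by
  apply eq_of_sq
  intro c hc
  have h3 := S.zpow_eq H hA2 D a b hc
  rw [ha, hb, h1, h2, show (2 : ℤ) * -1 = -((2 : ℕ) : ℤ) from rfl, show (2 : ℤ) * -2 = -((4 : ℕ) : ℤ) from rfl,
    zpow_neg, zpow_neg, inv_inj, zpow_natCast, zpow_natCast] at h3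
  rw [h3, RingAut.mul_apply, hfr]
  ring

/-- The square of a graph automorphism is the field automorphism `2 θ²`. -/
theorem graph_sq [Finite W] [Nonempty I] [CharP F 2] [Finite F] (R : RGD cs h 2 T n X)
    (C : Coords cs h T n X x χ) (H : Coroots A T X χ hh)
    (hconn : ∀ J : Set I, J.Nonempty → J ≠ Set.univ → ∃ a ∈ J, ∃ b, b ∉ J ∧ M a b ≠ 2)
    {a b : I} (h1 : A b a = -1) (h2 : A a b = -2) {β : MulAut Y} {σ : Equiv.Perm I} (D : Diag T X β σ)
    (hσ : σ a = b ∧ σ b = a) (hσ2 : σ * σ = 1) {fr : F ≃+* F} (hfr : ∀ c, fr c = c ^ 2) :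
    ∃ θ : F ≃+* F, Tau T X χ A (β * β) 1 (fr * (θ * θ)) := by
  obtain ⟨τ', S⟩ := exists_semi R C D (D.matrix R)
  have h3 := semi_double H h.diag D S h1 h2 hσ.1 hσ.2 hfr
  have D2 : Diag T X (β * β) 1 := by
    have := D.mul D
    rwa [hσ2] at this
  obtain ⟨τ, B⟩ := exists_tau R C H hconn D2 fun _ _ => rfl
  refine ⟨τ' b, ?_⟩
  have h4 : ∀ t ∈ T, τ (χ (sr a) t) = (τ' b * τ' a) (χ (sr a) t) := by
    intro t ht
    have h5 := B.char a t ht
    have h6 := S.char a t ht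
    have h7 := S.char b (β t) ((D.tor t).2 ht)
    rw [hσ.1] at h6
    rw [hσ.2, h6] at h7
    rw [RingAut.mul_apply, ← h7, ← h5]
    rfl
  have h5 : τ = fr * (τ' b * τ' b) := by
    rw [(C.coord _ (isRoot_sr cs h a)).ext h4, h3, StdRank2.OutField.comm (τ' b), mul_assoc]
  rwa [h5] at B

/-- **A `2`-group of frame automorphisms is cyclic** (types `B₂`, `F₄`). -/
theorem frame_cyclic [Finite W] [Nonempty I] [CharP F 2] [Finite F] (R : RGD cs h 2 T n X)
    (hG1 : RGD.Sup X {x | IsRoot cs h x} = ⊤) (C : Coords cs h T n X x χ) (H : Coroots A T X χ hh)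
    (hconn : ∀ J : Set I, J.Nonempty → J ≠ Set.univ → ∃ a ∈ J, ∃ b, b ∉ J ∧ M a b ≠ 2)
    {a b : I} (hab : a ≠ b) (h1 : A b a = -1) (h2 : A a b = -2)
    (hsw : ∀ σ : Equiv.Perm I, (∀ i j, M (σ i) (σ j) = M i j) → σ = 1 ∨ (σ a = b ∧ σ b = a))
    {E : Subgroup (MulAut Y)} (hE : IsPGroup 2 ↥E) (hEF : ∀ β ∈ E, β ∈ Frame cs h X) :
    ∃ g ∈ E, ∀ y ∈ E, ∃ m : ℤ, y = g ^ m := by
  have : Fact (Nat.Prime 2) := ⟨Nat.prime_two⟩
  have hG := GG_eq_top (T := T) hG1
  obtain ⟨fr, hfr, hgen⟩ := exists_frob (F := F)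
  have hcomm : ∀ τ τ' : F ≃+* F, τ * τ' = τ' * τ := fun τ τ' => StdRank2.OutField.comm τ τ'
  let _ : CommGroup (F ≃+* F) := { (inferInstance : Group (F ≃+* F)) with mul_comm := hcomm }
  -- the subgroup without diagram symmetry
  let E0 : Subgroup ↥E :=
    { carrier := {β | Diag T X β.1 1}
      mul_mem' := fun {α β} hα hβ => by
        have := Diag.mul hα hβ
        rwa [mul_one] at this
      one_mem' := Diag.one
      inv_mem' := fun {α} hα => by
        have := Diag.inv hα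
        rwa [inv_one] at this }
  have hE0 : ∀ β : ↥E, β ∈ E0 ↔ Diag T X β.1 1 := fun _ => Iff.rfl
  have hτ : ∀ β : ↥E0, ∃ τ : F ≃+* F, Tau T X χ A β.1.1 1 τ := fun β =>
    exists_tau R C H hconn ((hE0 _).1 β.2) fun _ _ => rfl
  choose τ hτ using hτ
  have huniq : ∀ (β : ↥E0) (τ' : F ≃+* F), Tau T X χ A β.1.1 1 τ' → τ β = τ' := fun β τ' h3 =>
    (Tau.unique R C (hτ β) h3).2
  let φ : ↥E0 →* (F ≃+* F) := MonoidHom.mk' τ fun α β => huniq _ _ (by
    have := (hτ α).mul (hτ β)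
    rwa [mul_one] at this)
  have hφ : Function.Injective φ := by
    rw [injective_iff_map_eq_one]
    intro β hβ
    have h3 := hτ β
    have h4 : τ β = 1 := hβ
    rw [h4] at h3
    obtain ⟨k, hk⟩ := hE β.1
    exact Subtype.ext (Subtype.ext (Tau.eq_one R hG1 C h3 (congrArg Subtype.val hk)))
  by_cases hall : ∀ β : ↥E, β ∈ E0
  · have hcF : IsCyclic (F ≃+* F) := ⟨fr, fun a => by
      obtain ⟨m, hm⟩ := hgen a
      exact ⟨(m : ℤ), by rw [hm]; exact zpow_natCast fr m⟩⟩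
    have hc0 : IsCyclic ↥E0 := isCyclic_of_injective φ hφ
    obtain ⟨e, he⟩ := hc0.exists_generator
    refine ⟨e.1.1, e.1.2, fun y hy => ?_⟩
    obtain ⟨m, hm⟩ := he ⟨⟨y, hy⟩, hall _⟩
    refine ⟨m, ?_⟩
    have h3 := congrArg (fun z : ↥E0 => (z.1 : MulAut Y)) hm
    simp only [SubgroupClass.coe_zpow] at h3
    exact h3.symm
  · push Not at hall
    obtain ⟨g, hg⟩ := hall
    obtain ⟨σ, D⟩ := exists_diag R hG (hEF g.1 g.2).1 (hEF g.1 g.2).2
    have hσ1 : σ ≠ 1 := by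
      rintro rfl
      exact hg D
    have hσ : σ a = b ∧ σ b = a := (hsw σ (D.matrix R)).resolve_left hσ1
    have hmul : ∀ {β : ↥E} {σ' : Equiv.Perm I}, Diag T X β.1 σ' → (σ' a = a) → β ∈ E0 := by
      intro β σ' D' h3
      rcases hsw σ' (D'.matrix R) with h4 | h4
      · rw [h4] at D'
        exact D'
      · exfalso
        rw [h3] at h4
        exact hab h4.1
    have hgg : g * g ∈ E0 := hmul (β := g * g) (D.mul D) (by
      rw [Equiv.Perm.mul_apply, hσ.1, hσ.2])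
    have hEg : ∀ y : ↥E, y ∈ E0 ∨ y * g⁻¹ ∈ E0 := by
      intro y
      by_cases hy : y ∈ E0
      · exact Or.inl hy
      · right
        obtain ⟨σ', D'⟩ := exists_diag R hG (hEF y.1 y.2).1 (hEF y.1 y.2).2
        have h3 : σ' ≠ 1 := by
          rintro rfl
          exact hy D'
        have h4 := (hsw σ' (D'.matrix R)).resolve_left h3
        refine hmul (β := y * g⁻¹) (D'.mul D.inv) ?_
        have h5 : σ⁻¹ a = b := by
          rw [← hσ.2]
          exact σ.symm_apply_apply b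
        rw [Equiv.Perm.mul_apply, h5, h4.2]
    have hσσ : σ * σ = 1 := by
      rcases hsw (σ * σ) ((D.mul D).matrix R) with h3 | h3
      · exact h3
      · exfalso
        have h4 := h3.1
        rw [Equiv.Perm.mul_apply, hσ.1, hσ.2] at h4
        exact hab h4
    obtain ⟨θ, B⟩ := graph_sq R C H hconn h1 h2 D hσ hσσ hfr
    have hb : φ ⟨g * g, hgg⟩ = fr * (θ * θ) := huniq _ _ B
    have h4 := cyc_key hE hφ hgen hgg hEg hb
    refine ⟨g.1, g.2, fun y hy => ?_⟩
    obtain ⟨m, hm⟩ := h4 ⟨y, hy⟩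
    refine ⟨m, ?_⟩
    have h5 := congrArg (fun z : ↥E => (z : MulAut Y)) hm
    simp only [SubgroupClass.coe_zpow] at h5
    exact h5

/-! ### In an overgroup -/

section Over

variable {G : Type*} [Group G] [Finite G]

/-- The projection of `S` to the frame group. -/
theorem exists_proj {p : ℕ} [Finite W] (R : RGD cs h p T n X) (hG1 : RGD.Sup X {x | IsRoot cs h x} = ⊤)
    (f : Y →* G) {S : Subgroup G} (ρ : ↥S →* MulAut Y) (hρ : ∀ (g : ↥S) y, f (ρ g y) = g * f y * (g : G)⁻¹)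
    (hfix : ∀ g, Fix (ρ g) (RGD.Sup X (RGD.Pos cs h)))
    (hUS : (RGD.Sup X (RGD.Pos cs h)).map f ≤ S)
    (hρu : ∀ (u : Y) (hu : f u ∈ S), ρ ⟨f u, hu⟩ = MulAut.conj u) :
    ∃ q : ↥S →* MulAut Y, (∀ s, q s ∈ Frame cs h X) ∧
      (∀ s, ∃ u ∈ RGD.Sup X (RGD.Pos cs h), ∃ hu : f u ∈ S, q (⟨f u, hu⟩ * s) = q s ∧ ρ (⟨f u, hu⟩ * s) = q s) ∧
      ∀ s : ↥S, q s = 1 → ∃ u ∈ RGD.Sup X (RGD.Pos cs h), ∃ c ∈ S, (∀ y, c * f y = f y * c) ∧ (s : G) = f u * c := by
  have hG := GG_eq_top (T := T) hG1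
  obtain ⟨q, hq⟩ := exists_toFrame R hG ρ.range (by
    rintro _ ⟨g, rfl⟩
    exact hfix g)
  have hqF : ∀ s : ↥S, ρ s ∈ Frame cs h X → q (ρ.rangeRestrict s) = ρ s := fun s h1 =>
    (hq (ρ.rangeRestrict s)).2.2.2.2 h1
  refine ⟨q.comp ρ.rangeRestrict, fun s => (hq _).1, fun s => ?_, fun s hs => ?_⟩
  · obtain ⟨u, hu, e⟩ := (hq (ρ.rangeRestrict s)).2.1
    have huS : f u ∈ S := hUS ⟨u, hu, rfl⟩
    have h1 : ρ (⟨f u, huS⟩ * s) = q (ρ.rangeRestrict s) := by
      rw [e, map_mul, hρu]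
      rfl
    refine ⟨u, hu, huS, ?_, h1⟩
    rw [MonoidHom.comp_apply, MonoidHom.comp_apply, ← h1]
    apply hqF
    rw [h1]
    exact (hq _).1
  · obtain ⟨u, hu, e⟩ := (hq (ρ.rangeRestrict s)).2.2.2.1.1 hs
    have e' : ρ s = MulAut.conj u := e
    refine ⟨u, hu, (f u)⁻¹ * (s : G), mul_mem (inv_mem (hUS ⟨u, hu, rfl⟩)) s.2, fun y => ?_, ?_⟩
    · have h5 := hρ s y
      rw [e', MulAut.conj_apply, map_mul, map_mul, map_inv] at h5
      calc (f u)⁻¹ * (s : G) * f y = (f u)⁻¹ * (s * f y * (s : G)⁻¹) * s := by group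
        _ = (f u)⁻¹ * (f u * f y * (f u)⁻¹) * s := by rw [h5]
        _ = _ := by group
    · group

/-- **`S = f(U) C_S(K) ⟨g⟩`** (types `B₂`, `F₄`, characteristic two): `g` induces a frame automorphism. -/
theorem exists_gen_graph [Finite W] [Nonempty I] [CharP F 2] [Finite F] (R : RGD cs h 2 T n X)
    (hG1 : RGD.Sup X {x | IsRoot cs h x} = ⊤) (C : Coords cs h T n X x χ) (H : Coroots A T X χ hh)
    (hconn : ∀ J : Set I, J.Nonempty → J ≠ Set.univ → ∃ a ∈ J, ∃ b, b ∉ J ∧ M a b ≠ 2)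
    {a b : I} (hab : a ≠ b) (h1 : A b a = -1) (h2 : A a b = -2)
    (hsw : ∀ σ : Equiv.Perm I, (∀ i j, M (σ i) (σ j) = M i j) → σ = 1 ∨ (σ a = b ∧ σ b = a))
    (f : Y →* G) (hf : Function.Injective f) {S : Subgroup G} (hSp : IsPGroup 2 ↥S)
    (hSK : S ≤ Subgroup.normalizer (f.range : Set G))
    (hSU : S ≤ Subgroup.normalizer (((RGD.Sup X (RGD.Pos cs h)).map f : Subgroup G) : Set G))
    (hUS : (RGD.Sup X (RGD.Pos cs h)).map f ≤ S) :
    ∃ g ∈ S, ∃ β ∈ Frame cs h X, (∀ y, f (β y) = g * f y * g⁻¹) ∧ (∃ k : ℕ, β ^ 2 ^ k = 1) ∧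
      ∀ s ∈ S, ∃ m : ℤ, ∃ u ∈ RGD.Sup X (RGD.Pos cs h), ∃ c ∈ S, (∀ y, c * f y = f y * c) ∧
        s = f u * c * g ^ m := by
  obtain ⟨ρ, hρdef⟩ : ∃ ρ : ↥S →* MulAut Y, ρ = (act f hf).comp (Subgroup.inclusion hSK) := ⟨_, rfl⟩
  have hρ : ∀ (g : ↥S) y, f (ρ g y) = g * f y * (g : G)⁻¹ := by
    intro g y
    rw [hρdef]
    exact f_act f hf _ y
  obtain ⟨q, hqF, hqu, hq1⟩ := exists_proj R hG1 f ρ hρ (fun g => by
    rw [hρdef]
    exact fix_act f hf (hSU g.2)) hUS (fun u hu => by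
    rw [hρdef]
    exact act_f f hf u)
  have hE : IsPGroup 2 ↥q.range := IsPGroup.of_surjective hSp q.rangeRestrict q.rangeRestrict_surjective
  obtain ⟨β, ⟨s0, hs0⟩, hgen⟩ := frame_cyclic R hG1 C H hconn hab h1 h2 hsw hE (by
    rintro _ ⟨α, rfl⟩
    exact hqF α)
  obtain ⟨k, hk⟩ := hE ⟨β, ⟨s0, hs0⟩⟩
  have hk' : β ^ 2 ^ k = 1 := congrArg Subtype.val hk
  obtain ⟨u0, hu0, hu0S, e1, e2⟩ := hqu s0
  rw [hs0] at e1 e2
  refine ⟨f u0 * s0, mul_mem hu0S s0.2, β, hs0 ▸ hqF s0, fun y => ?_, ⟨k, hk'⟩, fun s hs => ?_⟩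
  · rw [← e2, hρ]
    rfl
  · obtain ⟨m, hm⟩ := hgen _ ⟨⟨s, hs⟩, rfl⟩
    obtain ⟨u, hu, c, hc, hcf, e⟩ := hq1 (⟨s, hs⟩ * ((⟨f u0, hu0S⟩ * s0) ^ m)⁻¹) (by
      rw [map_mul, map_inv, map_zpow, e1, hm, mul_inv_cancel])
    have e' : s * ((f u0 * (s0 : G)) ^ m)⁻¹ = f u * c := e
    exact ⟨m, u, hu, c, hc, hcf, by rw [← e', inv_mul_cancel_right]⟩

end Over

end Cfsg.Agent.KFacts.RgdGraph
end

-- part: KFacts/F4Pair
section
prune_inst 0x4400002200000000200200001820200000000000080020400000084200008000000000801000100030800005004000000000400000000a000000000000008022000090180c00120001002100000000000000000000000000000000000000000000000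
set_option linter.all false
open scoped Cfsg.Agent.FastGrp

-- part: KFacts/F4Star
section
/-!
`F₄` in characteristic two: centralisers of sets of root elements by bit masks (K-group facts for S1765, node D10).

A set of roots of `chevF4` is a mask `P < 2 ^ 48` (bit `r` = the root with index `r`).
* `masks` : bit `s` of `nn r` is `0 ≤ ⟨s, r^∨⟩`; `starM P` : the roots `s` with `0 ≤ ⟨s, r^∨⟩` for all `r ∈ P`;
* `spanM P` : a check that a character of the root lattice with values in a field of characteristic two, trivial on `P`,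
  is trivial;
* `cent_mask` : the centraliser of nontrivial elements of the root groups in `P` lies in the group generated by the
  root groups in `starM P`.
-/

set_option autoImplicit false
set_option Elab.async false

namespace Cfsg.Agent.KFacts.F4Star

open CoxeterSystem Cfsg.Agent.ChevalleyStructure.CoxeterGeom Cfsg.Agent.Tits.Roots Cfsg.Agent.Tits.Core
open Cfsg.Lie Cfsg.Agent.ChevalleyStructure Cfsg.Agent.ChevalleyStructure.Elts
  Cfsg.Agent.ChevalleyStructure.RootVec Cfsg.Agent.ChevalleyStructure.CoxeterGeomTypes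
open Cfsg.Agent.Nodes Cfsg.Agent.Nodes.Reps Cfsg.Agent.Nodes.BNOf Cfsg.Agent.Nodes.RGDChev Cfsg.Agent.Nodes.Coroot
  Cfsg.Agent.KFacts.ChevTwo Cfsg.Agent.KFacts.ChevTwoTab Cfsg.Agent.KFacts.ChevTwoInst

/-- bit `s` of the `r`-th entry: `0 ≤ ⟨s, r^∨⟩` -/
def masks : List ℕ := [
  2398118477823, 4770324545535, 9462746185727, 8589934591, 36721868472319, 72198378586111, 142738932269055,
    15522146009087, 42222916460543, 82099754758143, 154840673810431, 109048597183487, 181788474015231,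
    221663120817919, 248360776793983, 68711054548895, 104170518458287, 174676980512719, 138737560292287,
    209279487284703, 244758234506991, 131317969574843, 201721350381019, 135993071365053, 208734024037854,
    241598195003117, 243935739606766, 272017356806523, 276707541346941, 279078374110334, 268203442076537,
    270436867276154, 274852129832572, 280367009335175, 280920018885011, 281197258713765, 281336050595014,
    281405634759473, 281440305206610, 281457655506532, 281466384709744, 281467913472897, 281469297595778,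
    281471614953092, 281474976677888, 281474874792208, 281474955045408, 281474965861440]

/-- pairs `(a, b)` with `a + b = c` or `a + b = 2 c` -/
def decs : List (List (ℕ × ℕ)) := [
  [(1, 23), (2, 21), (3, 18), (4, 16), (5, 15), (7, 11), (8, 9)],
    [(0, 24), (2, 22), (3, 19), (4, 17), (6, 15), (7, 12), (8, 10)],
    [(0, 26), (1, 25), (3, 20), (5, 17), (6, 16), (7, 13), (9, 10)],
    [(0, 6), (0, 29), (1, 5), (1, 28), (2, 4), (2, 27), (4, 20), (5, 19), (6, 18), (7, 14), (8, 13), (9, 12), (10, 11)],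
    [(0, 31), (1, 30), (3, 27), (5, 22), (6, 21), (8, 14), (11, 12)],
    [(0, 32), (2, 30), (3, 28), (4, 25), (6, 23), (9, 14), (11, 13)],
    [(1, 32), (2, 31), (3, 29), (4, 26), (5, 24), (10, 14), (12, 13)],
    [(0, 17), (0, 36), (1, 16), (1, 35), (2, 15), (2, 34), (3, 33), (8, 20), (9, 19), (10, 18), (11, 17), (12, 16), (13, 15)],
    [(0, 22), (0, 38), (1, 21), (1, 37), (3, 34), (4, 15), (4, 33), (7, 27), (9, 22), (10, 21), (11, 19), (12, 18), (14, 15)],
    [(0, 25), (0, 39), (2, 23), (2, 37), (3, 35), (5, 16), (5, 33), (7, 28), (8, 25), (10, 23), (11, 20), (13, 18), (14, 16)],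
    [(1, 26), (1, 39), (2, 24), (2, 38), (3, 36), (6, 17), (6, 33), (7, 29), (8, 26), (9, 24), (12, 20), (13, 19), (14, 17)],
    [(0, 30), (0, 40), (3, 37), (4, 23), (4, 35), (5, 21), (5, 34), (7, 30), (8, 28), (9, 27), (12, 23), (13, 21), (14, 18)],
    [(1, 31), (1, 40), (3, 38), (4, 24), (4, 36), (6, 22), (6, 34), (7, 31), (8, 29), (10, 27), (11, 24), (13, 22), (14, 19)],
    [(2, 32), (2, 40), (3, 39), (5, 26), (5, 36), (6, 25), (6, 35), (7, 32), (9, 29), (10, 28), (11, 26), (12, 25), (14, 20)],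
    [(3, 40), (4, 32), (4, 39), (5, 31), (5, 38), (6, 30), (6, 37), (8, 32), (9, 31), (10, 30), (11, 29), (12, 28), (13, 27)],
    [(0, 42), (1, 41), (7, 34), (8, 33), (16, 22), (17, 21), (18, 19)],
    [(0, 43), (2, 41), (7, 35), (9, 33), (15, 25), (17, 23), (18, 20)],
    [(1, 43), (2, 42), (7, 36), (10, 33), (15, 26), (16, 24), (19, 20)],
    [(0, 41), (0, 44), (3, 41), (7, 37), (8, 35), (9, 34), (11, 33), (15, 23), (15, 28), (16, 21), (16, 27), (19, 23), (20, 21)],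
    [(1, 42), (1, 44), (3, 42), (7, 38), (8, 36), (10, 34), (12, 33), (15, 24), (15, 29), (17, 22), (17, 27), (18, 24), (20, 22)],
    [(2, 43), (2, 44), (3, 43), (7, 39), (9, 36), (10, 35), (13, 33), (16, 26), (16, 29), (17, 25), (17, 28), (18, 26), (19, 25)],
    [(0, 45), (4, 41), (8, 37), (11, 34), (15, 30), (18, 27), (22, 23)],
    [(1, 45), (4, 42), (8, 38), (12, 34), (15, 31), (19, 27), (21, 24)],
    [(0, 46), (5, 41), (9, 37), (11, 35), (16, 30), (18, 28), (21, 25)],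
    [(1, 47), (6, 42), (10, 38), (12, 36), (17, 31), (19, 29), (22, 26)],
    [(2, 46), (5, 43), (9, 39), (13, 35), (16, 32), (20, 28), (23, 26)],
    [(2, 47), (6, 43), (10, 39), (13, 36), (17, 32), (20, 29), (24, 25)],
    [(3, 45), (4, 44), (4, 45), (8, 40), (11, 38), (12, 37), (14, 34), (18, 31), (19, 30), (21, 29), (21, 31), (22, 28), (22, 30)],
    [(3, 46), (5, 44), (5, 46), (9, 40), (11, 39), (13, 37), (14, 35), (18, 32), (20, 30), (23, 29), (23, 32), (25, 27), (25, 30)],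
    [(3, 47), (6, 44), (6, 47), (10, 40), (12, 39), (13, 38), (14, 36), (19, 32), (20, 31), (24, 28), (24, 32), (26, 27), (26, 31)],
    [(4, 46), (5, 45), (11, 40), (14, 37), (21, 32), (23, 31), (27, 28)],
    [(4, 47), (6, 45), (12, 40), (14, 38), (22, 32), (24, 30), (27, 29)],
    [(5, 47), (6, 46), (13, 40), (14, 39), (25, 31), (26, 30), (28, 29)],
    [(7, 44), (8, 43), (9, 42), (10, 41), (15, 39), (15, 43), (16, 38), (16, 42), (17, 37), (17, 41), (18, 36), (19, 35), (20, 34)],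
    [(7, 45), (8, 44), (11, 42), (12, 41), (15, 40), (15, 45), (18, 38), (19, 37), (21, 36), (21, 42), (22, 35), (22, 41), (27, 33)],
    [(7, 46), (9, 44), (11, 43), (13, 41), (16, 40), (16, 46), (18, 39), (20, 37), (23, 36), (23, 43), (25, 34), (25, 41), (28, 33)],
    [(7, 47), (10, 44), (12, 43), (13, 42), (17, 40), (17, 47), (19, 39), (20, 38), (24, 35), (24, 43), (26, 34), (26, 42), (29, 33)],
    [(8, 46), (9, 45), (11, 44), (14, 41), (18, 40), (21, 39), (21, 46), (23, 38), (23, 45), (27, 35), (28, 34), (30, 33), (30, 41)],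
    [(8, 47), (10, 45), (12, 44), (14, 42), (19, 40), (22, 39), (22, 47), (24, 37), (24, 45), (27, 36), (29, 34), (31, 33), (31, 42)],
    [(9, 47), (10, 46), (13, 44), (14, 43), (20, 40), (25, 38), (25, 47), (26, 37), (26, 46), (28, 36), (29, 35), (32, 33), (32, 43)],
    [(11, 47), (12, 46), (13, 45), (14, 44), (27, 39), (28, 38), (29, 37), (30, 36), (30, 47), (31, 35), (31, 46), (32, 34), (32, 45)],
    [(15, 46), (16, 45), (18, 44), (21, 43), (23, 42), (33, 37), (34, 35)],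
    [(15, 47), (17, 45), (19, 44), (22, 43), (24, 41), (33, 38), (34, 36)],
    [(16, 47), (17, 46), (20, 44), (25, 42), (26, 41), (33, 39), (35, 36)],
    [(18, 47), (19, 46), (20, 45), (27, 43), (28, 42), (29, 41), (33, 40), (34, 39), (35, 38), (36, 37), (41, 47), (42, 46), (43, 45)],
    [(21, 47), (22, 46), (27, 44), (30, 42), (31, 41), (34, 40), (37, 38)],
    [(23, 47), (25, 45), (28, 44), (30, 43), (32, 41), (35, 40), (37, 39)],
    [(24, 46), (26, 45), (29, 44), (31, 43), (32, 42), (36, 40), (38, 39)]]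

def nn (r : ℕ) : ℕ := masks.getD r 0

/-- the mask of the short roots -/
def shortM : ℕ := 19783560757128

def full : ℕ := 2 ^ 48 - 1

def starM (P : ℕ) : ℕ := (List.range 48).foldl (fun acc r => if P.testBit r then Nat.land acc (nn r) else acc) full

def sb (S r : ℕ) : Bool := S.testBit r || S.testBit (47 - r)

def pass (S : ℕ) : ℕ := (List.range 48).foldl (fun acc c =>
  if (decs.getD c []).any fun q => sb acc q.1 && sb acc q.2 then Nat.lor acc (2 ^ c) else acc) S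

def spanM (P : ℕ) : Bool :=
  let S := pass (pass (pass P))
  sb S 33 && sb S 27 && sb S 25 && sb S 24

/-! ### Fast evaluation -/

namespace FastF4

/-- a bit -/
def tb (m n : ℕ) : Bool := Nat.beq (Nat.land 1 (Nat.shiftRight m n)) 1

theorem tb_eq : Nat.testBit = tb := by
  funext m n
  show (1 &&& m >>> n != 0) = Nat.beq (1 &&& m >>> n) 1
  rw [Nat.one_and_eq_mod_two]
  rcases Nat.mod_two_eq_zero_or_one (m >>> n) with h | h <;> rw [h] <;> rfl

/-- the number is evaluated before it is used -/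
noncomputable def fN (n : ℕ) (K : ℕ → ℕ) : ℕ := Nat.rec (K 0) (fun m _ => K (Nat.succ m)) n

theorem fN_eq (n : ℕ) (K : ℕ → ℕ) : fN n K = K n := by cases n <;> rfl

/-- a strict fold -/
noncomputable def fl {α : Type} (f : ℕ → α → ℕ) (l : List α) : ℕ → ℕ := List.rec (fun A => A) (fun p _ ih A => fN (f A p) ih) l

theorem fl_eq {α : Type} (f : ℕ → α → ℕ) (l : List α) : ∀ A, fl f l A = l.foldl f A := by
  induction l with
  | nil => intro A; rfl
  | cons p l ih => intro A; exact (fN_eq _ _).trans (ih _)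

theorem starM_eq : starM = fun P => fl (fun A (p : ℕ × ℕ) => Bool.rec A (Nat.land A p.2) (tb P p.1))
    ((List.range 48).map fun r => (r, nn r)) 281474976710655 := by
  funext P
  rw [fl_eq, List.foldl_map, ← tb_eq]
  delta starM
  congr 1
  funext A r
  cases P.testBit r <;> rfl

/-- the bits `c` and `47 - c` -/
def two (c : ℕ) : ℕ := Nat.lor (Nat.pow 2 c) (Nat.pow 2 (Nat.sub 47 c))

theorem testBit_two {c r : ℕ} (hc : c < 48) (hr : r < 48) : (two c).testBit r = (decide (c = r) || decide (c = 47 - r)) := by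
  show (2 ^ c ||| 2 ^ (47 - c)).testBit r = _
  rw [Nat.testBit_lor, Nat.testBit_two_pow, Nat.testBit_two_pow]
  congr 1
  exact decide_eq_decide.2 (by omega)

/-- `A` is the symmetric mask of `S` -/
def Inv (S A : ℕ) : Prop := ∀ r < 48, A.testBit r = sb S r

theorem Inv.add {S A c : ℕ} (h : Inv S A) (hc : c < 48) : Inv (Nat.lor S (2 ^ c)) (Nat.lor A (two c)) := by
  intro r hr
  show (A ||| two c).testBit r = ((S ||| 2 ^ c).testBit r || (S ||| 2 ^ c).testBit (47 - r))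
  rw [Nat.testBit_lor, Nat.testBit_lor, Nat.testBit_lor, testBit_two hc hr, h r hr, Nat.testBit_two_pow, Nat.testBit_two_pow]
  delta sb
  cases S.testBit r <;> cases S.testBit (47 - r) <;> cases decide (c = r) <;> cases decide (c = 47 - r) <;> rfl

theorem Inv.skip {S A c : ℕ} (h : Inv S A) (hc : c < 48) (h1 : A.testBit c = true) : Inv (Nat.lor S (2 ^ c)) A := by
  intro r hr
  rw [← h.add hc r hr]
  show _ = (A ||| two c).testBit r
  rw [Nat.testBit_lor, testBit_two hc hr]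
  by_cases h2 : c = r
  · rw [← h2, h1]; rfl
  · by_cases h3 : c = 47 - r
    · have h4 : A.testBit r = true := by
        rw [h r hr]
        rw [h c hc] at h1
        delta sb at h1 ⊢
        rw [← h3, Bool.or_comm, show r = 47 - c by omega]
        exact h1
      rw [h4]; rfl
    · rw [decide_eq_false h2, decide_eq_false h3, Bool.or_false, Bool.or_false]

/-- is there a pair with both bits set -/
noncomputable def anyF (A : ℕ) (d : List (ℕ × ℕ)) : Bool :=
  List.rec false (fun q _ ih => Bool.rec ih (Bool.rec ih true (tb A q.2)) (tb A q.1)) d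

theorem anyF_eq {S A : ℕ} (h : Inv S A) (d : List (ℕ × ℕ)) (hd : ∀ q ∈ d, q.1 < 48 ∧ q.2 < 48) :
    anyF A d = d.any fun q => sb S q.1 && sb S q.2 := by
  induction d with
  | nil => rfl
  | cons q d ih =>
    have h1 := hd q List.mem_cons_self
    rw [List.any_cons, ← ih fun x hx => hd x (List.mem_cons_of_mem _ hx), ← h _ h1.1, ← h _ h1.2, tb_eq]
    show (Bool.rec (anyF A d) (Bool.rec (anyF A d) true (tb A q.2)) (tb A q.1) : Bool) = _
    cases tb A q.1 <;> cases tb A q.2 <;> rfl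

theorem decs_lt : ∀ c < 48, ∀ q ∈ decs.getD c [], q.1 < 48 ∧ q.2 < 48 := by (refine of_decide_eq_true ?_; (try (rewrite [Cfsg.Agent.LsF.decLt_eq, Cfsg.Agent.LsF.getD_eq, Cfsg.Agent.LsF.dAnd_eq, Cfsg.Agent.LsF.dBAll_eq, Cfsg.Agent.LsF.dBallLT_eq, Cfsg.Agent.LsF.decide_eq])); decide +kernel)

/-- one pass on symmetric masks -/
noncomputable def passF (A : ℕ) : ℕ :=
  fl (fun A (p : ℕ × List (ℕ × ℕ)) => Bool.rec (Bool.rec A (Nat.lor A (two p.1)) (anyF A p.2)) A (tb A p.1))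
    ((List.range 48).map fun c => (c, decs.getD c [])) A

theorem Inv.pass {S A : ℕ} (h : Inv S A) : Inv (pass S) (passF A) := by
  delta passF F4Star.pass
  rw [fl_eq, List.foldl_map]
  have hL : ∀ c ∈ List.range 48, c < 48 := fun c hc => List.mem_range.1 hc
  generalize List.range 48 = L at hL
  induction L generalizing S A with
  | nil => exact h
  | cons c L ih =>
    rw [List.foldl_cons, List.foldl_cons]
    refine ih ?_ fun d hd => hL d (List.mem_cons_of_mem _ hd)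
    have hc := hL c List.mem_cons_self
    rw [← anyF_eq h _ (decs_lt c hc), ← tb_eq]
    cases anyF A (decs.getD c [])
    · cases A.testBit c <;> exact h
    · cases h1 : A.testBit c
      · exact h.add hc
      · exact h.skip hc h1

/-- the symmetric mask -/
noncomputable def symm (P : ℕ) : ℕ := fl (fun A r => Bool.rec A (Nat.lor A (two r)) (tb P r)) (List.range 48) 0

theorem inv_symm (P : ℕ) : Inv P (symm P) := by
  have key : ∀ L : List ℕ, (∀ c ∈ L, c < 48) → ∀ A : ℕ, ∀ r < 48,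
      (L.foldl (fun (A r : ℕ) => (Bool.rec A (Nat.lor A (two r)) (P.testBit r) : ℕ)) A).testBit r =
        (A.testBit r || (decide (r ∈ L) && P.testBit r) || (decide (47 - r ∈ L) && P.testBit (47 - r))) := by
    intro L
    induction L with
    | nil => intro _ A r _; simp
    | cons c L ih =>
      intro hL A r hr
      have hc := hL c List.mem_cons_self
      rw [List.foldl_cons, ih (fun d hd => hL d (List.mem_cons_of_mem _ hd)) _ r hr]
      have e : (Bool.rec A (Nat.lor A (two c)) (P.testBit c) : ℕ).testBit r =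
          (A.testBit r || (P.testBit c && (decide (c = r) || decide (c = 47 - r)))) := by
        cases P.testBit c
        · exact (Bool.or_false _).symm
        · exact (Nat.testBit_lor A (two c) r).trans (by rw [testBit_two hc hr]; rfl)
      rw [e]
      simp only [List.mem_cons, Bool.decide_or]
      by_cases h1 : c = r
      · subst h1
        have h2 : ¬ c = 47 - c := by omega
        have h3 : ¬ 47 - c = c := by omega
        simp only [h2, h3, decide_true, decide_false]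
        cases A.testBit c <;> cases P.testBit c <;> simp
      · have h1' : ¬ r = c := fun e => h1 e.symm
        by_cases h2 : c = 47 - r
        · subst h2
          simp only [h1, h1', decide_true, decide_false]
          cases A.testBit r <;> cases P.testBit (47 - r) <;> simp
        · have h2' : ¬ 47 - r = c := fun e => h2 e.symm
          simp only [h1, h1', h2, h2', decide_false]
          simp
  intro r hr
  delta symm sb
  rw [fl_eq, ← tb_eq, key _ (fun c hc => List.mem_range.1 hc) 0 r hr, decide_eq_true (List.mem_range.2 hr),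
    decide_eq_true (List.mem_range.2 (by omega : 47 - r < 48)), Nat.zero_testBit]
  rfl

/-- `spanM`, fast -/
noncomputable def spanF (P : ℕ) : Bool :=
  Nat.beq (fN (passF (passF (passF (symm P)))) fun A => Bool.rec 0 1 (tb A 33 && tb A 27 && tb A 25 && tb A 24)) 1

theorem spanM_eq : spanM = spanF := by
  funext P
  have h := (inv_symm P).pass.pass.pass
  delta spanM spanF
  rw [fN_eq, ← tb_eq, h 33 (by omega), h 27 (by omega), h 25 (by omega), h 24 (by omega)]
  show (sb (pass (pass (pass P))) 33 && sb (pass (pass (pass P))) 27 && sb (pass (pass (pass P))) 25 &&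
    sb (pass (pass (pass P))) 24) = _
  cases (sb (pass (pass (pass P))) 33 && sb (pass (pass (pass P))) 27 && sb (pass (pass (pass P))) 25 &&
    sb (pass (pass (pass P))) 24) <;> rfl

/-- the coordinates of a root in one number -/
def cd (r : ℕ) : ℕ := Nat.xor (Nat.mod (Nat.shiftRight
  (nat_lit 0x831020431020421020420c20420820410820010820420c10420810410810010810410410010410000410000010420800410800010800410400010400000400410000010000400003c000000f0003cf0000003c000f3c03cf3c000f3803cf3803ce38000000f0003cf00f3cf3cf3cf00f38f3cf38f3ce38f3ce34f00f38e3cf38e3ce38e3ce34e3ce30e3cd30e38d30e)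
  (Nat.mul 24 r)) 16777216) 2130440

private noncomputable def _root_.Cfsg.Agent.LsF.f1f1b89_0 : {f // @Cfsg.Agent.ChevalleyStructure.RootVecTab.dig = f} := ⟨_, by first | (delta Cfsg.Agent.ChevalleyStructure.RootVecTab.dig; rewrite [Cfsg.Agent.LsF.nmul_pat]; exact rfl) | exact rfl⟩
private noncomputable def _root_.Cfsg.Agent.LsF.f1f1b89_1 : {f // @Cfsg.Agent.ChevalleyStructure.RootVecTab.packTab = f} := ⟨_, by first | (delta Cfsg.Agent.ChevalleyStructure.RootVecTab.packTab; rewrite [Cfsg.Agent.LsF.instDecEq_eq, Cfsg.Agent.LsF.ite_eq]; exact rfl) | exact rfl⟩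
private noncomputable def _root_.Cfsg.Agent.LsF.f1f1b89_2 : {f // @Cfsg.Agent.ChevalleyStructure.RootVecTab.code = f} := ⟨_, by first | (delta Cfsg.Agent.ChevalleyStructure.RootVecTab.code; rewrite [Cfsg.Agent.LsF.f1f1b89_1.2, Cfsg.Agent.LsF.nmul_pat, Cfsg.Agent.LsF.npow_pat]; exact rfl) | exact rfl⟩
private noncomputable def _root_.Cfsg.Agent.LsF.f1f1b89_3 : {f // @Cfsg.Agent.ChevalleyStructure.RootVec.rt = f} := ⟨_, by first | (delta Cfsg.Agent.ChevalleyStructure.RootVec.rt; rewrite [Cfsg.Agent.LsF.f1f1b89_0.2, Cfsg.Agent.LsF.f1f1b89_2.2, Cfsg.Agent.LsF.nsub_pat, Cfsg.Agent.LsF.isub_pat, Cfsg.Agent.LsF.icast_pat, Cfsg.Agent.LsF.decLt_eq, Cfsg.Agent.LsF.dAnd_eq, Cfsg.Agent.LsF.ite_eq]; exact rfl) | exact rfl⟩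
theorem cd_spec (r : ℕ) : ((cd r : ℕ) : ℤ) = 2130440 + rt chevF4 r 0 + 64 * rt chevF4 r 1 + 4096 * rt chevF4 r 2 +
    262144 * rt chevF4 r 3 ∧ ∀ i < 4, -4 ≤ rt chevF4 r i ∧ rt chevF4 r i ≤ 4 := by
  rcases Nat.lt_or_ge r 48 with h | h
  · revert r
    (refine of_decide_eq_true ?_; (try (rewrite [Cfsg.Agent.LsF.f1f1b89_3.2, Cfsg.Agent.LsF.iadd_pat, Cfsg.Agent.LsF.imul_pat, Cfsg.Agent.LsF.ineg_pat, Cfsg.Agent.LsF.icast_pat, Cfsg.Agent.LsF.instIDecEq_eq, Cfsg.Agent.LsF.idecLe_eq, Cfsg.Agent.LsF.dAnd_eq, Cfsg.Agent.LsF.dBallLT_eq, Cfsg.Agent.LsF.decide_eq])); decide +kernel)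
  · have h1 : ∀ i, rt chevF4 r i = 0 := fun i => if_neg fun h2 => absurd h2.1 (Nat.not_lt.2 h)
    have h2 : ∀ n : ℕ, n < 2 ^ (24 * 48) → Nat.xor (Nat.mod (Nat.shiftRight n (Nat.mul 24 r)) 16777216) 2130440 = 2130440 :=
      fun n hn => by
        show (n >>> (24 * r)) % 16777216 ^^^ 2130440 = 2130440
        rw [Nat.shiftRight_eq_div_pow, Nat.div_eq_of_lt (hn.trans_le (Nat.pow_le_pow_right (by omega) (by omega))),
          Nat.zero_mod, Nat.zero_xor]
    have h3 : cd r = 2130440 := h2 _ (by decide +kernel)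
    simp only [h1, h3]
    exact ⟨rfl, fun _ _ => by omega⟩

theorem rt_eq : rt chevF4 = fun r i => Bool.rec (rt chevF4 r i)
    (Int.subNatNat (Nat.mod (Nat.shiftRight (cd r) (Nat.mul 6 i)) 64) 8) (Nat.blt r 48 && Nat.blt i 4) := by
  have h1 : ∀ r < 48, ∀ i < 4, rt chevF4 r i = Int.subNatNat (Nat.mod (Nat.shiftRight (cd r) (Nat.mul 6 i)) 64) 8 := by
    decide +kernel
  funext r i
  cases h : (Nat.blt r 48 && Nat.blt i 4)
  · rfl
  · rw [Bool.and_eq_true, blt_iff, blt_iff] at h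
    exact h1 r h.1 i h.2

/-- a digit -/
def dg (T r k : ℕ) : ℕ := Nat.mod (Nat.shiftRight T (Nat.mul 4 (Nat.add (Nat.mul 4 r) k))) 16

/-- the coroots, plus four -/
def tA : ℕ :=
  nat_lit 0x676557655665687656555555455568756865666546656655465544554445565455544554665446544454554445445444344443443344443442342234433433343234444344334233223342232223202320134333333332332012322331232123

/-- the Cartan integers at the simple roots, plus two -/
def tB : ℕ :=
  nat_lit 0x322213222142222323043124122422312312313212323213131321332214232031401240322113212141330214024122032230421142230331231223320413042124223023113131123132121312213222133220132021402221230231221222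

/-- all Cartan integers, plus two -/
def ct (r s : ℕ) : ℕ := Nat.mod (Nat.shiftRight
  (nat_lit 0x8db6d36d349369a4d328a45129228928924871b69b69a6934d349965228a2914512512416e34db4da4d26d264a4d948948a44a24a2099249236db6da4924924924924492492000006d38da69369a2522da44b49b45129144828969b71a4d34d945148b2d269a64a28a4412514db6e249a6d928a45169a4d364945240924a9234946da48c91b6924912400d244909220091389389365449b3224032520992902902808a35135132d289968411165048b2822822105234a34a16d250b6108a12c24896122122028939126cc49a4193140836624520c94802905138a265a89a08b2a08132d44504594102824a35222da5184896025216d284244b4022124939214936e00092924936e48092926002926d244b69244c6db4da44a2490da4912da48969a28b4d228b8da68b2d14482d348a2d34514da25349948b7136516992812d265229b44a8924836cb24c8a25140824100db2c931249051241365964c5144a08120820d96592a24824a20932d92ca9128025204804cb64b29441268a68a68b45345a31b24345a29a2d14d14d14ca6526526532932e160b2932994994994ca6524ca4cb292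6594cc0ca6594932ca4ca4992d245a4596922cb45885a2cb49165a45a48b45a2d22d22d169164331969168b48b48b45a29a29a2994d14ca6096e14ca68a65345345348289164b65a0121224044a44592d96905124125112cb2d84104841128a284b2cb6824a20924a12596d80824108a251484965b61249444a6d148b4992112d328b6a36522d26894da28a69945269904a2996534dc65149a6514d32524d92924d824944a4da6db84a49364a49b49100349124491b69249124011b69232469248140264a40c49b3224032520e24d95227124110822ca08a8996841116504d44cb5146a209101225848a50b6108a12c24d285b4a469440148148325241931408366249b31271272208141141165208b2a08132d44996a26a27140110910912d04896025216d288b6946946a400149024a4980092924936e48524db89272444924248a24b69a4d328a4512db4d251b6da28920a45144b4d349965228a2da69a4e36d325104a29128a6d264a4d94894d36934dc69b00000124924a4924924924924db6db72492424144944a4522522da44b49b49a4da6da71b20928928a29145148b2d269a6934d36d36e304925125149128a45169a4d369269b69b6dc)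
  (Nat.mul 3 (Nat.add (Nat.mul 48 r) s))) 8

private noncomputable def _root_.Cfsg.Agent.LsF.f1f1b89_4 : {f // @Cfsg.Lie.ChevalleyDatum.cartan = f} := ⟨_, by first | (delta Cfsg.Lie.ChevalleyDatum.cartan; rewrite [Cfsg.Agent.LsF.agetD_eq]; exact rfl) | exact rfl⟩
theorem carB_eq' : carB chevF4 = fun r s => Bool.rec (carB chevF4 r s) (Int.subNatNat (ct r s) 2)
    (Nat.blt r 48 && Nat.blt s 48) := by
  have hA : ∀ r < 48, ∀ k < 4, (chevF4.coroot.getD r #[]).getD k 0 = (dg tA r k : ℤ) - 4 := by (refine of_decide_eq_true ?_; (try (rewrite [Cfsg.Agent.LsF.isub_pat, Cfsg.Agent.LsF.icast_pat, Cfsg.Agent.LsF.agetD_eq, Cfsg.Agent.LsF.instIDecEq_eq, Cfsg.Agent.LsF.dBallLT_eq, Cfsg.Agent.LsF.decide_eq])); decide +kernel)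
  have hB : ∀ s < 48, ∀ k < 4, chevF4.cartan k s = (dg tB s k : ℤ) - 2 := by (refine of_decide_eq_true ?_; (try (rewrite [Cfsg.Agent.LsF.f1f1b89_4.2, Cfsg.Agent.LsF.isub_pat, Cfsg.Agent.LsF.icast_pat, Cfsg.Agent.LsF.instIDecEq_eq, Cfsg.Agent.LsF.dBallLT_eq, Cfsg.Agent.LsF.decide_eq])); decide +kernel)
  have hC : ((List.range 48).all fun r => (List.range 48).all fun s => Nat.beq
      (Nat.add (Nat.add (ct r s) (Nat.mul 2 (Nat.add (Nat.add (dg tA r 0) (dg tA r 1)) (Nat.add (dg tA r 2) (dg tA r 3)))))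
        (Nat.mul 4 (Nat.add (Nat.add (dg tB s 0) (dg tB s 1)) (Nat.add (dg tB s 2) (dg tB s 3)))))
      (Nat.add (Nat.add (Nat.add (Nat.mul (dg tA r 0) (dg tB s 0)) (Nat.mul (dg tA r 1) (dg tB s 1)))
        (Nat.add (Nat.mul (dg tA r 2) (dg tB s 2)) (Nat.mul (dg tA r 3) (dg tB s 3)))) 34)) = true := by ((try (rewrite [Cfsg.Agent.LsF.all_eq, Cfsg.Agent.LsF.range_eq])); decide +kernel)
  funext r s
  cases h : (Nat.blt r 48 && Nat.blt s 48)
  · rfl
  · rw [Bool.and_eq_true, blt_iff, blt_iff] at h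
    have h1 : ct r s + 2 * (dg tA r 0 + dg tA r 1 + (dg tA r 2 + dg tA r 3)) +
        4 * (dg tB s 0 + dg tB s 1 + (dg tB s 2 + dg tB s 3)) =
        dg tA r 0 * dg tB s 0 + dg tA r 1 * dg tB s 1 + (dg tA r 2 * dg tB s 2 + dg tA r 3 * dg tB s 3) + 34 :=
      Nat.eq_of_beq_eq_true (List.all_eq_true.1 (List.all_eq_true.1 hC r (List.mem_range.2 h.1)) s (List.mem_range.2 h.2))
    show (chevF4.coroot.getD r #[]).getD 0 0 * chevF4.cartan 0 s + ((chevF4.coroot.getD r #[]).getD 1 0 * chevF4.cartan 1 s +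
      ((chevF4.coroot.getD r #[]).getD 2 0 * chevF4.cartan 2 s + ((chevF4.coroot.getD r #[]).getD 3 0 * chevF4.cartan 3 s +
        0))) = Int.subNatNat (ct r s) 2
    rw [hA r h.1 0 (by omega), hA r h.1 1 (by omega), hA r h.1 2 (by omega), hA r h.1 3 (by omega), hB s h.2 0 (by omega),
      hB s h.2 1 (by omega), hB s h.2 2 (by omega), hB s h.2 3 (by omega), Int.subNatNat_eq_coe]
    have h2 := congrArg (Nat.cast : ℕ → ℤ) h1
    push_cast at h2 ⊢
    linear_combination -h2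

end FastF4

private noncomputable def _root_.Cfsg.Agent.LsF.f1f1b89_5 : {f // @Cfsg.Agent.KFacts.F4Star.nn = f} := ⟨_, by first | (delta Cfsg.Agent.KFacts.F4Star.nn; rewrite [Cfsg.Agent.LsF.getD_eq]; exact rfl) | exact rfl⟩
private noncomputable def _root_.Cfsg.Agent.LsF.f1f1b89_6 : {f // @Cfsg.Agent.KFacts.ChevTwoTab.carB = f} := ⟨_, by first | (delta Cfsg.Agent.KFacts.ChevTwoTab.carB; rewrite [Cfsg.Agent.LsF.f1f1b89_4.2, Cfsg.Agent.LsF.imul_pat, Cfsg.Agent.LsF.map_eq, Cfsg.Agent.LsF.range_eq, Cfsg.Agent.LsF.sum_eq, Cfsg.Agent.LsF.agetD_eq, Cfsg.Agent.LsF.instIAdd_eq]; exact rfl) | exact rfl⟩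
theorem masks_ok : ((List.range 48).all fun r => (List.range 48).all fun s =>
    (nn r).testBit s == decide (0 ≤ carB chevF4 r s)) = true := by
  rewrite [FastF4.carB_eq', FastF4.tb_eq]
  ((try (rewrite [Cfsg.Agent.LsF.f1f1b89_5.2, Cfsg.Agent.LsF.f1f1b89_6.2, Cfsg.Agent.LsF.bbeq_pat, Cfsg.Agent.LsF.and_eq, Cfsg.Agent.LsF.all_eq, Cfsg.Agent.LsF.range_eq, Cfsg.Agent.LsF.idecLe_eq, Cfsg.Agent.LsF.decide_eq])); decide +kernel)

theorem decs_ok : ((List.range 48).all fun c => (decs.getD c []).all fun q =>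
    Nat.blt q.1 48 && Nat.blt q.2 48 &&
      ((List.range 4).all (fun i => decide (rt chevF4 q.1 i + rt chevF4 q.2 i = rt chevF4 c i)) ||
       (List.range 4).all (fun i => decide (rt chevF4 q.1 i + rt chevF4 q.2 i = 2 * rt chevF4 c i)))) = true := by
  rewrite [FastF4.rt_eq]
  ((try (rewrite [Cfsg.Agent.LsF.f1f1b89_3.2, Cfsg.Agent.LsF.iadd_pat, Cfsg.Agent.LsF.imul_pat, Cfsg.Agent.LsF.and_eq, Cfsg.Agent.LsF.or_eq, Cfsg.Agent.LsF.all_eq, Cfsg.Agent.LsF.range_eq, Cfsg.Agent.LsF.getD_eq, Cfsg.Agent.LsF.instIDecEq_eq, Cfsg.Agent.LsF.decide_eq])); decide +kernel)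

theorem simples_ok : chevF4.simple 0 = 33 ∧ chevF4.simple 1 = 27 ∧ chevF4.simple 2 = 25 ∧ chevF4.simple 3 = 24 ∧
    chevF4.nroots = 48 := by decide +kernel

/-- mask of `{s : 0 < ⟨s, r^∨⟩}` -/
def pp (r : ℕ) : ℕ := Nat.xor full (nn (47 - r))

def longM : ℕ := Nat.xor full shortM

/-- `k c = m a + n b` -/
def lin (k c m a n b : ℕ) : Bool :=
  (List.range 4).all fun i => decide ((k : ℤ) * rt chevF4 c i = m * rt chevF4 a i + n * rt chevF4 b i)

theorem FastF4.lin_eq : lin = fun k c m a n b => Bool.rec (lin k c m a n b)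
    (Nat.beq (Nat.add (Nat.mul k (FastF4.cd c)) (Nat.mul (Nat.add m n) 2130440))
      (Nat.add (Nat.add (Nat.mul m (FastF4.cd a)) (Nat.mul n (FastF4.cd b))) (Nat.mul k 2130440)))
    (Nat.ble (Nat.add k (Nat.add m n)) 4) := by
  funext k c m a n b
  cases h : Nat.ble (Nat.add k (Nat.add m n)) 4
  · rfl
  · have hk : k + (m + n) ≤ 4 := Nat.le_of_ble_eq_true h
    obtain ⟨ec, bc⟩ := FastF4.cd_spec c
    obtain ⟨ea, ba⟩ := FastF4.cd_spec a
    obtain ⟨eb, bb⟩ := FastF4.cd_spec b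
    have bd : ∀ (k : ℕ) (x : ℤ), -4 ≤ x ∧ x ≤ 4 → -(4 * (k : ℤ)) ≤ k * x ∧ k * x ≤ 4 * k := fun k x hx =>
      ⟨(by ring : -(4 * (k : ℤ)) = k * -4) ▸ Int.mul_le_mul_of_nonneg_left hx.1 (Int.natCast_nonneg k),
        (by ring : (k : ℤ) * 4 = 4 * k) ▸ Int.mul_le_mul_of_nonneg_left hx.2 (Int.natCast_nonneg k)⟩
    have b3 : ∀ i < 4, -16 ≤ k * rt chevF4 c i - (m * rt chevF4 a i + n * rt chevF4 b i) ∧
        k * rt chevF4 c i - (m * rt chevF4 a i + n * rt chevF4 b i) ≤ 16 := fun i hi => by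
      have h1 := bd k _ (bc i hi)
      have h2 := bd m _ (ba i hi)
      have h3 := bd n _ (bb i hi)
      omega
    have key : ∀ x y z w : ℤ, -16 ≤ x ∧ x ≤ 16 → -16 ≤ y ∧ y ≤ 16 → -16 ≤ z ∧ z ≤ 16 →
        x + 64 * y + 4096 * z + 262144 * w = 0 → x = 0 ∧ y = 0 ∧ z = 0 ∧ w = 0 := by
      intro x y z w _ _ _ _
      omega
    have e1 : (Nat.beq (k * FastF4.cd c + (m + n) * 2130440) (m * FastF4.cd a + n * FastF4.cd b + k * 2130440) = true) ↔
        k * rt chevF4 c 0 + 64 * (k * rt chevF4 c 1) + 4096 * (k * rt chevF4 c 2) + 262144 * (k * rt chevF4 c 3) =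
          m * rt chevF4 a 0 + 64 * (m * rt chevF4 a 1) + 4096 * (m * rt chevF4 a 2) + 262144 * (m * rt chevF4 a 3) +
          (n * rt chevF4 b 0 + 64 * (n * rt chevF4 b 1) + 4096 * (n * rt chevF4 b 2) + 262144 * (n * rt chevF4 b 3)) := by
      rw [beq_iff, ← Int.natCast_inj]
      push_cast
      rw [ec, ea, eb]
      constructor <;> intro h1 <;> linear_combination h1
    refine Bool.eq_iff_iff.2 (Iff.trans ?_ e1.symm)
    delta lin
    rw [List.all_eq_true]
    constructor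
    · intro h1
      rw [of_decide_eq_true (h1 0 (by decide)), of_decide_eq_true (h1 1 (by decide)), of_decide_eq_true (h1 2 (by decide)),
        of_decide_eq_true (h1 3 (by decide))]
      ring
    · intro h1 i hi
      obtain ⟨h0, h1', h2, h3⟩ := key _ _ _ (k * rt chevF4 c 3 - (m * rt chevF4 a 3 + n * rt chevF4 b 3)) (b3 0 (by omega))
        (b3 1 (by omega)) (b3 2 (by omega)) (by linear_combination h1)
      have hi' := List.mem_range.1 hi
      refine decide_eq_true ?_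
      interval_cases i
      exacts [sub_eq_zero.1 h0, sub_eq_zero.1 h1', sub_eq_zero.1 h2, sub_eq_zero.1 h3]

/-- the roots in the cone of `a` and `b` -/
def shp (a b c : ℕ) : Bool :=
  let x := carB chevF4 b a
  let y := carB chevF4 a b
  c == a || c == b ||
  (if x = -1 ∧ y = -1 then lin 1 c 1 a 1 b
   else if x = -2 ∧ y = -1 then lin 1 c 1 a 1 b || lin 1 c 1 a 2 b
   else if x = -1 ∧ y = -2 then lin 1 c 1 a 1 b || lin 1 c 2 a 1 b
   else if x = 0 ∧ y = 0 then
     (if longM.testBit a && longM.testBit b then lin 2 c 1 a 1 b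
      else if shortM.testBit a && shortM.testBit b then lin 1 c 1 a 1 b else false)
   else false)

def okP (P a b : ℕ) : Bool := spanM P && (List.range 48).all fun c => !((starM P).testBit c) || shp a b c

/-- the full set `⟨c, a⟩ ≥ 0`, `⟨c, b⟩ ≥ 0` -/
def psi0 (a b : ℕ) : ℕ := Nat.land (nn a) (nn b)

/-- long roots `≥ 0`, short roots `> 0` -/
def psiL (a b : ℕ) : ℕ :=
  Nat.lor (Nat.land (Nat.land (nn a) (nn b)) longM) (Nat.land (Nat.land (pp a) (pp b)) shortM)

/-- short roots `≥ 0`, long roots `> 0` -/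
def psiS (a b : ℕ) : ℕ :=
  Nat.lor (Nat.land (Nat.land (nn a) (nn b)) shortM) (Nat.land (Nat.land (pp a) (pp b)) longM)

private noncomputable def _root_.Cfsg.Agent.LsF.f1f1b89_7 : {f // @Cfsg.Agent.KFacts.F4Star.FastF4.passF = f} := ⟨_, by first | (delta Cfsg.Agent.KFacts.F4Star.FastF4.passF; rewrite [Cfsg.Agent.LsF.map_eq, Cfsg.Agent.LsF.range_eq, Cfsg.Agent.LsF.getD_eq]; exact rfl) | exact rfl⟩
private noncomputable def _root_.Cfsg.Agent.LsF.f1f1b89_8 : {f // @Cfsg.Agent.KFacts.F4Star.FastF4.symm = f} := ⟨_, by first | (delta Cfsg.Agent.KFacts.F4Star.FastF4.symm; rewrite [Cfsg.Agent.LsF.range_eq]; exact rfl) | exact rfl⟩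
private noncomputable def _root_.Cfsg.Agent.LsF.f1f1b89_9 : {f // @Cfsg.Agent.KFacts.F4Star.FastF4.spanF = f} := ⟨_, by first | (delta Cfsg.Agent.KFacts.F4Star.FastF4.spanF; rewrite [Cfsg.Agent.LsF.f1f1b89_7.2, Cfsg.Agent.LsF.f1f1b89_8.2, Cfsg.Agent.LsF.and_eq]; exact rfl) | exact rfl⟩
private noncomputable def _root_.Cfsg.Agent.LsF.f1f1b89_10 : {f // @Cfsg.Agent.KFacts.F4Star.psi0 = f} := ⟨_, by first | (delta Cfsg.Agent.KFacts.F4Star.psi0; rewrite [Cfsg.Agent.LsF.f1f1b89_5.2]; exact rfl) | exact rfl⟩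
private noncomputable def _root_.Cfsg.Agent.LsF.f1f1b89_11 : {f // @Cfsg.Agent.KFacts.F4Star.lin = f} := ⟨_, by first | (delta Cfsg.Agent.KFacts.F4Star.lin; rewrite [Cfsg.Agent.LsF.f1f1b89_3.2, Cfsg.Agent.LsF.iadd_pat, Cfsg.Agent.LsF.imul_pat, Cfsg.Agent.LsF.icast_pat, Cfsg.Agent.LsF.all_eq, Cfsg.Agent.LsF.range_eq, Cfsg.Agent.LsF.instIDecEq_eq, Cfsg.Agent.LsF.decide_eq]; exact rfl) | exact rfl⟩
private noncomputable def _root_.Cfsg.Agent.LsF.f1f1b89_12 : {f // @Cfsg.Agent.KFacts.F4Star.full = f} := ⟨_, by first | (delta Cfsg.Agent.KFacts.F4Star.full; rewrite [Cfsg.Agent.LsF.nsub_pat, Cfsg.Agent.LsF.npow_pat]; exact rfl) | exact rfl⟩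
private noncomputable def _root_.Cfsg.Agent.LsF.f1f1b89_13 : {f // @Cfsg.Agent.KFacts.F4Star.longM = f} := ⟨_, by first | (delta Cfsg.Agent.KFacts.F4Star.longM; rewrite [Cfsg.Agent.LsF.f1f1b89_12.2]; exact rfl) | exact rfl⟩
theorem chk0 : ([33, 27, 25, 24].all fun a => (List.range 48).all fun b =>
    Nat.beq (a + b) 47 || okP (psi0 a b) a b) = true := by
  delta okP shp
  rewrite [FastF4.carB_eq', FastF4.tb_eq, FastF4.spanM_eq, FastF4.starM_eq, FastF4.lin_eq]
  ((try (rewrite [Cfsg.Agent.LsF.f1f1b89_9.2, Cfsg.Agent.LsF.f1f1b89_10.2, Cfsg.Agent.LsF.f1f1b89_5.2, Cfsg.Agent.LsF.f1f1b89_6.2, Cfsg.Agent.LsF.f1f1b89_11.2, Cfsg.Agent.LsF.f1f1b89_13.2, Cfsg.Agent.LsF.nadd_pat, Cfsg.Agent.LsF.nbeq_pat, Cfsg.Agent.LsF.ineg_pat, Cfsg.Agent.LsF.and_eq, Cfsg.Agent.LsF.or_eq, Cfsg.Agent.LsF.not_eq, Cfsg.Agent.LsF.all_eq, Cfsg.Agent.LsF.map_eq, Cfsg.Agent.LsF.range_eq, Cfsg.Agent.LsF.instIDecEq_eq, Cfsg.Agent.LsF.dAnd_eq, Cfsg.Agent.LsF.dBoolEq_eq,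 Cfsg.Agent.LsF.ite_eq])); decide +kernel)

private noncomputable def _root_.Cfsg.Agent.LsF.f1f1b89_14 : {f // @Cfsg.Agent.KFacts.F4Star.pp = f} := ⟨_, by first | (delta Cfsg.Agent.KFacts.F4Star.pp; rewrite [Cfsg.Agent.LsF.f1f1b89_12.2, Cfsg.Agent.LsF.f1f1b89_5.2, Cfsg.Agent.LsF.nsub_pat]; exact rfl) | exact rfl⟩
private noncomputable def _root_.Cfsg.Agent.LsF.f1f1b89_15 : {f // @Cfsg.Agent.KFacts.F4Star.psiL = f} := ⟨_, by first | (delta Cfsg.Agent.KFacts.F4Star.psiL; rewrite [Cfsg.Agent.LsF.f1f1b89_5.2, Cfsg.Agent.LsF.f1f1b89_13.2, Cfsg.Agent.LsF.f1f1b89_14.2]; exact rfl) | exact rfl⟩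
/-- `psiL`: not for two long roots, except orthogonal ones, and not for orthogonal roots of different length -/
theorem chkL : ([33, 27, 25, 24].all fun a => (List.range 48).all fun b =>
    Nat.beq (a + b) 47 || (longM.testBit a && longM.testBit b && !(carB chevF4 a b == 0)) ||
      ((longM.testBit a != longM.testBit b) && carB chevF4 a b == 0) || okP (psiL a b) a b) = true := by
  delta okP shp
  rewrite [FastF4.carB_eq', FastF4.tb_eq, FastF4.spanM_eq, FastF4.starM_eq, FastF4.lin_eq]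
  ((try (rewrite [Cfsg.Agent.LsF.f1f1b89_13.2, Cfsg.Agent.LsF.f1f1b89_6.2, Cfsg.Agent.LsF.f1f1b89_9.2, Cfsg.Agent.LsF.f1f1b89_15.2, Cfsg.Agent.LsF.f1f1b89_5.2, Cfsg.Agent.LsF.f1f1b89_11.2, Cfsg.Agent.LsF.nadd_pat, Cfsg.Agent.LsF.nbeq_pat, Cfsg.Agent.LsF.ineg_pat, Cfsg.Agent.LsF.ibeq_pat, Cfsg.Agent.LsF.bbne_pat, Cfsg.Agent.LsF.and_eq, Cfsg.Agent.LsF.or_eq, Cfsg.Agent.LsF.not_eq, Cfsg.Agent.LsF.all_eq, Cfsg.Agent.LsF.map_eq, Cfsg.Agent.LsF.range_eq, Cfsg.Agent.LsF.instIDecEq_eq, Cfsg.Agent.LsF.dAnd_eq, Cfsg.Agent.LsF.dBoolEq_eq, Cfsg.Agent.LsF.ite_eq])); decide +kernel)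

private noncomputable def _root_.Cfsg.Agent.LsF.f1f1b89_16 : {f // @Cfsg.Agent.KFacts.F4Star.psiS = f} := ⟨_, by first | (delta Cfsg.Agent.KFacts.F4Star.psiS; rewrite [Cfsg.Agent.LsF.f1f1b89_5.2, Cfsg.Agent.LsF.f1f1b89_14.2, Cfsg.Agent.LsF.f1f1b89_13.2]; exact rfl) | exact rfl⟩
theorem chkS : ([33, 27, 25, 24].all fun a => (List.range 48).all fun b =>
    Nat.beq (a + b) 47 || (shortM.testBit a && shortM.testBit b && !(carB chevF4 a b == 0)) ||
      ((longM.testBit a != longM.testBit b) && carB chevF4 a b == 0) || okP (psiS a b) a b) = true := by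
  delta okP shp
  rewrite [FastF4.carB_eq', FastF4.tb_eq, FastF4.spanM_eq, FastF4.starM_eq, FastF4.lin_eq]
  ((try (rewrite [Cfsg.Agent.LsF.f1f1b89_6.2, Cfsg.Agent.LsF.f1f1b89_13.2, Cfsg.Agent.LsF.f1f1b89_9.2, Cfsg.Agent.LsF.f1f1b89_16.2, Cfsg.Agent.LsF.f1f1b89_5.2, Cfsg.Agent.LsF.f1f1b89_11.2, Cfsg.Agent.LsF.nadd_pat, Cfsg.Agent.LsF.nbeq_pat, Cfsg.Agent.LsF.ineg_pat, Cfsg.Agent.LsF.ibeq_pat, Cfsg.Agent.LsF.bbne_pat, Cfsg.Agent.LsF.and_eq, Cfsg.Agent.LsF.or_eq, Cfsg.Agent.LsF.not_eq, Cfsg.Agent.LsF.all_eq, Cfsg.Agent.LsF.map_eq, Cfsg.Agent.LsF.range_eq, Cfsg.Agent.LsF.instIDecEq_eq, Cfsg.Agent.LsF.dAnd_eq, Cfsg.Agent.LsF.dBoolEq_eq, Cfsg.Agent.LsF.ite_eq])); decide +kernel)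

end Cfsg.Agent.KFacts.F4Star
end

-- part: KFacts/F4Cent
section
/-!
`F₄(q)`, `q` even: centralisers of sets of root elements (K-group facts for S1765, node D10; F4).

`cs : CoxeterSystem F₄ W`, `hC = KindF.isType.isCartan`, `eF K x t` = the root elements of `chevF4.group K`,
`XF K x` = the root groups.  Everything in vector form.
-/

set_option autoImplicit false
set_option Elab.async false

namespace Cfsg.Agent.KFacts.F4Cent

open CoxeterSystem Cfsg.Agent.ChevalleyStructure.CoxeterGeom Cfsg.Agent.Tits.Roots Cfsg.Agent.Tits.Core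
open Cfsg.Lie Cfsg.Agent.ChevalleyStructure Cfsg.Agent.ChevalleyStructure.Elts
  Cfsg.Agent.ChevalleyStructure.RootVec Cfsg.Agent.ChevalleyStructure.CoxeterGeomTypes
open Cfsg.Agent.Nodes Cfsg.Agent.Nodes.Reps Cfsg.Agent.Nodes.BNOf Cfsg.Agent.Nodes.RGDChev Cfsg.Agent.Nodes.Coroot
  Cfsg.Agent.Nodes.KindF Cfsg.Agent.KFacts.ChevTwo Cfsg.Agent.KFacts.ChevTwoTab Cfsg.Agent.KFacts.ChevTwoInst
  Cfsg.Agent.KFacts.F4Star

universe u

/-! ### Bit masks -/

theorem land_fold (P : ℕ) (L : List ℕ) : ∀ (i s : ℕ),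
    (L.foldl (fun acc r => if P.testBit r then Nat.land acc (nn r) else acc) i).testBit s = true ↔
      i.testBit s = true ∧ ∀ r ∈ L, P.testBit r = true → (nn r).testBit s = true := by
  induction L with
  | nil => intro i s; simp
  | cons a L ih =>
    intro i s
    rw [List.foldl_cons, ih]
    have e1 : ∀ x y : ℕ, Nat.land x y = x &&& y := fun _ _ => rfl
    by_cases ha : P.testBit a = true
    · rw [if_pos ha, e1, Nat.testBit_land, Bool.and_eq_true]
      constructor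
      · rintro ⟨⟨h1, h2⟩, h3⟩
        refine ⟨h1, fun r hr hp => ?_⟩
        rcases List.mem_cons.1 hr with rfl | hr
        · exact h2
        · exact h3 r hr hp
      · rintro ⟨h1, h2⟩
        exact ⟨⟨h1, h2 a List.mem_cons_self ha⟩, fun r hr => h2 r (List.mem_cons_of_mem _ hr)⟩
    · rw [if_neg ha]
      constructor
      · rintro ⟨h1, h3⟩
        refine ⟨h1, fun r hr hp => ?_⟩
        rcases List.mem_cons.1 hr with rfl | hr
        · exact absurd hp ha
        · exact h3 r hr hp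
      · rintro ⟨h1, h2⟩
        exact ⟨h1, fun r hr => h2 r (List.mem_cons_of_mem _ hr)⟩

theorem testBit_full {s : ℕ} : full.testBit s = true ↔ s < 48 := by
  unfold full
  rw [Nat.testBit_two_pow_sub_one, decide_eq_true_iff]

theorem testBit_starM {P s : ℕ} : (starM P).testBit s = true ↔
    s < 48 ∧ ∀ r < 48, P.testBit r = true → (nn r).testBit s = true := by
  unfold starM
  rw [land_fold, testBit_full]
  simp only [List.mem_range]

theorem nroots : chevF4.nroots = 48 := simples_ok.2.2.2.2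

/-- the root with index `r` -/
abbrev v (r : ℕ) : Fin 4 → ℤ := vec chevF4 4 r

theorem neg_ok : ((List.range 48).all fun r => Nat.beq (chevF4.neg r) (47 - r)) = true := by decide +kernel

theorem v_neg {r : ℕ} (hr : r < 48) : v (47 - r) = -v r := by
  have h1 := List.all_eq_true.1 neg_ok r (List.mem_range.2 hr)
  rw [← Nat.eq_of_beq_eq_true h1]
  exact vec_neg isType (by rw [nroots]; exact hr)

theorem v_inj {r s : ℕ} (hr : r < 48) (hs : s < 48) (h : v r = v s) : r = s :=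
  vec_inj isType (by rw [nroots]; exact hr) (by rw [nroots]; exact hs) h

section W

variable {W : Type*} [Group W] (cs : CoxeterSystem CoxeterMatrix.F₄ W)

theorem isRoot_v {r : ℕ} (hr : r < 48) : IsRoot cs isType.isCartan (v r) :=
  isRoot_vec isType cs (by rw [nroots]; exact hr)

theorem exists_v {x : Fin 4 → ℤ} (hx : IsRoot cs isType.isCartan x) : ∃ r < 48, v r = x := by
  obtain ⟨r, hr, e⟩ := (isRoot_iff isType cs x).1 hx
  exact ⟨r, by rw [nroots] at hr; exact hr, e⟩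

theorem cpr_v {r s : ℕ} (hr : r < 48) (hs : s < 48) :
    cpr cs isType.isCartan (v s) (v r) = carB chevF4 r s := by
  rw [carB_eq]
  exact cpr_vec isType cs (by rw [nroots]; exact hr) s (by rw [nroots]; exact hs)

theorem testBit_nn {r s : ℕ} (hr : r < 48) (hs : s < 48) :
    (nn r).testBit s = true ↔ 0 ≤ cpr cs isType.isCartan (v s) (v r) := by
  have h1 := List.all_eq_true.1 (List.all_eq_true.1 masks_ok r (List.mem_range.2 hr)) s (List.mem_range.2 hs)
  rw [beq_iff_eq.1 h1, decide_eq_true_iff, cpr_v cs hr hs]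

/-- the set of roots of a mask -/
def SetOf (P : ℕ) : Set (Fin 4 → ℤ) := {x | ∃ r < 48, P.testBit r = true ∧ v r = x}

theorem mem_SetOf {P : ℕ} {r : ℕ} (hr : r < 48) : v r ∈ SetOf P ↔ P.testBit r = true := by
  constructor
  · rintro ⟨s, hs, h1, h2⟩
    rw [← v_inj hs hr h2]; exact h1
  · intro h; exact ⟨r, hr, h, rfl⟩

theorem isRoot_of_mem_SetOf {P : ℕ} {x : Fin 4 → ℤ} (hx : x ∈ SetOf P) : IsRoot cs isType.isCartan x := by
  obtain ⟨r, hr, -, rfl⟩ := hx
  exact isRoot_v cs hr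

theorem star_SetOf (P : ℕ) : star cs isType.isCartan (SetOf P) = SetOf (starM P) := by
  ext x
  constructor
  · rintro ⟨hx, h1⟩
    obtain ⟨s, hs, rfl⟩ := exists_v cs hx
    rw [mem_SetOf hs, testBit_starM]
    exact ⟨hs, fun r hr hP => (testBit_nn cs hr hs).2 (h1 _ ⟨r, hr, hP, rfl⟩)⟩
  · rintro ⟨s, hs, h1, rfl⟩
    rw [testBit_starM] at h1
    refine ⟨isRoot_v cs hs, ?_⟩
    rintro _ ⟨r, hr, hP, rfl⟩
    exact (testBit_nn cs hr hs).1 (h1.2 r hr hP)

end W

/-! ### Spanning -/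

section Span

variable {K : Type u} [Field K] [CharP K 2] (χ : (Fin 4 → ℤ) →+ Additive Kˣ)

theorem two_torsion {a : Additive Kˣ} (ha : a + a = 0) : a = 0 := by
  have h1 : (Additive.toMul a) * (Additive.toMul a) = 1 := ha
  have h2 : ((Additive.toMul a : Kˣ) : K) * ((Additive.toMul a : Kˣ) : K) = 1 := by
    rw [← Units.val_mul, h1, Units.val_one]
  have h3 : (((Additive.toMul a : Kˣ) : K) - 1) ^ 2 = 0 := by
    have h4 : (2 : K) = 0 := CharTwo.two_eq_zero
    linear_combination h2 - (((Additive.toMul a : Kˣ) : K) - 1) * h4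
  have h4 : ((Additive.toMul a : Kˣ) : K) = 1 := sub_eq_zero.1 (pow_eq_zero_iff (two_ne_zero)|>.1 h3)
  have h5 : (Additive.toMul a : Kˣ) = 1 := Units.ext h4
  exact Additive.toMul.injective h5

/-- `χ` is trivial on the mask -/
def Tr (S : ℕ) : Prop := ∀ r < 48, S.testBit r = true → χ (v r) = 0

theorem tr_sb {S : ℕ} (hS : Tr χ S) {r : ℕ} (hr : r < 48) (h : sb S r = true) : χ (v r) = 0 := by
  unfold sb at h
  rw [Bool.or_eq_true] at h
  rcases h with h | h
  · exact hS r hr h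
  · have h1 := hS (47 - r) (by omega) h
    rw [v_neg hr, map_neg, neg_eq_zero] at h1
    exact h1

theorem v_eq {k m n : ℤ} {a b c : ℕ}
    (h : ∀ i < 4, k * rt chevF4 c i = m * rt chevF4 a i + n * rt chevF4 b i) :
    k • v c = m • v a + n • v b := by
  funext i
  rw [Pi.add_apply, Pi.smul_apply, Pi.smul_apply, Pi.smul_apply]
  exact h i i.2

include χ in
theorem dec_ok {c : ℕ} (hc : c < 48) {q : ℕ × ℕ} (hq : q ∈ decs.getD c []) :
    q.1 < 48 ∧ q.2 < 48 ∧ (χ (v q.1) = 0 → χ (v q.2) = 0 → χ (v c) = 0) := by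
  have h1 := List.all_eq_true.1 (List.all_eq_true.1 decs_ok c (List.mem_range.2 hc)) q hq
  rw [Bool.and_eq_true, Bool.and_eq_true, Bool.or_eq_true] at h1
  obtain ⟨⟨h2, h3⟩, h4⟩ := h1
  have b1 : ∀ n : ℕ, Nat.blt n 48 = true → n < 48 := fun n hn => by
    rw [Nat.blt_eq] at hn; exact hn
  refine ⟨b1 _ h2, b1 _ h3, fun e1 e2 => ?_⟩
  rcases h4 with h4 | h4
  · have h5 : (1 : ℤ) • v c = (1 : ℤ) • v q.1 + (1 : ℤ) • v q.2 := by
      refine v_eq fun i hi => ?_
      have := of_decide_eq_true (List.all_eq_true.1 h4 i (List.mem_range.2 hi))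
      rw [one_mul, one_mul, one_mul, this]
    rw [one_smul, one_smul, one_smul] at h5
    rw [h5, map_add, e1, e2, add_zero]
  · have h5 : (2 : ℤ) • v c = (1 : ℤ) • v q.1 + (1 : ℤ) • v q.2 := by
      refine v_eq fun i hi => ?_
      have := of_decide_eq_true (List.all_eq_true.1 h4 i (List.mem_range.2 hi))
      rw [one_mul, one_mul, this]
    rw [one_smul, one_smul, two_smul] at h5
    apply two_torsion
    rw [← map_add, h5, map_add, e1, e2, add_zero]

theorem tr_pass {S : ℕ} (hS : Tr χ S) : Tr χ (pass S) := by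
  have key : ∀ (L : List ℕ), (∀ c ∈ L, c < 48) → ∀ i, Tr χ i → Tr χ (L.foldl (fun acc c =>
      if (decs.getD c []).any fun q => sb acc q.1 && sb acc q.2 then Nat.lor acc (2 ^ c) else acc) i) := by
    intro L
    induction L with
    | nil => intro _ i hi; exact hi
    | cons c L ih =>
      intro hL i hi
      rw [List.foldl_cons]
      refine ih (fun d hd => hL d (List.mem_cons_of_mem _ hd)) _ ?_
      split_ifs with h1
      · obtain ⟨q, hq, hq'⟩ := List.any_eq_true.1 h1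
        rw [Bool.and_eq_true] at hq'
        have hc := hL c List.mem_cons_self
        obtain ⟨h2, h3, h4⟩ := dec_ok χ hc hq
        have h5 := h4 (tr_sb χ hi h2 hq'.1) (tr_sb χ hi h3 hq'.2)
        intro r hr hr'
        have e1 : ∀ x y : ℕ, Nat.lor x y = x ||| y := fun _ _ => rfl
        rw [e1, Nat.testBit_lor, Bool.or_eq_true] at hr'
        rcases hr' with h6 | h6
        · exact hi r hr h6
        · rw [Nat.testBit_two_pow, decide_eq_true_iff] at h6
          rw [← h6]; exact h5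
      · exact hi
  exact key _ (fun c hc => List.mem_range.1 hc) S hS

theorem v_simple (i : Fin 4) : v (chevF4.simple i) = sr i := vec_simple isType i

theorem spanM_sound {P : ℕ} (hP : spanM P = true) (hχ : Tr χ P) : χ = 0 := by
  have h1 := tr_pass χ (tr_pass χ (tr_pass χ hχ))
  unfold spanM at hP
  rw [Bool.and_eq_true, Bool.and_eq_true, Bool.and_eq_true] at hP
  obtain ⟨⟨⟨a0, a1⟩, a2⟩, a3⟩ := hP
  have hsr : ∀ i : Fin 4, χ (sr i) = 0 := by
    intro i
    obtain ⟨s0, s1, s2, s3, -⟩ := simples_ok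
    fin_cases i
    · have := tr_sb χ h1 (by norm_num) a0
      rwa [← s0, show v (chevF4.simple 0) = sr 0 from v_simple 0] at this
    · have := tr_sb χ h1 (by norm_num) a1
      rwa [← s1, show v (chevF4.simple 1) = sr 1 from v_simple 1] at this
    · have := tr_sb χ h1 (by norm_num) a2
      rwa [← s2, show v (chevF4.simple 2) = sr 2 from v_simple 2] at this
    · have := tr_sb χ h1 (by norm_num) a3
      rwa [← s3, show v (chevF4.simple 3) = sr 3 from v_simple 3] at this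
  refine AddMonoidHom.ext fun x => ?_
  rw [RgdPar.eq_sum_sr x, map_sum, AddMonoidHom.zero_apply]
  refine Finset.sum_eq_zero fun i _ => ?_
  rw [map_zsmul, hsr i, smul_zero]

end Span

/-! ### Length -/

theorem long_ok : ((List.range 48).all fun r => longM.testBit r == (List.range 48).all fun s =>
    Nat.beq s r || Nat.beq (s + r) 47 || decide (carB chevF4 r s ≤ 1)) = true := by
  rewrite [FastF4.carB_eq']
  ((try (rewrite [Cfsg.Agent.LsF.f1f1b89_13.2, Cfsg.Agent.LsF.f1f1b89_6.2, Cfsg.Agent.LsF.nadd_pat, Cfsg.Agent.LsF.bbeq_pat, Cfsg.Agent.LsF.and_eq, Cfsg.Agent.LsF.or_eq, Cfsg.Agent.LsF.testBit_eq, Cfsg.Agent.LsF.all_eq, Cfsg.Agent.LsF.range_eq, Cfsg.Agent.LsF.idecLe_eq, Cfsg.Agent.LsF.decide_eq])); decide +kernel)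

theorem short_ok : ((List.range 48).all fun r => shortM.testBit r == !longM.testBit r) = true := by decide +kernel

theorem pp_ok : ((List.range 48).all fun r => (List.range 48).all fun s =>
    (pp r).testBit s == decide (1 ≤ carB chevF4 r s)) = true := by
  rewrite [FastF4.carB_eq', FastF4.tb_eq]
  ((try (rewrite [Cfsg.Agent.LsF.f1f1b89_14.2, Cfsg.Agent.LsF.f1f1b89_6.2, Cfsg.Agent.LsF.bbeq_pat, Cfsg.Agent.LsF.and_eq, Cfsg.Agent.LsF.all_eq, Cfsg.Agent.LsF.range_eq, Cfsg.Agent.LsF.idecLe_eq, Cfsg.Agent.LsF.decide_eq])); decide +kernel)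

section Length

variable {W : Type*} [Group W] (cs : CoxeterSystem CoxeterMatrix.F₄ W)

/-- long roots: `⟨y, x^∨⟩ ≤ 1` for all `y ≠ ± x` -/
def Lg (x : Fin 4 → ℤ) : Prop :=
  IsRoot cs isType.isCartan x ∧ ∀ y, IsRoot cs isType.isCartan y → y ≠ x → y ≠ -x → cpr cs isType.isCartan y x ≤ 1

/-- short roots -/
def Sh (x : Fin 4 → ℤ) : Prop := IsRoot cs isType.isCartan x ∧ ¬ Lg cs x

theorem testBit_long {r : ℕ} (hr : r < 48) : longM.testBit r = true ↔ Lg cs (v r) := by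
  have h1 := beq_iff_eq.1 (List.all_eq_true.1 long_ok r (List.mem_range.2 hr))
  rw [h1, List.all_eq_true]
  constructor
  · intro h2
    refine ⟨isRoot_v cs hr, fun y hy h3 h4 => ?_⟩
    obtain ⟨s, hs, rfl⟩ := exists_v cs hy
    have h5 := h2 s (List.mem_range.2 hs)
    rw [Bool.or_eq_true, Bool.or_eq_true, decide_eq_true_iff] at h5
    rcases h5 with (h5 | h5) | h5
    · exact absurd (by rw [Nat.eq_of_beq_eq_true h5]) h3
    · have h6 : s = 47 - r := by have := Nat.eq_of_beq_eq_true h5; omega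
      exact absurd (by rw [h6, v_neg hr]) h4
    · rw [cpr_v cs hr hs]; exact h5
  · rintro ⟨-, h2⟩ s hs
    rw [List.mem_range] at hs
    rw [Bool.or_eq_true, Bool.or_eq_true, decide_eq_true_iff]
    by_cases h3 : s = r
    · left; left; rw [h3]; exact Nat.beq_refl r
    by_cases h4 : s = 47 - r
    · left; right
      have : s + r = 47 := by omega
      rw [this]; rfl
    · right
      rw [← cpr_v cs hr hs]
      refine h2 _ (isRoot_v cs hs) (fun h => h3 (v_inj hs hr h)) (fun h => h4 ?_)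
      rw [← v_neg hr] at h
      exact v_inj hs (by omega) h

theorem testBit_short {r : ℕ} (hr : r < 48) : shortM.testBit r = true ↔ Sh cs (v r) := by
  have h1 := beq_iff_eq.1 (List.all_eq_true.1 short_ok r (List.mem_range.2 hr))
  unfold Sh
  rw [← testBit_long cs hr, h1, Bool.not_eq_true', Bool.not_eq_true]
  exact ⟨fun h => ⟨isRoot_v cs hr, h⟩, fun h => h.2⟩

theorem testBit_pp {r s : ℕ} (hr : r < 48) (hs : s < 48) :
    (pp r).testBit s = true ↔ 1 ≤ cpr cs isType.isCartan (v s) (v r) := by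
  have h1 := List.all_eq_true.1 (List.all_eq_true.1 pp_ok r (List.mem_range.2 hr)) s (List.mem_range.2 hs)
  rw [beq_iff_eq.1 h1, decide_eq_true_iff, cpr_v cs hr hs]

theorem Lg.act [Finite W] {x : Fin 4 → ℤ} (hx : Lg cs x) (w : W) : Lg cs (rep cs isType.isCartan w x) := by
  refine ⟨hx.1.act w, fun y hy h1 h2 => ?_⟩
  have e1 : y = rep cs isType.isCartan w (rep cs isType.isCartan w⁻¹ y) := (rep_apply_inv _ _ _ _).symm
  rw [e1, cpr_rep cs _ w _ hx.1]
  refine hx.2 _ (hy.act _) (fun h => h1 ?_) (fun h => h2 ?_)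
  · rw [e1, h]
  · rw [e1, h, map_neg]

theorem lg_rep_iff [Finite W] {x : Fin 4 → ℤ} (w : W) : Lg cs (rep cs isType.isCartan w x) ↔ Lg cs x := by
  refine ⟨fun h => ?_, fun h => h.act cs w⟩
  have := h.act cs w⁻¹
  rwa [rep_inv_apply] at this

theorem isRoot_rep_iff {x : Fin 4 → ℤ} (w : W) :
    IsRoot cs isType.isCartan (rep cs isType.isCartan w x) ↔ IsRoot cs isType.isCartan x := by
  refine ⟨fun h => ?_, fun h => h.act w⟩
  have := h.act w⁻¹
  rwa [rep_inv_apply] at this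

theorem sh_rep_iff [Finite W] {x : Fin 4 → ℤ} (w : W) : Sh cs (rep cs isType.isCartan w x) ↔ Sh cs x := by
  unfold Sh
  rw [lg_rep_iff, isRoot_rep_iff]

/-- the sets of roots: `L ≤ ⟨c,a⟩, ⟨c,b⟩` for `c` long, `S ≤ ⟨c,a⟩, ⟨c,b⟩` for `c` short -/
def Psi (L S : ℤ) (a b : Fin 4 → ℤ) : Set (Fin 4 → ℤ) :=
  {c | IsRoot cs isType.isCartan c ∧
    (Lg cs c → L ≤ cpr cs isType.isCartan c a ∧ L ≤ cpr cs isType.isCartan c b) ∧
    (Sh cs c → S ≤ cpr cs isType.isCartan c a ∧ S ≤ cpr cs isType.isCartan c b)}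

/-- the roots of the form `(i a + j b) / k` which the centralisers can contain -/
def Cone (a b : Fin 4 → ℤ) : Set (Fin 4 → ℤ) :=
  {c | IsRoot cs isType.isCartan c ∧ (c = a ∨ c = b ∨
    (cpr cs isType.isCartan a b = -1 ∧ cpr cs isType.isCartan b a = -1 ∧ c = a + b) ∨
    (cpr cs isType.isCartan a b = -2 ∧ cpr cs isType.isCartan b a = -1 ∧ (c = a + b ∨ c = a + (2 : ℤ) • b)) ∨
    (cpr cs isType.isCartan a b = -1 ∧ cpr cs isType.isCartan b a = -2 ∧ (c = a + b ∨ c = (2 : ℤ) • a + b)) ∨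
    (cpr cs isType.isCartan a b = 0 ∧ Lg cs a ∧ Lg cs b ∧ (2 : ℤ) • c = a + b) ∨
    (cpr cs isType.isCartan a b = 0 ∧ Sh cs a ∧ Sh cs b ∧ c = a + b))}

theorem rep_mem_psi [Finite W] {L S : ℤ} {a b c : Fin 4 → ℤ} (ha : IsRoot cs isType.isCartan a)
    (hb : IsRoot cs isType.isCartan b) (w : W) :
    rep cs isType.isCartan w c ∈ Psi cs L S (rep cs isType.isCartan w a) (rep cs isType.isCartan w b) ↔
      c ∈ Psi cs L S a b := by
  unfold Psi
  rw [Set.mem_ofPred_eq, Set.mem_ofPred_eq, isRoot_rep_iff, lg_rep_iff, sh_rep_iff, cpr_rep cs _ w _ ha,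
    cpr_rep cs _ w _ hb]

theorem rep_inj_iff {x y : Fin 4 → ℤ} (w : W) :
    rep cs isType.isCartan w x = rep cs isType.isCartan w y ↔ x = y := by
  refine ⟨fun h => ?_, fun h => by rw [h]⟩
  have := congrArg (rep cs isType.isCartan w⁻¹) h
  rwa [rep_inv_apply, rep_inv_apply] at this

theorem rep_mem_cone [Finite W] {a b c : Fin 4 → ℤ} (ha : IsRoot cs isType.isCartan a)
    (hb : IsRoot cs isType.isCartan b) (w : W) :
    rep cs isType.isCartan w c ∈ Cone cs (rep cs isType.isCartan w a) (rep cs isType.isCartan w b) ↔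
      c ∈ Cone cs a b := by
  unfold Cone
  rw [Set.mem_ofPred_eq, Set.mem_ofPred_eq, isRoot_rep_iff, lg_rep_iff, lg_rep_iff, sh_rep_iff, sh_rep_iff,
    cpr_rep cs _ w _ ha, cpr_rep cs _ w _ hb, ← map_smul, ← map_smul, ← map_smul, ← map_add, ← map_add, ← map_add,
    rep_inj_iff, rep_inj_iff, rep_inj_iff, rep_inj_iff, rep_inj_iff, rep_inj_iff]

theorem SetOf_psi0 {a b : ℕ} (ha : a < 48) (hb : b < 48) : SetOf (psi0 a b) = Psi cs 0 0 (v a) (v b) := by
  ext x
  constructor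
  · rintro ⟨c, hc, h1, rfl⟩
    have e1 : psi0 a b = nn a &&& nn b := rfl
    rw [e1, Nat.testBit_land, Bool.and_eq_true, testBit_nn cs ha hc, testBit_nn cs hb hc] at h1
    exact ⟨isRoot_v cs hc, fun _ => h1, fun _ => h1⟩
  · rintro ⟨hx, h1, h2⟩
    obtain ⟨c, hc, rfl⟩ := exists_v cs hx
    rw [mem_SetOf hc]
    have e1 : psi0 a b = nn a &&& nn b := rfl
    rw [e1, Nat.testBit_land, Bool.and_eq_true, testBit_nn cs ha hc, testBit_nn cs hb hc]
    by_cases hl : Lg cs (v c)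
    · exact h1 hl
    · exact h2 ⟨hx, hl⟩

theorem SetOf_psiL {a b : ℕ} (ha : a < 48) (hb : b < 48) : SetOf (psiL a b) = Psi cs 0 1 (v a) (v b) := by
  have e1 : psiL a b = ((nn a &&& nn b) &&& longM) ||| ((pp a &&& pp b) &&& shortM) := rfl
  have key : ∀ c, c < 48 → ((psiL a b).testBit c = true ↔ ((0 ≤ cpr cs isType.isCartan (v c) (v a) ∧
      0 ≤ cpr cs isType.isCartan (v c) (v b)) ∧ Lg cs (v c)) ∨ ((1 ≤ cpr cs isType.isCartan (v c) (v a) ∧
      1 ≤ cpr cs isType.isCartan (v c) (v b)) ∧ Sh cs (v c))) := by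
    intro c hc
    rw [e1, Nat.testBit_lor, Nat.testBit_land, Nat.testBit_land, Nat.testBit_land, Nat.testBit_land,
      Bool.or_eq_true, Bool.and_eq_true, Bool.and_eq_true, Bool.and_eq_true, Bool.and_eq_true,
      testBit_nn cs ha hc, testBit_nn cs hb hc, testBit_pp cs ha hc, testBit_pp cs hb hc, testBit_long cs hc,
      testBit_short cs hc]
  ext x
  constructor
  · rintro ⟨c, hc, h1, rfl⟩
    rw [key c hc] at h1
    refine ⟨isRoot_v cs hc, fun hl => ?_, fun hs => ?_⟩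
    · rcases h1 with h1 | h1
      · exact h1.1
      · exact absurd hl h1.2.2
    · rcases h1 with h1 | h1
      · exact absurd h1.2 hs.2
      · exact h1.1
  · rintro ⟨hx, h1, h2⟩
    obtain ⟨c, hc, rfl⟩ := exists_v cs hx
    rw [mem_SetOf hc, key c hc]
    by_cases hl : Lg cs (v c)
    · exact Or.inl ⟨h1 hl, hl⟩
    · exact Or.inr ⟨h2 ⟨hx, hl⟩, hx, hl⟩

theorem SetOf_psiS {a b : ℕ} (ha : a < 48) (hb : b < 48) : SetOf (psiS a b) = Psi cs 1 0 (v a) (v b) := by
  have e1 : psiS a b = ((nn a &&& nn b) &&& shortM) ||| ((pp a &&& pp b) &&& longM) := rfl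
  have key : ∀ c, c < 48 → ((psiS a b).testBit c = true ↔ ((0 ≤ cpr cs isType.isCartan (v c) (v a) ∧
      0 ≤ cpr cs isType.isCartan (v c) (v b)) ∧ Sh cs (v c)) ∨ ((1 ≤ cpr cs isType.isCartan (v c) (v a) ∧
      1 ≤ cpr cs isType.isCartan (v c) (v b)) ∧ Lg cs (v c))) := by
    intro c hc
    rw [e1, Nat.testBit_lor, Nat.testBit_land, Nat.testBit_land, Nat.testBit_land, Nat.testBit_land,
      Bool.or_eq_true, Bool.and_eq_true, Bool.and_eq_true, Bool.and_eq_true, Bool.and_eq_true,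
      testBit_nn cs ha hc, testBit_nn cs hb hc, testBit_pp cs ha hc, testBit_pp cs hb hc, testBit_long cs hc,
      testBit_short cs hc]
  ext x
  constructor
  · rintro ⟨c, hc, h1, rfl⟩
    rw [key c hc] at h1
    refine ⟨isRoot_v cs hc, fun hl => ?_, fun hs => ?_⟩
    · rcases h1 with h1 | h1
      · exact absurd hl h1.2.2
      · exact h1.1
    · rcases h1 with h1 | h1
      · exact h1.1
      · exact absurd h1.2 hs.2
  · rintro ⟨hx, h1, h2⟩
    obtain ⟨c, hc, rfl⟩ := exists_v cs hx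
    rw [mem_SetOf hc, key c hc]
    by_cases hl : Lg cs (v c)
    · exact Or.inr ⟨h1 hl, hl⟩
    · exact Or.inl ⟨h2 ⟨hx, hl⟩, hx, hl⟩

theorem lin_sound {k c m a n b : ℕ} (h : lin k c m a n b = true) :
    (k : ℤ) • v c = (m : ℤ) • v a + (n : ℤ) • v b := by
  refine v_eq fun i hi => ?_
  exact of_decide_eq_true (List.all_eq_true.1 h i (List.mem_range.2 hi))

theorem shp_sound {a b c : ℕ} (ha : a < 48) (hb : b < 48) (hc : c < 48) (h : shp a b c = true) :
    v c ∈ Cone cs (v a) (v b) := by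
  refine ⟨isRoot_v cs hc, ?_⟩
  unfold shp at h
  simp only [Bool.or_eq_true, beq_iff_eq] at h
  rw [← cpr_v cs hb ha, ← cpr_v cs ha hb] at h
  rcases h with (h | h) | h
  · left; rw [h]
  · right; left; rw [h]
  right; right
  split_ifs at h with h1 h2 h3 h4 h5 h6
  · have h7 := lin_sound h
    rw [Nat.cast_one, one_smul, one_smul, one_smul] at h7
    exact Or.inl ⟨h1.1, h1.2, h7⟩
  · refine Or.inr (Or.inl ⟨h2.1, h2.2, ?_⟩)
    rw [Bool.or_eq_true] at h
    rcases h with h | h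
    · have h7 := lin_sound h
      rw [Nat.cast_one, one_smul, one_smul, one_smul] at h7
      exact Or.inl h7
    · have h7 := lin_sound h
      rw [Nat.cast_one, Nat.cast_ofNat, one_smul, one_smul] at h7
      exact Or.inr h7
  · refine Or.inr (Or.inr (Or.inl ⟨h3.1, h3.2, ?_⟩))
    rw [Bool.or_eq_true] at h
    rcases h with h | h
    · have h7 := lin_sound h
      rw [Nat.cast_one, one_smul, one_smul, one_smul] at h7
      exact Or.inl h7
    · have h7 := lin_sound h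
      rw [Nat.cast_one, Nat.cast_ofNat, one_smul, one_smul] at h7
      exact Or.inr h7
  · refine Or.inr (Or.inr (Or.inr (Or.inl ⟨h4.1, ?_⟩)))
    rw [Bool.and_eq_true, testBit_long cs ha, testBit_long cs hb] at h5
    have h7 := lin_sound h
    rw [Nat.cast_one, Nat.cast_ofNat, one_smul, one_smul] at h7
    exact ⟨h5.1, h5.2, h7⟩
  · refine Or.inr (Or.inr (Or.inr (Or.inr ⟨h4.1, ?_⟩)))
    rw [Bool.and_eq_true, testBit_short cs ha, testBit_short cs hb] at h6
    have h7 := lin_sound h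
    rw [Nat.cast_one, one_smul, one_smul, one_smul] at h7
    exact ⟨h6.1, h6.2, h7⟩

theorem okP_sound {P a b : ℕ} (ha : a < 48) (hb : b < 48) (h : okP P a b = true) :
    spanM P = true ∧ SetOf (starM P) ⊆ Cone cs (v a) (v b) := by
  unfold okP at h
  rw [Bool.and_eq_true] at h
  refine ⟨h.1, ?_⟩
  rintro _ ⟨c, hc, h1, rfl⟩
  have h2 := List.all_eq_true.1 h.2 c (List.mem_range.2 hc)
  rw [h1, Bool.not_true, Bool.false_or] at h2
  exact shp_sound cs ha hb hc h2

end Length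

end Cfsg.Agent.KFacts.F4Cent
end

-- part: KFacts/F4Pair
section
/-!
`F₄(q)`, `q` even: centralisers of pairs of root groups (K-group facts for S1765, node D10; F4).

`K` a finite field of characteristic two, `XF K x` the root groups of `chevF4.group K`, `eg isType K x t` the root
elements; `Cm g Ψ` : `g` commutes with SOME nontrivial element of `XF K c` for every `c ∈ Ψ`.

* `cent_P`    : `Cm g {c : 0 ≤ ⟨c,a⟩}` implies `g ∈ X_a`;
* `cent_Q`    : `Cm g {c : 0 < ⟨c,a⟩}` implies `g ∈ ⟨X_a, X_c : c of the other length, 0 < ⟨c,a⟩⟩`;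
* `cent_pair` : `Cm g {c : 0 ≤ ⟨c,a⟩, 0 ≤ ⟨c,b⟩}` implies `g ∈ ⟨X_c : c ∈ Cone a b⟩`;
* `cent_pairL`, `cent_pairS` : the same with smaller sets.
-/

set_option autoImplicit false
set_option Elab.async false

namespace Cfsg.Agent.KFacts.F4Pair

open CoxeterSystem Cfsg.Agent.ChevalleyStructure.CoxeterGeom Cfsg.Agent.Tits.Roots Cfsg.Agent.Tits.Core
open Cfsg.Lie Cfsg.Agent.ChevalleyStructure Cfsg.Agent.ChevalleyStructure.Elts
  Cfsg.Agent.ChevalleyStructure.RootVec Cfsg.Agent.ChevalleyStructure.CoxeterGeomTypes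
open Cfsg.Agent.Nodes Cfsg.Agent.Nodes.Reps Cfsg.Agent.Nodes.BNOf Cfsg.Agent.Nodes.RGDChev Cfsg.Agent.Nodes.Coroot
  Cfsg.Agent.Nodes.KindF Cfsg.Agent.KFacts.ChevTwo Cfsg.Agent.KFacts.ChevTwoTab Cfsg.Agent.KFacts.ChevTwoInst
  Cfsg.Agent.KFacts.F4Star Cfsg.Agent.KFacts.F4Cent

universe u

/-- the root groups of `F₄(K)` -/
abbrev XF (K : Type u) [Field K] (x : Fin 4 → ℤ) : Subgroup ↥(chevF4.group K) :=
  (XV chevF4 4 K x).subgroupOf (chevF4.group K)

/-- the root elements of `F₄(K)` -/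
noncomputable abbrev eF (K : Type u) [Field K] (x : Fin 4 → ℤ) (t : K) : ↥(chevF4.group K) := eg isType K x t

variable {K : Type u} [Field K] [Finite K] [CharP K 2] {W : Type*} [Group W]
  (cs : CoxeterSystem CoxeterMatrix.F₄ W)

/-- `g` commutes with a nontrivial element of every root group of `Ψ` -/
def Cm (g : ↥(chevF4.group K)) (Ψ : Set (Fin 4 → ℤ)) : Prop := ∀ c ∈ Ψ, ∃ z ∈ XF K c, z ≠ 1 ∧ g * z = z * g

theorem sysF : Sys (rgd (K := K) isType cs 2) (eF K) := sys isType twoOK_F4 cs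

theorem cent_mask {P : ℕ} (hP : spanM P = true) {g : ↥(chevF4.group K)} (hz : Cm g (SetOf P)) :
    g ∈ RGD.Sup (XF K) (SetOf (starM P)) := by
  have hW : Finite CoxeterMatrix.F₄.Group := finite_W isType CoxeterMatrix.F₄.toCoxeterSystem
  rw [← star_SetOf CoxeterMatrix.F₄.toCoxeterSystem]
  refine (sysF (K := K) CoxeterMatrix.F₄.toCoxeterSystem).mem_sup (fun a ha => isRoot_of_mem_SetOf _ ha) ?_
    (G1_eq_top isType _) (S1077.center_group_eq_bot isType.inList) hz
  intro χ hχ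
  exact spanM_sound χ hP fun r hr hr' => hχ _ ⟨r, hr, hr', rfl⟩

theorem mem_XF_iff {x : Fin 4 → ℤ} (hx : IsRoot cs isType.isCartan x) {g : ↥(chevF4.group K)} :
    g ∈ XF K x ↔ ∃ t, eF K x t = g := by
  have hW : Finite W := finite_W isType cs
  exact (sysF (K := K) cs).mem_X x hx g

theorem exists_rep (w : W) : ∃ m : ↥(chevF4.group K), ∀ x, IsRoot cs isType.isCartan x → ∀ t,
    m * eF K x t * m⁻¹ = eF K (rep cs isType.isCartan w x) t := by
  have hW : Finite W := finite_W isType cs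
  exact (sysF (K := K) cs).data.exists_rep' w

section transport

variable {w : W} {m : ↥(chevF4.group K)}
  (hm : ∀ x, IsRoot cs isType.isCartan x → ∀ t, m * eF K x t * m⁻¹ = eF K (rep cs isType.isCartan w x) t)

include hm

theorem conj_XF {x : Fin 4 → ℤ} (hx : IsRoot cs isType.isCartan x) {g : ↥(chevF4.group K)} (hg : g ∈ XF K x) :
    m * g * m⁻¹ ∈ XF K (rep cs isType.isCartan w x) := by
  obtain ⟨t, rfl⟩ := (mem_XF_iff cs hx).1 hg
  exact (mem_XF_iff cs (hx.act w)).2 ⟨t, (hm x hx t).symm⟩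

theorem conj_XF' {x : Fin 4 → ℤ} (hx : IsRoot cs isType.isCartan x) {g : ↥(chevF4.group K)}
    (hg : g ∈ XF K (rep cs isType.isCartan w x)) : m⁻¹ * g * m ∈ XF K x := by
  obtain ⟨t, rfl⟩ := (mem_XF_iff cs (hx.act w)).1 hg
  refine (mem_XF_iff cs hx).2 ⟨t, ?_⟩
  rw [← hm x hx t]; group

theorem conj_Sup {S S' : Set (Fin 4 → ℤ)} (hS : ∀ x ∈ S, IsRoot cs isType.isCartan x ∧ rep cs isType.isCartan w x ∈ S')
    {g : ↥(chevF4.group K)} (hg : g ∈ RGD.Sup (XF K) S) : m * g * m⁻¹ ∈ RGD.Sup (XF K) S' := by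
  have h1 : RGD.Sup (XF K) S ≤ (RGD.Sup (XF K) S').comap (MulAut.conj m).toMonoidHom := by
    refine RGD.Sup_le fun x hx z hz => ?_
    show m * z * m⁻¹ ∈ RGD.Sup (XF K) S'
    exact RGD.le_Sup (hS x hx).2 (conj_XF cs hm (hS x hx).1 hz)
  exact h1 hg

end transport

/-- Transport of centraliser statements by the Weyl group. -/
theorem transport [Finite W] {Q C : (Fin 4 → ℤ) → (Fin 4 → ℤ) → Set (Fin 4 → ℤ)}
    {P : (Fin 4 → ℤ) → (Fin 4 → ℤ) → Prop}
    (hP : ∀ (w : W) a b, IsRoot cs isType.isCartan a → IsRoot cs isType.isCartan b →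
      P (rep cs isType.isCartan w a) (rep cs isType.isCartan w b) → P a b)
    (hQ : ∀ (w : W) a b c, IsRoot cs isType.isCartan a → IsRoot cs isType.isCartan b → c ∈ Q a b →
      IsRoot cs isType.isCartan c ∧
      rep cs isType.isCartan w c ∈ Q (rep cs isType.isCartan w a) (rep cs isType.isCartan w b))
    (hC : ∀ (w : W) a b c, IsRoot cs isType.isCartan a → IsRoot cs isType.isCartan b → c ∈ C a b →
      IsRoot cs isType.isCartan c ∧
      rep cs isType.isCartan w c ∈ C (rep cs isType.isCartan w a) (rep cs isType.isCartan w b))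
    (base : ∀ (i : Fin 4) b, IsRoot cs isType.isCartan b → P (sr i) b → ∀ g : ↥(chevF4.group K),
      Cm g (Q (sr i) b) → g ∈ RGD.Sup (XF K) (C (sr i) b))
    {a b : Fin 4 → ℤ} (ha : IsRoot cs isType.isCartan a) (hb : IsRoot cs isType.isCartan b) (hab : P a b)
    {g : ↥(chevF4.group K)} (hg : Cm g (Q a b)) : g ∈ RGD.Sup (XF K) (C a b) := by
  obtain ⟨w, i, rfl⟩ := ha
  obtain ⟨m, hm⟩ := exists_rep (K := K) cs w
  obtain ⟨b', rfl⟩ : ∃ b', rep cs isType.isCartan w b' = b := ⟨_, rep_apply_inv _ _ _ _⟩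
  rw [isRoot_rep_iff] at hb
  have hsr := isRoot_sr cs isType.isCartan i
  have h1 : m⁻¹ * g * m ∈ RGD.Sup (XF K) (C (sr i) b') := by
    refine base i b' hb (hP w _ _ hsr hb hab) _ ?_
    intro c hc
    obtain ⟨hcr, h2⟩ := hQ w _ _ c hsr hb hc
    obtain ⟨z, hz, hz1, hz2⟩ := hg _ h2
    refine ⟨m⁻¹ * z * m, conj_XF' cs hm hcr hz, ?_, ?_⟩
    · intro h3
      apply hz1
      have : z = m * (m⁻¹ * z * m) * m⁻¹ := by group
      rw [this, h3, mul_one, mul_inv_cancel]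
    · calc m⁻¹ * g * m * (m⁻¹ * z * m) = m⁻¹ * (g * z) * m := by group
        _ = m⁻¹ * z * m * (m⁻¹ * g * m) := by rw [hz2]; group
  have h2 := conj_Sup cs hm (fun c hc => hC w _ _ c hsr hb hc) h1
  have h3 : m * (m⁻¹ * g * m) * m⁻¹ = g := by group
  rwa [h3] at h2

/-- The index form of a check gives the vector form. -/
theorem base_of_check {P : ℕ} {a b : ℕ} (ha : a < 48) (hb : b < 48) (h : okP P a b = true)
    {Q : Set (Fin 4 → ℤ)} (hQ : SetOf P = Q) {g : ↥(chevF4.group K)} (hg : Cm g Q) :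
    g ∈ RGD.Sup (XF K) (Cone cs (v a) (v b)) := by
  obtain ⟨h1, h2⟩ := okP_sound cs ha hb h
  rw [← hQ] at hg
  exact RGD.Sup_mono h2 (cent_mask h1 hg)

theorem simple_mem (i : Fin 4) : ∃ a < 48, a ∈ [33, 27, 25, 24] ∧ v a = sr i := by
  obtain ⟨s0, s1, s2, s3, -⟩ := simples_ok
  fin_cases i
  · exact ⟨33, by norm_num, by simp, by rw [← s0]; exact v_simple 0⟩
  · exact ⟨27, by norm_num, by simp, by rw [← s1]; exact v_simple 1⟩
  · exact ⟨25, by norm_num, by simp, by rw [← s2]; exact v_simple 2⟩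
  · exact ⟨24, by norm_num, by simp, by rw [← s3]; exact v_simple 3⟩

theorem eq_neg_of_add {a b : ℕ} (ha : a < 48) (h : Nat.beq (a + b) 47 = true) : v b = -v a := by
  have h1 := Nat.eq_of_beq_eq_true h
  rw [← v_neg ha]
  congr 1
  omega

/-- **(C3)** -/
theorem cent_pair {a b : Fin 4 → ℤ} (ha : IsRoot cs isType.isCartan a) (hb : IsRoot cs isType.isCartan b)
    (hab : b ≠ -a) {g : ↥(chevF4.group K)} (hg : Cm g (Psi cs 0 0 a b)) :
    g ∈ RGD.Sup (XF K) (Cone cs a b) := by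
  have hW : Finite W := finite_W isType cs
  refine transport cs (P := fun a b => b ≠ -a) (Q := Psi cs 0 0) (C := Cone cs) ?_ ?_ ?_ ?_ ha hb hab hg
  · intro w a b _ _ h1 h2
    apply h1
    rw [h2, map_neg]
  · intro w a b c ha hb hc
    exact ⟨hc.1, (rep_mem_psi cs ha hb w).2 hc⟩
  · intro w a b c ha hb hc
    exact ⟨hc.1, (rep_mem_cone cs ha hb w).2 hc⟩
  · intro i b hb hP g hg
    obtain ⟨a, ha, ha', ha''⟩ := simple_mem i
    obtain ⟨r, hr, rfl⟩ := exists_v cs hb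
    rw [← ha''] at hP hg ⊢
    have h1 := List.all_eq_true.1 (List.all_eq_true.1 chk0 a ha') r (List.mem_range.2 hr)
    rw [Bool.or_eq_true] at h1
    rcases h1 with h1 | h1
    · exact absurd (eq_neg_of_add ha h1) hP
    · exact base_of_check cs ha hr h1 (SetOf_psi0 cs ha hr) hg

theorem testBit_long_false {r : ℕ} (hr : r < 48) : longM.testBit r = false ↔ Sh cs (v r) := by
  rw [← Bool.not_eq_true, testBit_long cs hr]
  exact ⟨fun h => ⟨isRoot_v cs hr, h⟩, fun h => h.2⟩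

theorem lg_or_sh {x : Fin 4 → ℤ} (hx : IsRoot cs isType.isCartan x) : Lg cs x ∨ Sh cs x := by
  by_cases h : Lg cs x
  · exact Or.inl h
  · exact Or.inr ⟨hx, h⟩

/-- **(C4)**, the set `long ≥ 0`, `short > 0`; not for non orthogonal long roots, not for orthogonal roots of different
lengths. -/
theorem cent_pairL {a b : Fin 4 → ℤ} (ha : IsRoot cs isType.isCartan a) (hb : IsRoot cs isType.isCartan b)
    (hab : b ≠ -a) (h1 : Lg cs a → Lg cs b → cpr cs isType.isCartan b a = 0)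
    (h2 : (Lg cs a ↔ Sh cs b) → cpr cs isType.isCartan b a ≠ 0)
    {g : ↥(chevF4.group K)} (hg : Cm g (Psi cs 0 1 a b)) :
    g ∈ RGD.Sup (XF K) (Cone cs a b) := by
  have hW : Finite W := finite_W isType cs
  refine transport cs (P := fun a b => b ≠ -a ∧ (Lg cs a → Lg cs b → cpr cs isType.isCartan b a = 0) ∧
    ((Lg cs a ↔ Sh cs b) → cpr cs isType.isCartan b a ≠ 0)) (Q := Psi cs 0 1) (C := Cone cs) ?_ ?_ ?_ ?_ ha hb
    ⟨hab, h1, h2⟩ hg
  · intro w a b ha hb h1
    rw [lg_rep_iff, lg_rep_iff, sh_rep_iff, cpr_rep cs _ w _ ha] at h1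
    refine ⟨fun h2 => h1.1 (by rw [h2, map_neg]), h1.2⟩
  · intro w a b c ha hb hc
    exact ⟨hc.1, (rep_mem_psi cs ha hb w).2 hc⟩
  · intro w a b c ha hb hc
    exact ⟨hc.1, (rep_mem_cone cs ha hb w).2 hc⟩
  · intro i b hb hP g hg
    obtain ⟨a, ha, ha', ha''⟩ := simple_mem i
    obtain ⟨r, hr, rfl⟩ := exists_v cs hb
    rw [← ha''] at hP hg ⊢
    have h1 := List.all_eq_true.1 (List.all_eq_true.1 chkL a ha') r (List.mem_range.2 hr)
    rw [Bool.or_eq_true, Bool.or_eq_true, Bool.or_eq_true, Bool.and_eq_true, Bool.and_eq_true,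
      Bool.and_eq_true, Bool.not_eq_true', beq_iff_eq, beq_eq_false_iff_ne, bne_iff_ne, ← cpr_v cs ha hr] at h1
    rcases h1 with ((h1 | h1) | h1) | h1
    · exact absurd (eq_neg_of_add ha h1) hP.1
    · rw [testBit_long cs ha, testBit_long cs hr] at h1
      exact absurd (hP.2.1 h1.1.1 h1.1.2) h1.2
    · exfalso
      refine hP.2.2 ?_ h1.2
      rw [← testBit_long cs ha, ← testBit_long_false cs hr]
      have := h1.1
      revert this
      generalize longM.testBit a = A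
      generalize longM.testBit r = B
      revert A B
      decide
    · exact base_of_check cs ha hr h1 (SetOf_psiL cs ha hr) hg

/-- **(C4)**, the set `short ≥ 0`, `long > 0`; not for non orthogonal short roots, not for orthogonal roots of different
lengths. -/
theorem cent_pairS {a b : Fin 4 → ℤ} (ha : IsRoot cs isType.isCartan a) (hb : IsRoot cs isType.isCartan b)
    (hab : b ≠ -a) (h1 : Sh cs a → Sh cs b → cpr cs isType.isCartan b a = 0)
    (h2 : (Lg cs a ↔ Sh cs b) → cpr cs isType.isCartan b a ≠ 0)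
    {g : ↥(chevF4.group K)} (hg : Cm g (Psi cs 1 0 a b)) :
    g ∈ RGD.Sup (XF K) (Cone cs a b) := by
  have hW : Finite W := finite_W isType cs
  refine transport cs (P := fun a b => b ≠ -a ∧ (Sh cs a → Sh cs b → cpr cs isType.isCartan b a = 0) ∧
    ((Lg cs a ↔ Sh cs b) → cpr cs isType.isCartan b a ≠ 0)) (Q := Psi cs 1 0) (C := Cone cs) ?_ ?_ ?_ ?_ ha hb
    ⟨hab, h1, h2⟩ hg
  · intro w a b ha hb h1
    rw [lg_rep_iff, sh_rep_iff, sh_rep_iff, cpr_rep cs _ w _ ha] at h1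
    refine ⟨fun h2 => h1.1 (by rw [h2, map_neg]), h1.2⟩
  · intro w a b c ha hb hc
    exact ⟨hc.1, (rep_mem_psi cs ha hb w).2 hc⟩
  · intro w a b c ha hb hc
    exact ⟨hc.1, (rep_mem_cone cs ha hb w).2 hc⟩
  · intro i b hb hP g hg
    obtain ⟨a, ha, ha', ha''⟩ := simple_mem i
    obtain ⟨r, hr, rfl⟩ := exists_v cs hb
    rw [← ha''] at hP hg ⊢
    have h1 := List.all_eq_true.1 (List.all_eq_true.1 chkS a ha') r (List.mem_range.2 hr)
    rw [Bool.or_eq_true, Bool.or_eq_true, Bool.or_eq_true, Bool.and_eq_true, Bool.and_eq_true,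
      Bool.and_eq_true, Bool.not_eq_true', beq_iff_eq, beq_eq_false_iff_ne, bne_iff_ne, ← cpr_v cs ha hr] at h1
    rcases h1 with ((h1 | h1) | h1) | h1
    · exact absurd (eq_neg_of_add ha h1) hP.1
    · rw [testBit_short cs ha, testBit_short cs hr] at h1
      exact absurd (hP.2.1 h1.1.1 h1.1.2) h1.2
    · exfalso
      refine hP.2.2 ?_ h1.2
      rw [← testBit_long cs ha, ← testBit_long_false cs hr]
      have := h1.1
      revert this
      generalize longM.testBit a = A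
      generalize longM.testBit r = B
      revert A B
      decide
    · exact base_of_check cs ha hr h1 (SetOf_psiS cs ha hr) hg

/-! ### Single roots -/

theorem cone_self {a : Fin 4 → ℤ} (ha : IsRoot cs isType.isCartan a) : Cone cs a a ⊆ {a} := by
  have hW : Finite W := finite_W isType cs
  rintro c ⟨-, hc⟩
  rw [cpr_self cs _ ha] at hc
  rw [Set.mem_singleton_iff]
  rcases hc with h | h | h | h | h | h | h
  · exact h
  · exact h
  all_goals exact absurd h.1 (by norm_num)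

/-- **(C1)** `C_K(P_a) = X_a` (elementwise) -/
theorem cent_P {a : Fin 4 → ℤ} (ha : IsRoot cs isType.isCartan a) {g : ↥(chevF4.group K)}
    (hg : Cm g {c | IsRoot cs isType.isCartan c ∧ 0 ≤ cpr cs isType.isCartan c a}) : g ∈ XF K a := by
  have hW : Finite W := finite_W isType cs
  have h1 : a ≠ -a := by
    intro h
    have := cpr_neg cs isType.isCartan a ha
    rw [← h, cpr_self cs _ ha] at this
    omega
  have h2 := cent_pair cs ha ha h1 (g := g) fun c hc => hg c (by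
    refine ⟨hc.1, ?_⟩
    by_cases hl : Lg cs c
    · exact (hc.2.1 hl).1
    · exact (hc.2.2 ⟨hc.1, hl⟩).1)
  have h3 : RGD.Sup (XF K) (Cone cs a a) ≤ XF K a := RGD.Sup_le fun z hz => by
    rw [Set.mem_singleton_iff.1 (cone_self cs ha hz)]
  exact h3 h2

theorem ppChk : ([33, 27, 25, 24].all fun a => spanM (pp a) && (List.range 48).all fun c =>
    !((starM (pp a)).testBit c) || Nat.beq c a || ((longM.testBit c != longM.testBit a) && (pp a).testBit c)) = true := by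
  rewrite [FastF4.spanM_eq, FastF4.starM_eq]
  decide +kernel

/-- the roots of the seven-dimensional module of `P_a` -/
def V7 (a : Fin 4 → ℤ) : Set (Fin 4 → ℤ) :=
  {c | IsRoot cs isType.isCartan c ∧ (c = a ∨ ((Lg cs c ↔ Sh cs a) ∧ 1 ≤ cpr cs isType.isCartan c a))}

/-- **(C2)** `C_K(Q_a) = Z(Q_a)` (elementwise) -/
theorem cent_Q {a : Fin 4 → ℤ} (ha : IsRoot cs isType.isCartan a) {g : ↥(chevF4.group K)}
    (hg : Cm g {c | IsRoot cs isType.isCartan c ∧ 1 ≤ cpr cs isType.isCartan c a}) :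
    g ∈ RGD.Sup (XF K) (V7 cs a) := by
  have hW : Finite W := finite_W isType cs
  refine transport cs (P := fun _ _ => True)
    (Q := fun a _ => {c | IsRoot cs isType.isCartan c ∧ 1 ≤ cpr cs isType.isCartan c a})
    (C := fun a _ => V7 cs a) (fun _ _ _ _ _ _ => trivial) ?_ ?_ ?_ ha ha trivial hg
  · intro w a b c ha hb hc
    refine ⟨hc.1, hc.1.act w, ?_⟩
    rw [cpr_rep cs _ w _ ha]; exact hc.2
  · rintro w a b c ha hb ⟨hc, hc'⟩
    refine ⟨hc, hc.act w, ?_⟩
    rw [lg_rep_iff, sh_rep_iff, cpr_rep cs _ w _ ha, rep_inj_iff]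
    exact hc'
  · intro i b hb _ g hg
    obtain ⟨a, ha, ha', ha''⟩ := simple_mem i
    rw [← ha''] at hg ⊢
    have h1 := List.all_eq_true.1 ppChk a ha'
    rw [Bool.and_eq_true] at h1
    have h2 : SetOf (pp a) = {c | IsRoot cs isType.isCartan c ∧ 1 ≤ cpr cs isType.isCartan c (v a)} := by
      ext x
      constructor
      · rintro ⟨c, hc, h2, rfl⟩
        exact ⟨isRoot_v cs hc, (testBit_pp cs ha hc).1 h2⟩
      · rintro ⟨hx, h2⟩
        obtain ⟨c, hc, rfl⟩ := exists_v cs hx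
        exact ⟨c, hc, (testBit_pp cs ha hc).2 h2, rfl⟩
    have h3 := cent_mask (K := K) h1.1 (g := g) (by rw [h2]; exact hg)
    refine RGD.Sup_mono ?_ h3
    rintro _ ⟨c, hc, h4, rfl⟩
    have h5 := List.all_eq_true.1 h1.2 c (List.mem_range.2 hc)
    rw [h4, Bool.not_true, Bool.false_or, Bool.or_eq_true, Bool.and_eq_true, testBit_pp cs ha hc] at h5
    refine ⟨isRoot_v cs hc, ?_⟩
    rcases h5 with h5 | ⟨h5, h6⟩
    · left; rw [Nat.eq_of_beq_eq_true h5]
    · right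
      refine ⟨?_, h6⟩
      rw [← testBit_long cs hc, ← testBit_long_false cs ha]
      revert h5
      generalize longM.testBit a = A
      generalize longM.testBit c = B
      revert A B
      decide

end Cfsg.Agent.KFacts.F4Pair
end
end

-- part: KFacts/RgdGraphF4
section
set_option linter.all false
open scoped Cfsg.Agent.FastGrp

/-!
# `K = F₄(q)`, `q` even: the outer part of a 2-group

* `hconn_F4`, `hsw_F4` : the diagram is connected; its symmetries are `1` and the one interchanging the middle nodes;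
* `gen_F4` : `S = f(U) C_S(K) ⟨g⟩` for a 2-group `S` normalising `K = f(F₄(q))` and `f(U)`;
* `gen_B2` : the same for `Sp₄(q)`.
-/

set_option autoImplicit false
set_option linter.unusedSectionVars false

namespace Cfsg.Agent.KFacts.RgdGraphF4

open CoxeterSystem Cfsg.Agent.ChevalleyStructure.CoxeterGeom Cfsg.Agent.Tits.Roots Cfsg.Agent.Tits.Core
open Cfsg.Lie Cfsg.Agent.ChevalleyStructure Cfsg.Agent.ChevalleyStructure.Elts
  Cfsg.Agent.ChevalleyStructure.RootVec Cfsg.Agent.ChevalleyStructure.CoxeterGeomTypes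
open Cfsg.Agent.Nodes Cfsg.Agent.Nodes.Reps Cfsg.Agent.Nodes.BNOf Cfsg.Agent.Nodes.RGDChev Cfsg.Agent.Nodes.Coroot
  Cfsg.Agent.KFacts.ChevTwo Cfsg.Agent.KFacts.ChevTwoTab Cfsg.Agent.KFacts.ChevTwoInst
  Cfsg.Agent.KFacts.RgdOpp Cfsg.Agent.KFacts.RgdAut Cfsg.Agent.KFacts.RgdDiag Cfsg.Agent.KFacts.RgdRigid
  Cfsg.Agent.KFacts.RgdField Cfsg.Agent.KFacts.RgdTau Cfsg.Agent.KFacts.RgdOver Cfsg.Agent.KFacts.RgdSys
  Cfsg.Agent.KFacts.RgdGraph Cfsg.Agent.Nodes.KindF

universe u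

theorem hconn_F4 : ∀ J : Set (Fin 4), J.Nonempty → J ≠ Set.univ → ∃ a ∈ J, ∃ b, b ∉ J ∧ CoxeterMatrix.F₄ a b ≠ 2 := by
  have h := SLRow.Def.conn_of_parent (M := CoxeterMatrix.F₄) (fun i => (i : ℕ)) ![0, 0, 1, 2] (by decide) (by decide)
    (by decide)
  intro J hJ hJ1
  obtain ⟨i, hi, j, hj, hij⟩ := h J hJ (Set.nonempty_compl.2 hJ1)
  exact ⟨i, hi, j, hj, hij⟩

/-- The Coxeter matrix of type `F₄` as a function. -/
def mF4 (a b : Fin 4) : ℕ := CoxeterMatrix.F₄ a b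

/-- The symmetries of the diagram `F₄`. -/
theorem hsw_F4 (σ : Equiv.Perm (Fin 4)) (hσ : ∀ i j, CoxeterMatrix.F₄ (σ i) (σ j) = CoxeterMatrix.F₄ i j) :
    σ = 1 ∨ (σ 1 = 2 ∧ σ 2 = 1) := by
  have key : ∀ a b c d : Fin 4, mF4 a b = 3 → mF4 b c = 4 → mF4 c d = 3 →
      (a = 0 ∧ b = 1 ∧ c = 2 ∧ d = 3) ∨ (a = 3 ∧ b = 2 ∧ c = 1 ∧ d = 0) := by decide +kernel
  have h01 : mF4 (σ 0) (σ 1) = 3 := (hσ 0 1).trans (show mF4 0 1 = 3 by decide +kernel)
  have h12 : mF4 (σ 1) (σ 2) = 4 := (hσ 1 2).trans (show mF4 1 2 = 4 by decide +kernel)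
  have h23 : mF4 (σ 2) (σ 3) = 3 := (hσ 2 3).trans (show mF4 2 3 = 3 by decide +kernel)
  rcases key _ _ _ _ h01 h12 h23 with ⟨h0, h1, h2, h3⟩ | ⟨h0, h1, h2, h3⟩
  · left
    ext i
    fin_cases i
    · exact congrArg Fin.val h0
    · exact congrArg Fin.val h1
    · exact congrArg Fin.val h2
    · exact congrArg Fin.val h3
  · exact Or.inr ⟨h1, h2⟩

theorem hsw_F4' (σ : Equiv.Perm (Fin 4)) (hσ : ∀ i j, CoxeterMatrix.F₄ (σ i) (σ j) = CoxeterMatrix.F₄ i j) :
    σ = 1 ∨ σ = Fin.revPerm := by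
  rcases hsw_F4 σ hσ with h | ⟨h1, h2⟩
  · exact Or.inl h
  · right
    have key : ∀ a d : Fin 4, mF4 a 2 = 3 → mF4 1 d = 3 → a = 3 ∧ d = 0 := by decide +kernel
    have h01 : mF4 (σ 0) (σ 1) = 3 := (hσ 0 1).trans (show mF4 0 1 = 3 by decide +kernel)
    have h23 : mF4 (σ 2) (σ 3) = 3 := (hσ 2 3).trans (show mF4 2 3 = 3 by decide +kernel)
    rw [h1] at h01
    rw [h2] at h23
    obtain ⟨h0, h3⟩ := key _ _ h01 h23
    ext i
    fin_cases i
    · exact congrArg Fin.val h0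
    · exact congrArg Fin.val h1
    · exact congrArg Fin.val h2
    · exact congrArg Fin.val h3

theorem cartan_12 : cartanOf chevF4 4 1 2 = -2 := by decide +kernel

theorem cartan_21 : cartanOf chevF4 4 2 1 = -1 := by decide +kernel

variable {K : Type u} [Field K] [Finite K] [CharP K 2] {W : Type*} [Group W]
  (cs : CoxeterSystem CoxeterMatrix.F₄ W)

/-- **The outer part of a 2-group** `S ≤ N_G(K)`, `K = f(F₄(q))`, normalising `f(U)`: `S = f(U) C_S(K) ⟨g⟩`. -/
theorem gen_F4 {G : Type*} [Group G] [Finite G] (f : ↥(chevF4.group K) →* G) (hf : Function.Injective f)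
    {S : Subgroup G} (hSp : IsPGroup 2 ↥S) (hSK : S ≤ Subgroup.normalizer (f.range : Set G))
    (hSU : S ≤ Subgroup.normalizer (((RGD.Sup (F4Pair.XF K) (RGD.Pos cs isType.isCartan)).map f : Subgroup G) : Set G))
    (hUS : (RGD.Sup (F4Pair.XF K) (RGD.Pos cs isType.isCartan)).map f ≤ S) :
    ∃ g ∈ S, ∃ β ∈ Frame cs isType.isCartan (F4Pair.XF K), (∀ y, f (β y) = g * f y * g⁻¹) ∧
      (∃ k : ℕ, β ^ 2 ^ k = 1) ∧
      ∀ s ∈ S, ∃ m : ℤ, ∃ u ∈ RGD.Sup (F4Pair.XF K) (RGD.Pos cs isType.isCartan), ∃ c ∈ S,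
        (∀ y, c * f y = f y * c) ∧ s = f u * c * g ^ m := by
  have hW : Finite W := finite_W isType cs
  have : Fact (Nat.Prime 2) := ⟨Nat.prime_two⟩
  exact exists_gen_graph (rgd (K := K) isType cs 2) (G1_eq_top isType cs) (RgdChevCoord.coords isType cs 2)
    (RgdChevCoord.coroots isType cs 2) hconn_F4 (a := 1) (b := 2) (by decide) cartan_21 cartan_12 hsw_F4 f hf hSp
    hSK hSU hUS

/-! ### `Sp₄(q)` -/

end Cfsg.Agent.KFacts.RgdGraphF4
end
end
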