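import Cfsg.Agent.KFacts.LargeE
import Cfsg.Agent.KFacts.OutQ
set_option linter.all false

/-!
# No outer automorphism of order 2 modulo inner (helper105, after helper902's Co₂ sheet)

`NoOut2 X`: an automorphism of `X` whose square is inner is inner.

`noOut2_of_large`: let `Large Q z` hold in the finite group `K`, `C_K(z) / Q ≅ L` simple non-abelian with `NoOut2 L`,
`C_K(z)` irreducible on `Q / ⟨z⟩` and `K = ⟨C_K(z), n₀⟩` with `z ≠ z ^ n₀ ∈ Q`. Then `NoOut2 K`.
-/

set_option autoImplicit false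

namespace Cfsg.Agent.KFacts.OutTwo

open Cfsg.Agent.Co2Type.Quad Cfsg.Agent.LargeExtra.Base
open scoped commutatorElement

/-- An automorphism whose square is inner is inner. -/
def NoOut2 (X : Type*) [Group X] : Prop :=
  ∀ α : MulAut X, α * α ∈ (MulAut.conj : X →* MulAut X).range → α ∈ (MulAut.conj : X →* MulAut X).range

theorem NoOut2.of_equiv {X Y : Type*} [Group X] [Group Y] (e : X ≃* Y) (h : NoOut2 X) : NoOut2 Y := by
  intro α hα
  obtain ⟨k, hk⟩ := hα
  obtain ⟨l, hl⟩ := h ((e.trans α).trans e.symm) ⟨e.symm k, by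
    ext x
    have h1 : k * e x * k⁻¹ = α (α (e x)) := by
      have := congrArg (fun f : MulAut Y => f (e x)) hk
      simpa using this
    show e.symm k * x * (e.symm k)⁻¹ = e.symm (α (e (e.symm (α (e x)))))
    rw [e.apply_symm_apply, ← h1]
    simp⟩
  refine ⟨e l, ?_⟩
  ext y
  have h1 : l * e.symm y * l⁻¹ = e.symm (α (e (e.symm y))) := by
    have := congrArg (fun f : MulAut X => f (e.symm y)) hl
    simpa using this
  rw [e.apply_symm_apply] at h1
  have h2 := congrArg e h1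
  simpa using h2

/-- A 2-power order operator on a non-zero elementary abelian 2-group has a fixed vector. -/
theorem exists_fixed {V : Type*} [AddCommGroup V] (h2 : ∀ v : V, v + v = 0) (hV : ∃ v : V, v ≠ 0) (a : ℕ) :
    ∀ T : V →+ V, (∀ v, T^[2 ^ a] v = v) → ∃ v : V, v ≠ 0 ∧ T v = v := by
  induction a with
  | zero =>
    intro T hT
    obtain ⟨v, hv⟩ := hV
    exact ⟨v, hv, by simpa using hT v⟩
  | succ a ih =>
    intro T hT
    obtain ⟨v, hv, hTv⟩ := ih (T.comp T) (by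
      intro v
      have h3 : (⇑(T.comp T))^[2 ^ a] v = T^[2 ^ (a + 1)] v := by
        rw [pow_succ', Function.iterate_mul]
        rfl
      rw [h3, hT])
    have hTv' : T (T v) = v := hTv
    by_cases hw : v + T v = 0
    · refine ⟨v, hv, ?_⟩
      have h3 := h2 v
      rw [← h3] at hw
      exact add_left_cancel hw
    · refine ⟨v + T v, hw, ?_⟩
      rw [map_add, hTv', add_comm]

variable {K : Type*} [Group K] {Q : Subgroup K} {z : K}

/-- A perfect group has no subgroup of index 2. -/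
theorem index_ne_two {C : Type*} [Group C] (h : commutator C = ⊤) (N : Subgroup C) : N.index ≠ 2 := by
  intro hN
  have hn : N.Normal := Subgroup.normal_of_index_eq_two hN
  have hcard : Nat.card (C ⧸ N) = 2 := hN
  have hcyc : IsCyclic (C ⧸ N) := by
    have : Fact (Nat.Prime 2) := ⟨Nat.prime_two⟩
    exact isCyclic_of_prime_card hcard
  have hle : commutator C ≤ N := by
    rw [commutator_def, Subgroup.commutator_le]
    intro x _ y _
    rw [← QuotientGroup.eq_one_iff (N := N)]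
    show QuotientGroup.mk' N ⁅x, y⁆ = 1
    rw [map_commutatorElement, commutatorElement_eq_one_iff_mul_comm]
    exact (IsCyclic.isMulCommutative (α := C ⧸ N)).is_comm.comm _ _
  rw [h, top_le_iff] at hle
  rw [hle, Subgroup.index_top] at hN
  exact absurd hN (by decide)

/-- Automorphisms `δ` of 2-power order fixing `z` and `Q` and acting trivially on `C_K(z) / Q` are inner. -/
theorem inner_of_trivial [Finite K] (h : Large Q z)
    (hperf : commutator (Subgroup.centralizer ({z} : Set K)) = ⊤)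
    (hirr : ∀ N : Subgroup K, N ≤ Q → (∀ g : K, g * z = z * g → ∀ n ∈ N, g * n * g⁻¹ ∈ N) →
      (∀ n ∈ N, n = 1 ∨ n = z) ∨ N = Q)
    {n₀ : K} (hin : n₀ * z * n₀⁻¹ ∈ Q) (hne : n₀ * z * n₀⁻¹ ≠ z)
    (hgen : Subgroup.closure ({c : K | c * z = z * c} ∪ {n₀}) = ⊤)
    (δ : MulAut K) (hz : δ z = z) (hQ : ∀ q ∈ Q, δ q ∈ Q)
    (htriv : ∀ c : K, c * z = z * c → c⁻¹ * δ c ∈ Q) (a : ℕ) (ha : δ ^ 2 ^ a = 1) :
    δ ∈ (MulAut.conj : K →* MulAut K).range := by
  set y := n₀ * z * n₀⁻¹ with hy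
  have hy1 : y ≠ 1 := by
    intro h1
    apply h.z_ne
    calc z = n₀⁻¹ * y * n₀ := by rw [hy]; group
      _ = 1 := by rw [h1]; group
  -- the operator on `V`
  let σ : Q →* Q := (δ.toMonoidHom.comp Q.subtype).codRestrict Q fun q => hQ q q.2
  have hσ : ∀ q : Q, ((σ q : Q) : K) = δ q := fun q => rfl
  have hσc : Subgroup.center Q ≤ (Subgroup.center Q).comap σ := by
    intro x hx
    rw [Subgroup.mem_comap, h.mem_center, hσ]
    rcases h.mem_center.1 hx with h1 | h1
    · left; rw [h1, map_one]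
    · right; rw [h1, hz]
  let T : h.V →+ h.V := MonoidHom.toAdditive (QuotientGroup.map (Subgroup.center Q) (Subgroup.center Q) σ hσc)
  have hT : ∀ x : Q, T (h.pr x) = h.pr (σ x) := fun x => rfl
  have hTn : ∀ (n : ℕ) (x : Q), ∃ x' : Q, (x' : K) = (δ ^ n) x ∧ T^[n] (h.pr x) = h.pr x' := by
    intro n
    induction n with
    | zero => intro x; exact ⟨x, by simp, rfl⟩
    | succ n ih =>
      intro x
      obtain ⟨x', h1, h2⟩ := ih x
      refine ⟨σ x', ?_, ?_⟩
      · rw [hσ, h1, pow_succ']; rfl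
      · rw [Function.iterate_succ_apply', h2, hT]
  obtain ⟨v, hv, hTv⟩ := exists_fixed h.add_self ⟨h.pr ⟨y, hin⟩, by
    rw [Ne, h.pr_eq_zero]
    rintro (h1 | h1)
    · exact hy1 h1
    · exact hne h1⟩ a T (by
    intro v
    obtain ⟨x, rfl⟩ := h.pr_surjective v
    obtain ⟨x', h1, h2⟩ := hTn (2 ^ a) x
    rw [h2]
    rw [ha] at h1
    have : x' = x := Subtype.ext h1
    rw [this])
  obtain ⟨x, rfl⟩ := h.pr_surjective v
  rw [hT, h.pr_eq_pr, hσ] at hTv
  rw [Ne, h.pr_eq_zero] at hv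
  -- the fixed points of `δ` modulo `⟨z⟩`
  let N : Subgroup K :=
    { carrier := {q | q ∈ Q ∧ (δ q = q ∨ δ q = q * z)}
      one_mem' := ⟨Q.one_mem, Or.inl (map_one δ)⟩
      mul_mem' := by
        rintro p q ⟨hp, hp'⟩ ⟨hq, hq'⟩
        refine ⟨Q.mul_mem hp hq, ?_⟩
        rw [map_mul]
        have hqz := h.comm_z q hq
        rcases hp' with h1 | h1 <;> rcases hq' with h2 | h2 <;> rw [h1, h2]
        · left; rfl
        · right; rw [mul_assoc]
        · right
          rw [mul_assoc, ← hqz, mul_assoc]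
        · left
          calc p * z * (q * z) = p * (z * q) * z := by group
            _ = p * q * (z * z) := by rw [← hqz]; group
            _ = p * q := by rw [h.z_sq, mul_one]
      inv_mem' := by
        rintro q ⟨hq, hq'⟩
        refine ⟨Q.inv_mem hq, ?_⟩
        rw [map_inv]
        rcases hq' with h1 | h1 <;> rw [h1]
        · left; rfl
        · right
          rw [h.comm_z q hq, mul_inv_rev, h.z_inv] }
  have hNQ : N ≤ Q := fun q hq => hq.1
  have hN : N = Q := by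
    refine (hirr N hNQ ?_).resolve_left fun hcon => hv (hcon x ⟨x.2, hTv⟩)
    rintro g hg n ⟨hn, hn'⟩
    refine ⟨h.conj_mem g hg n hn, ?_⟩
    obtain ⟨u, hu, hgu⟩ : ∃ u ∈ Q, δ g = g * u := ⟨_, htriv g hg, by group⟩
    have hgz : g * (n * z) * g⁻¹ = g * n * g⁻¹ * z := by
      calc g * (n * z) * g⁻¹ = g * n * (z * g⁻¹) := by group
        _ = g * n * g⁻¹ * (g * z) * g⁻¹ := by group
        _ = g * n * g⁻¹ * (z * g) * g⁻¹ := by rw [hg]
        _ = g * n * g⁻¹ * z := by group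
    have h1 : u * n * u⁻¹ = n ∨ u * n * u⁻¹ = n * z := by
      rcases h.comm u hu n hn with h1 | h1
      · left; rw [h1]; group
      · right
        rw [h1]
        have h2 := h.comm_z u hu
        calc n * u * z * u⁻¹ = n * (u * z) * u⁻¹ := by group
          _ = n * (z * u) * u⁻¹ := by rw [h2]
          _ = n * z := by group
    have hzz : n * z * z = n := by rw [mul_assoc, h.z_sq, mul_one]
    have huz : u * (n * z) * u⁻¹ = u * n * u⁻¹ * z := by
      have h2 := h.comm_z u hu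
      calc u * (n * z) * u⁻¹ = u * n * u⁻¹ * (u * z) * u⁻¹ := by group
        _ = u * n * u⁻¹ * (z * u) * u⁻¹ := by rw [h2]
        _ = u * n * u⁻¹ * z := by group
    have h2 : u * δ n * u⁻¹ = n ∨ u * δ n * u⁻¹ = n * z := by
      rcases hn' with h3 | h3
      · rw [h3]; exact h1
      · rw [h3, huz]
        rcases h1 with h4 | h4
        · right; rw [h4]
        · left; rw [h4, hzz]
    have h3 : δ (g * n * g⁻¹) = g * (u * δ n * u⁻¹) * g⁻¹ := by
      rw [map_mul, map_mul, map_inv, hgu]; group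
    rw [h3]
    rcases h2 with h4 | h4
    · left; rw [h4]
    · right; rw [h4, hgz]
  have hmod : ∀ q ∈ Q, δ q = 1 * q * 1⁻¹ ∨ δ q = 1 * q * 1⁻¹ * z := by
    intro q hq
    have h1 : q ∈ N := by rw [hN]; exact hq
    simpa using h1.2
  have hcard : Nat.card Q ≠ 2 := by
    intro h2
    have h3 : Nat.card h.V = 1 := by
      have := h.card_eq
      omega
    have := (Nat.card_eq_one_iff_unique.1 h3).1
    apply hv
    rw [← h.pr_eq_zero]
    exact Subsingleton.elim _ _
  obtain ⟨w, hw, hw'⟩ := OutQ.exists_conj_mul h.z_ne h.z_sq Q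
    (Cfsg.Agent.LargeExtra.Nine.ToCent.isExtraspecial_Q h hcard) h.z_mem h.comm_z h.conj_mem
    (fun c hc => LargeE.cent_eq h (hc z h.z_mem) hc) (index_ne_two hperf) δ hz (c₀ := 1)
    (by rw [one_mul, mul_one]) hmod
  have h1 : ∀ c : K, c * z = z * c → ((MulAut.conj (1 * w))⁻¹ * δ) c = c := by
    intro c hc
    rw [OutQ.conj_inv_mul_apply, hw' c hc]; group
  rcases LargeE.eq_one_or_conj h hin hne hgen _ h1 with h2 | h2
  · exact ⟨1 * w, inv_mul_eq_one.1 h2⟩
  · refine ⟨1 * w * z, ?_⟩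
    rw [inv_mul_eq_iff_eq_mul] at h2
    rw [h2, ← map_mul]

/-- A simple non-abelian finite group is not a 2-group. -/
theorem not_isPGroup {L : Type*} [Group L] [Finite L] [IsSimpleGroup L] (hL : ∃ a b : L, a * b ≠ b * a) :
    ¬ IsPGroup 2 L := by
  intro hp
  have : Fact (Nat.Prime 2) := ⟨Nat.prime_two⟩
  have h1 : Nontrivial (Subgroup.center L) := hp.center_nontrivial
  rcases (inferInstance : (Subgroup.center L).Normal).eq_bot_or_eq_top with h2 | h2
  · rw [h2] at h1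
    exact not_nontrivial _ h1
  · obtain ⟨a, b, hab⟩ := hL
    have h3 : b ∈ Subgroup.center L := by rw [h2]; trivial
    exact hab (Subgroup.mem_center_iff.1 h3 a)

/-- **No outer involutions** for a group with a large extraspecial subgroup, from the quotient `C_K(z) / Q`. -/
theorem noOut2_of_large [Finite K] (h : Large Q z) {L : Type*} [Group L] [IsSimpleGroup L]
    (hL : ∃ a b : L, a * b ≠ b * a) (hLo : NoOut2 L)
    (π : Subgroup.centralizer ({z} : Set K) →* L) (hπs : Function.Surjective π)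
    (hπ : ∀ c : Subgroup.centralizer ({z} : Set K), π c = 1 ↔ (c : K) ∈ Q)
    (hirr : ∀ N : Subgroup K, N ≤ Q → (∀ g : K, g * z = z * g → ∀ n ∈ N, g * n * g⁻¹ ∈ N) →
      (∀ n ∈ N, n = 1 ∨ n = z) ∨ N = Q)
    {n₀ : K} (hin : n₀ * z * n₀⁻¹ ∈ Q) (hne : n₀ * z * n₀⁻¹ ≠ z)
    (hgen : Subgroup.closure ({c : K | c * z = z * c} ∪ {n₀}) = ⊤) : NoOut2 K := by
  intro α hα2
  obtain ⟨k₀, hk₀⟩ := hα2
  have hk₀' : ∀ x, k₀ * x * k₀⁻¹ = α (α x) := fun x => by
    have := congrArg (fun f : MulAut K => f x) hk₀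
    simpa using this
  have hperf := LargeE.perfect h hL π hπs hπ hirr ⟨n₀ * z * n₀⁻¹, hin, by
    intro h1
    apply h.z_ne
    calc z = n₀⁻¹ * (n₀ * z * n₀⁻¹) * n₀ := by group
      _ = 1 := by rw [h1]; group, hne⟩
  have hfin : Finite L := Finite.of_surjective π hπs
  -- a Sylow 2-subgroup containing `Q`
  obtain ⟨S, hS⟩ := (Cfsg.Agent.LargeExtra.Base.isPGroup h).exists_le_sylow
  have hSz : ∀ s ∈ (S : Subgroup K), (∀ t ∈ (S : Subgroup K), s * t = t * s) → s = 1 ∨ s = z := by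
    intro s _ hs
    exact LargeE.cent_eq h (hs z (hS h.z_mem)) fun x hx => hs x (hS hx)
  -- `z` is central in `S`
  have hzS : ∀ t ∈ (S : Subgroup K), z * t = t * z := by
    have : Fact (Nat.Prime 2) := ⟨Nat.prime_two⟩
    have hnt : Nontrivial (S : Subgroup K) := by
      refine ⟨⟨1, ⟨z, hS h.z_mem⟩, fun h1 => h.z_ne ?_⟩⟩
      exact (congrArg Subtype.val h1).symm
    have h1 : Nontrivial (Subgroup.center (S : Subgroup K)) := S.2.center_nontrivial
    obtain ⟨s, hs⟩ := (nontrivial_iff_exists_ne (1 : Subgroup.center (S : Subgroup K))).1 h1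
    have h2 : ∀ t ∈ (S : Subgroup K), ((s : (S : Subgroup K)) : K) * t = t * s := by
      intro t ht
      exact congrArg Subtype.val (Subgroup.mem_center_iff.1 s.2 ⟨t, ht⟩).symm
    rcases hSz _ (s : (S : Subgroup K)).2 h2 with h3 | h3
    · exact absurd (Subtype.ext (Subtype.ext h3)) hs
    · intro t ht
      rw [← h3]
      exact h2 t ht
  -- `β = conj(g)⁻¹ α` fixes `S`
  obtain ⟨g, hg⟩ : ∃ g : K, ∀ x, x ∈ (S : Subgroup K) ↔ g⁻¹ * α x * g ∈ (S : Subgroup K) := by
    obtain ⟨g, hg⟩ := MulAction.exists_smul_eq K S (α • S)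
    refine ⟨g, fun x => ?_⟩
    have h1 : ∀ y, y ∈ (g • S : Sylow 2 K) ↔ g⁻¹ * y * g ∈ (S : Subgroup K) := by
      intro y
      constructor
      · rintro ⟨u, hu, rfl⟩
        show g⁻¹ * (g * u * g⁻¹) * g ∈ (S : Subgroup K)
        have : g⁻¹ * (g * u * g⁻¹) * g = u := by group
        rw [this]; exact hu
      · intro hu
        refine ⟨_, hu, ?_⟩
        show g * (g⁻¹ * y * g) * g⁻¹ = y
        group
    rw [← h1, hg]
    constructor
    · intro hx
      exact ⟨x, hx, rfl⟩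
    · rintro ⟨u, hu, e⟩
      have : u = x := α.injective e
      rw [← this]; exact hu
  set β : MulAut K := (MulAut.conj g)⁻¹ * α with hβ
  have hβa : ∀ x, β x = g⁻¹ * α x * g := fun x => OutQ.conj_inv_mul_apply g α x
  have hβS : ∀ x, x ∈ (S : Subgroup K) ↔ β x ∈ (S : Subgroup K) := fun x => by rw [hβa]; exact hg x
  have hβz : β z = z := by
    refine (hSz (β z) ((hβS z).1 (hS h.z_mem)) ?_).resolve_left fun h1 => h.z_ne ?_
    · intro t ht
      obtain ⟨u, rfl⟩ := β.surjective t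
      rw [← map_mul, hzS u ((hβS u).2 ht), map_mul]
    · exact (map_eq_one_iff β β.injective).1 h1
  have hβC : ∀ c : K, c * z = z * c → β c * z = z * β c := by
    intro c hc
    have h1 := congrArg β hc
    rwa [map_mul, map_mul, hβz] at h1
  -- `β² = conj k`, `k ∈ C(z)`
  obtain ⟨k, hk⟩ : ∃ k : K, ∀ x, β (β x) = k * x * k⁻¹ := by
    refine ⟨g⁻¹ * α g⁻¹ * k₀, fun x => ?_⟩
    rw [hβa, hβa, map_mul, map_mul, ← hk₀' x]
    have h2 : (g⁻¹ * α g⁻¹ * k₀)⁻¹ = k₀⁻¹ * α g * g := by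
      rw [mul_inv_rev, mul_inv_rev, inv_inv, ← map_inv, inv_inv, mul_assoc]
    rw [h2]
    simp only [mul_assoc]
  have hkz : k * z = z * k := by
    have h1 := hk z
    rw [hβz, hβz] at h1
    exact (eq_mul_inv_iff_mul_eq.1 h1).symm
  -- the restriction to `C(z)`
  let C := Subgroup.centralizer ({z} : Set K)
  have hCm : ∀ c : C, (c : K) * z = z * c := fun c => Subgroup.mem_centralizer_singleton_iff.1 c.2
  let φ : C →* C := (β.toMonoidHom.comp C.subtype).codRestrict C fun c =>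
    Subgroup.mem_centralizer_singleton_iff.2 (hβC c (hCm c))
  have hφ : ∀ c : C, ((φ c : C) : K) = β c := fun c => rfl
  have hφi : Function.Injective φ := by
    intro a b hab
    exact Subtype.ext (β.injective (congrArg Subtype.val hab))
  have hφs : Function.Surjective φ := Finite.surjective_of_injective hφi
  -- `β Q = Q`
  have hQC : ∀ q ∈ Q, q ∈ C := fun q hq => Subgroup.mem_centralizer_singleton_iff.2 (h.comm_z q hq)
  have hβQ : ∀ q ∈ Q, β q ∈ Q := by
    let P : Subgroup L := ((Q.subgroupOf C).map φ).map π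
    have hn1 : (Q.subgroupOf C).Normal := Cfsg.Agent.LargeExtra.Nine.ToCent.normal h
    have hn2 : P.Normal := (hn1.map φ hφs).map π hπs
    have hp : IsPGroup 2 P :=
      (((Cfsg.Agent.LargeExtra.Base.isPGroup h).of_equiv
        (Subgroup.subgroupOfEquivOfLe (Cfsg.Agent.LargeExtra.Nine.ToCent.le_cent h)).symm).map φ).map π
    have hP : P = ⊥ := by
      rcases hn2.eq_bot_or_eq_top with h1 | h1
      · exact h1
      · exfalso
        rw [h1] at hp
        exact not_isPGroup hL (hp.of_equiv Subgroup.topEquiv)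
    intro q hq
    have h1 : π (φ ⟨q, hQC q hq⟩) ∈ P := ⟨_, ⟨⟨q, hQC q hq⟩, hq, rfl⟩, rfl⟩
    rw [hP, Subgroup.mem_bot, hπ, hφ] at h1
    exact h1
  -- the automorphism of `L`
  have hker : π.ker ≤ (π.comp φ).ker := by
    intro c hc
    rw [MonoidHom.mem_ker, hπ] at hc
    rw [MonoidHom.mem_ker, MonoidHom.comp_apply, hπ, hφ]
    exact hβQ _ hc
  obtain ⟨θ, hθ⟩ : ∃ θ : L →* L, ∀ c : C, θ (π c) = π (φ c) :=
    ⟨(MonoidHom.liftOfSurjective π hπs) ⟨π.comp φ, hker⟩, fun c =>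
      MonoidHom.liftOfRightInverse_comp_apply π _ _ ⟨π.comp φ, hker⟩ c⟩
  have hθs : Function.Surjective θ := by
    intro l
    obtain ⟨c, rfl⟩ := hπs l
    obtain ⟨d, rfl⟩ := hφs c
    exact ⟨π d, hθ d⟩
  have hθb : Function.Bijective θ := ⟨Finite.injective_iff_surjective.2 hθs, hθs⟩
  let θ' : MulAut L := MulEquiv.ofBijective θ hθb
  have hθ' : ∀ l, θ' l = θ l := fun l => rfl
  obtain ⟨l, hl⟩ := hLo θ' ⟨π ⟨k, Subgroup.mem_centralizer_singleton_iff.2 hkz⟩, by
    ext x
    obtain ⟨c, rfl⟩ := hπs x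
    rw [MulAut.mul_apply, MulAut.conj_apply, hθ', hθ', hθ, hθ, ← map_inv, ← map_mul, ← map_mul]
    congr 1
    apply Subtype.ext
    rw [hφ, hφ, hk]; rfl⟩
  obtain ⟨c₀, rfl⟩ := hπs l
  have hc₀ : ∀ c : C, π (φ c) = π (c₀ * c * c₀⁻¹) := by
    intro c
    have h1 := congrArg (fun f : MulAut L => f (π c)) hl
    have h2 : π c₀ * π c * (π c₀)⁻¹ = θ (π c) := h1
    rw [← hθ, ← h2]; simp
  -- `γ = conj(c₀)⁻¹ β` is trivial on `C / Q`
  set γ : MulAut K := (MulAut.conj (c₀ : K))⁻¹ * β with hγ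
  have hγa : ∀ x, γ x = (c₀ : K)⁻¹ * β x * c₀ := fun x => OutQ.conj_inv_mul_apply (c₀ : K) β x
  have hc₀z := hCm c₀
  have hγz : γ z = z := by
    rw [hγa, hβz, mul_assoc, ← hc₀z]; group
  have hc₀i : (c₀ : K)⁻¹ * z = z * (c₀ : K)⁻¹ := by
    rw [inv_mul_eq_iff_eq_mul, ← mul_assoc, hc₀z]; group
  have hγQ : ∀ q ∈ Q, γ q ∈ Q := by
    intro q hq
    rw [hγa]
    have := h.conj_mem (c₀ : K)⁻¹ hc₀i _ (hβQ q hq)
    rwa [inv_inv] at this
  have hγt : ∀ c : K, c * z = z * c → c⁻¹ * γ c ∈ Q := by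
    intro c hc
    let c' : C := ⟨c, Subgroup.mem_centralizer_singleton_iff.2 hc⟩
    have h1 := hc₀ c'
    have h2 : π (c'⁻¹ * (c₀⁻¹ * φ c' * c₀)) = 1 := by
      rw [map_mul, map_mul, map_mul, h1]; simp; group
    rw [hπ] at h2
    rw [hγa]
    exact h2
  -- `γ²` is inner
  have hγ2 : γ * γ ∈ (MulAut.conj : K →* MulAut K).range := by
    refine ⟨(c₀ : K)⁻¹ * β (c₀ : K)⁻¹ * k, ?_⟩
    ext x
    show (c₀ : K)⁻¹ * β (c₀ : K)⁻¹ * k * x * ((c₀ : K)⁻¹ * β (c₀ : K)⁻¹ * k)⁻¹ = γ (γ x)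
    have h1 : γ (γ x) = (c₀ : K)⁻¹ * (β (c₀ : K)⁻¹ * (k * x * k⁻¹) * β c₀) * c₀ := by
      rw [hγa, hγa, map_mul, map_mul, hk x]
    have h2 : ((c₀ : K)⁻¹ * β (c₀ : K)⁻¹ * k)⁻¹ = k⁻¹ * β c₀ * c₀ := by
      rw [mul_inv_rev, mul_inv_rev, inv_inv, ← map_inv, inv_inv, mul_assoc]
    rw [h1, h2]
    simp only [mul_assoc]
  -- an odd power of `γ` is inner
  have hfinA : Finite (MulAut K) :=
    Finite.of_injective (fun f : MulAut K => (f : K → K)) DFunLike.coe_injective
  obtain ⟨a, m, hm, hord⟩ := Nat.exists_eq_two_pow_mul_odd (n := orderOf γ) (orderOf_pos γ).ne'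
  have hpz : ∀ n : ℕ, (γ ^ n) z = z := by
    intro n
    induction n with
    | zero => rfl
    | succ n ih => rw [pow_succ, MulAut.mul_apply, hγz, ih]
  have hpQ : ∀ n : ℕ, ∀ q ∈ Q, (γ ^ n) q ∈ Q := by
    intro n
    induction n with
    | zero => intro q hq; exact hq
    | succ n ih => intro q hq; rw [pow_succ, MulAut.mul_apply]; exact ih _ (hγQ q hq)
  have hpt : ∀ n : ℕ, ∀ c : K, c * z = z * c → c⁻¹ * (γ ^ n) c ∈ Q := by
    intro n
    induction n with
    | zero => intro c _; simp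
    | succ n ih =>
      intro c hc
      rw [pow_succ, MulAut.mul_apply]
      have h1 := hγt c hc
      have h2 : (γ ^ n) (γ c) = (γ ^ n) c * (γ ^ n) (c⁻¹ * γ c) := by
        rw [← map_mul]; group
      rw [h2, ← mul_assoc]
      exact Q.mul_mem (ih c hc) (hpQ n _ h1)
  have hγm : γ ^ m ∈ (MulAut.conj : K →* MulAut K).range := by
    refine inner_of_trivial h hperf hirr hin hne hgen (γ ^ m) (hpz m) (hpQ m) (hpt m) a ?_
    rw [← pow_mul, mul_comm, ← hord, pow_orderOf_eq_one]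
  have hγ1 : γ ∈ (MulAut.conj : K →* MulAut K).range := by
    obtain ⟨j, hj⟩ := hm
    rw [hj, pow_succ, pow_mul, pow_two] at hγm
    exact (Subgroup.mul_mem_cancel_left _ (Subgroup.pow_mem _ hγ2 j)).1 hγm
  have hβ1 : β ∈ (MulAut.conj : K →* MulAut K).range := by
    have h1 : (MulAut.conj (c₀ : K))⁻¹ ∈ (MulAut.conj : K →* MulAut K).range := Subgroup.inv_mem _ ⟨_, rfl⟩
    exact (Subgroup.mul_mem_cancel_left _ h1).1 (hγ ▸ hγ1)
  have h1 : (MulAut.conj g)⁻¹ ∈ (MulAut.conj : K →* MulAut K).range := Subgroup.inv_mem _ ⟨_, rfl⟩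
  exact (Subgroup.mul_mem_cancel_left _ h1).1 (hβ ▸ hβ1)

end Cfsg.Agent.KFacts.OutTwo
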