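import Cfsg.Agent.Cit.Defs
import Cfsg.Agent.OddHalf.D8.Sheet
import Cfsg.Agent.Lib.CoprimeCommutator
import Cfsg.Agent.KFacts.SheetInner
import Cfsg.Agent.FastGrp
import Cfsg.Agent.Prune
set_option linter.all false

section
prune_inst 0x7f00000000000000000000000000000000000000000000000000000000000000000000000000000000000000000000000000000000000000000000000000000000000000000000000000000000000000003fffffffffffffffffffffffffffbeffbdffffffff

-- part: OddHalf/CaseM/Sheet
section
set_option linter.all false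
open scoped Cfsg.Agent.FastGrp

-- merged: Cfsg.Agent.OddHalf.CaseM.Prim
section

/-!
# Case (M) of D8: primitivity

`prim_of`: `R` a normal subgroup of `Q` with `⁅R, R⁆ ≤ ⟨z⟩`, minimal over `⟨z⟩`, `|R| ≤ 2^(2w+1)`; `Q` has no proper
subgroups of index at most `w`. A subgroup `U ∋ z` of `R` which is equal to or commutes with each of its conjugates is
`≤ ⟨z⟩` or `R`.
-/

set_option autoImplicit false

namespace Cfsg.Agent.OddHalf.CaseM

open Subgroup
open Cfsg.Agent.Cit (cj mem_cj conj_mem_cj conj_mem_cj_iff)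

open scoped commutatorElement

section Sign

variable {Q : Type*} [Group Q]

/-- the sign of an element of `{1, z}` -/
noncomputable def sg (c : Q) : ℤˣ := by
  classical exact if c = 1 then 1 else -1

theorem sg_one : sg (1 : Q) = 1 := by
  unfold sg; simp

theorem sg_ne {c : Q} (h : c ≠ 1) : sg c = -1 := by
  unfold sg; simp [h]

theorem sg_mul {z c d : Q} (hzz : z * z = 1) (hc : c = 1 ∨ c = z) (hd : d = 1 ∨ d = z) :
    sg (c * d) = sg c * sg d := by
  by_cases hz1 : z = 1
  · subst hz1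
    rcases hc with rfl | rfl <;> rcases hd with rfl | rfl <;> simp [sg_one]
  rcases hc with rfl | rfl
  · rw [one_mul, sg_one, one_mul]
  · rcases hd with rfl | rfl
    · rw [mul_one, sg_one, mul_one]
    · rw [hzz, sg_one, sg_ne hz1]; decide

end Sign

variable {Q : Type*} [Group Q] {z : Q} {R : Subgroup Q}

/-- the symplectic form `x ↦ sg ⁅x, a⁆` -/
noncomputable def form (hz : ∀ q : Q, q * z = z * q) (hzz : z * z = 1)
    (hcomm : ∀ a ∈ R, ∀ b ∈ R, ⁅a, b⁆ = 1 ∨ ⁅a, b⁆ = z) (a : Q) (ha : a ∈ R) : R →* ℤˣ where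
  toFun x := sg ⁅(x : Q), a⁆
  map_one' := by
    rw [Subgroup.coe_one, commutatorElement_one_left, sg_one]
  map_mul' x y := by
    have h1 : ⁅((x * y : R) : Q), a⁆ = ⁅(x : Q), a⁆ * ⁅(y : Q), a⁆ := by
      have h2 : ⁅((x * y : R) : Q), a⁆ = x * ⁅(y : Q), a⁆ * (x : Q)⁻¹ * ⁅(x : Q), a⁆ := by
        rw [Subgroup.coe_mul, commutatorElement_def, commutatorElement_def, commutatorElement_def]
        group
      have h3 : ∀ q : Q, q * ⁅(y : Q), a⁆ = ⁅(y : Q), a⁆ * q := by
        intro q
        rcases hcomm y y.2 a ha with h | h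
        · rw [h, mul_one, one_mul]
        · rw [h]; exact hz q
      rw [h2, h3 x, mul_inv_cancel_right, ← h3]
    rw [h1]
    exact sg_mul hzz (hcomm x x.2 a ha) (hcomm y y.2 a ha)

theorem prim_of [Finite Q] (hz : ∀ q : Q, q * z = z * q) (hzz : z * z = 1) (hz1 : z ≠ 1) (hzR : z ∈ R)
    (hRn : R.Normal) (hcomm : ∀ a ∈ R, ∀ b ∈ R, ⁅a, b⁆ = 1 ∨ ⁅a, b⁆ = z)
    (hmin : ∀ B : Subgroup Q, B ≤ R → B.Normal → (∀ b ∈ B, b = 1 ∨ b = z) ∨ B = R)
    (hna : ∃ a ∈ R, ∃ b ∈ R, a * b ≠ b * a) {w : ℕ} (hcard : Nat.card R ≤ 2 ^ (2 * w + 1))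
    (hidx : ∀ H : Subgroup Q, H.index ≤ w → H = ⊤) (U : Subgroup Q) (hzU : z ∈ U) (hUR : U ≤ R)
    (hU : ∀ p : Q, cj p U = U ∨ ∀ x ∈ U, ∀ y ∈ cj p U, x * y = y * x) :
    (∀ u ∈ U, u = 1 ∨ u = z) ∨ U = R := by
  classical
  by_cases hbig : ∀ u ∈ U, u = 1 ∨ u = z
  · exact Or.inl hbig
  push Not at hbig
  obtain ⟨u, hu, hu1, huz⟩ := hbig
  right
  -- `U` is not abelian
  have hUna : ∃ a ∈ U, ∃ b ∈ U, a * b ≠ b * a := by
    by_contra hab
    push Not at hab
    have hall : ∀ p : Q, ∀ x ∈ U, ∀ y ∈ cj p U, x * y = y * x := by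
      intro p x hx y hy
      rcases hU p with h | h
      · rw [h] at hy; exact hab x hx y hy
      · exact h x hx y hy
    -- the normal closure
    have hBR : normalClosure (U : Set Q) ≤ R := normalClosure_le_normal hUR
    rcases hmin _ hBR inferInstance with h1 | h1
    · rcases h1 u (subset_normalClosure hu) with h2 | h2
      · exact hu1 h2
      · exact huz h2
    · have hcen : ∀ x ∈ U, ∀ y ∈ R, x * y = y * x := by
        intro x hx y hy
        rw [← h1] at hy
        have hle : normalClosure (U : Set Q) ≤ centralizer ({x} : Set Q) := by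
          rw [normalClosure, closure_le]
          intro y hy
          rw [Group.mem_conjugatesOfSet_iff] at hy
          obtain ⟨v, hv, hvy⟩ := hy
          obtain ⟨p, rfl⟩ := isConj_iff.1 hvy
          exact mem_centralizer_singleton_iff.2 (hall p x hx _ (conj_mem_cj hv)).symm
        exact (mem_centralizer_singleton_iff.1 (hle hy)).symm
      have hn : (R ⊓ centralizer (R : Set Q)).Normal := inferInstance
      rcases hmin _ inf_le_left hn with h2 | h2
      · have h3 : u ∈ R ⊓ centralizer (R : Set Q) :=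
          ⟨hUR hu, mem_centralizer_iff.2 fun y hy => (hcen u hu y hy).symm⟩
        rcases h2 u h3 with h4 | h4
        · exact hu1 h4
        · exact huz h4
      · obtain ⟨a, ha, b, hb, hab⟩ := hna
        have h3 : b ∈ R ⊓ centralizer (R : Set Q) := by rw [h2]; exact hb
        exact hab (mem_centralizer_iff.1 h3.2 a ha)
  obtain ⟨a, ha, b, hb, hab⟩ := hUna
  -- the stabiliser
  set N : Subgroup Q := normalizer (U : Set Q) with hN
  have hmemN : ∀ p : Q, p ∈ N ↔ cj p U = U := by
    intro p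
    rw [hN, mem_normalizer_iff]
    constructor
    · intro h
      ext x
      rw [mem_cj, h]
      have e : p * (p⁻¹ * x * p) * p⁻¹ = x := by group
      rw [e]
    · intro h x
      constructor
      · intro hx
        have := conj_mem_cj (g := p) hx
        rwa [h] at this
      · intro hx
        rw [← h, mem_cj] at hx
        have e : p⁻¹ * (p * x * p⁻¹) * p = x := by group
        rwa [e] at hx
  -- representatives
  have hrep : ∀ ω : Q ⧸ N, cj (ω.out) U ≤ R := by
    intro ω
    rintro _ ⟨x, hx, rfl⟩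
    exact hRn.conj_mem x (hUR hx) _
  let α : Q ⧸ N → Q := fun ω => ω.out * a * (ω.out)⁻¹
  let β : Q ⧸ N → Q := fun ω => ω.out * b * (ω.out)⁻¹
  have hα : ∀ ω, α ω ∈ cj ω.out U := fun ω => conj_mem_cj ha
  have hβ : ∀ ω, β ω ∈ cj ω.out U := fun ω => conj_mem_cj hb
  have hαR : ∀ ω, α ω ∈ R := fun ω => hrep ω (hα ω)
  have hβR : ∀ ω, β ω ∈ R := fun ω => hrep ω (hβ ω)
  have hαβ : ∀ ω, α ω * β ω ≠ β ω * α ω := by
    intro ω h
    apply hab
    have e1 : α ω * β ω = ω.out * (a * b) * (ω.out)⁻¹ := by simp only [α, β]; group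
    have e2 : β ω * α ω = ω.out * (b * a) * (ω.out)⁻¹ := by simp only [α, β]; group
    rw [e1, e2] at h
    exact mul_left_cancel (mul_right_cancel h)
  have hne : ∀ ω ω' : Q ⧸ N, ω ≠ ω' → ∀ x ∈ cj ω.out U, ∀ y ∈ cj ω'.out U, x * y = y * x := by
    intro ω ω' hω x hx y hy
    rcases hU (ω.out⁻¹ * ω'.out) with h | h
    · exfalso
      apply hω
      have h1 := (hmemN _).2 h
      have h2 : (ω.out : Q ⧸ N) = (ω'.out : Q ⧸ N) := QuotientGroup.eq.2 h1
      rwa [QuotientGroup.out_eq', QuotientGroup.out_eq'] at h2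
    · rw [mem_cj] at hx
      have hy' : ω.out⁻¹ * y * ω.out ∈ cj (ω.out⁻¹ * ω'.out) U := by
        rw [mem_cj] at hy ⊢
        have e : (ω.out⁻¹ * ω'.out)⁻¹ * (ω.out⁻¹ * y * ω.out) * (ω.out⁻¹ * ω'.out) = ω'.out⁻¹ * y * ω'.out := by
          group
        rw [e]; exact hy
      have h1 := h _ hx _ hy'
      have e1 : ω.out⁻¹ * x * ω.out * (ω.out⁻¹ * y * ω.out) = ω.out⁻¹ * (x * y) * ω.out := by group
      have e2 : ω.out⁻¹ * y * ω.out * (ω.out⁻¹ * x * ω.out) = ω.out⁻¹ * (y * x) * ω.out := by group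
      rw [e1, e2] at h1
      exact mul_left_cancel (mul_right_cancel h1)
  -- the form
  let c : (Q ⧸ N) × Bool → Q := fun i => if i.2 then α i.1 else β i.1
  have hcR : ∀ i, c i ∈ R := by
    rintro ⟨ω, j⟩
    cases j
    · exact hβR ω
    · exact hαR ω
  let χ : R →* ((Q ⧸ N) × Bool → ℤˣ) := MonoidHom.pi fun i => form hz hzz hcomm (c i) (hcR i)
  have hχ : ∀ (x : R) i, χ x i = sg ⁅(x : Q), c i⁆ := fun x i => rfl
  have hsurj : Function.Surjective χ := by
    rw [← MonoidHom.range_eq_top, eq_top_iff]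
    intro f _
    apply Subgroup.pi_mem_of_mulSingle_mem
    intro i
    rcases Int.units_eq_one_or (f i) with h1 | h1
    · rw [h1, Pi.mulSingle_one]; exact one_mem _
    · rw [h1]
      -- the partner of `c i`
      let j : (Q ⧸ N) × Bool := (i.1, !i.2)
      refine ⟨⟨c j, hcR j⟩, ?_⟩
      funext k
      rw [hχ]
      by_cases hk : k = i
      · subst hk
        rw [Pi.mulSingle_eq_same]
        apply sg_ne
        rw [Ne, commutatorElement_eq_one_iff_mul_comm]
        obtain ⟨ω, e⟩ := k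
        cases e
        · exact hαβ ω
        · exact fun h => hαβ ω h.symm
      · rw [Pi.mulSingle_eq_of_ne hk]
        have h2 : ⁅c j, c k⁆ = 1 := by
          rw [commutatorElement_eq_one_iff_mul_comm]
          obtain ⟨ω, e⟩ := i
          obtain ⟨ω', e'⟩ := k
          by_cases hω : ω = ω'
          · subst hω
            have he : e' = !e := by
              cases e <;> cases e' <;> simp_all only [_root_.ne_eq, _root_.Prod.forall, _root_.Bool.forall_bool, _root_.Subtype.forall, _root_.Subgroup.mem_top, _root_.not_true_eq_false, _root_.Prod.mk.injEq, _root_.Bool.true_eq_false, _root_.and_false, _root_.not_false_eq_true, _root_.Bool.not_false, _root_.Bool.false_eq_true, _root_.Bool.not_true]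
            subst he
            rfl
          · have hmem : ∀ (ω : Q ⧸ N) (e : Bool), c (ω, e) ∈ cj ω.out U := by
              intro ω e
              cases e
              · exact hβ ω
              · exact hα ω
            exact hne ω ω' hω _ (hmem ω _) _ (hmem ω' _)
        change sg ⁅c j, c k⁆ = 1
        rw [h2, sg_one]
  -- counting
  have hker : 2 ≤ Nat.card χ.ker := by
    have hzk : (⟨z, hzR⟩ : R) ∈ χ.ker := by
      rw [MonoidHom.mem_ker]
      funext i
      rw [hχ]
      have : ⁅z, c i⁆ = 1 := by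
        rw [commutatorElement_eq_one_iff_mul_comm]
        exact (hz _).symm
      change sg ⁅z, c i⁆ = 1
      rw [this, sg_one]
    have hnt : Nontrivial χ.ker := ⟨⟨⟨_, hzk⟩, 1, fun h => hz1 (by
      have := congrArg (fun x : χ.ker => ((x : R) : Q)) h
      exact this)⟩⟩
    exact Finite.one_lt_card
  have hcardR : Nat.card R = Nat.card χ.ker * 2 ^ (2 * N.index) := by
    have h1 := Subgroup.card_eq_card_quotient_mul_card_subgroup χ.ker
    rw [Nat.card_congr (QuotientGroup.quotientKerEquivOfSurjective χ hsurj).toEquiv] at h1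
    rw [h1, mul_comm]
    congr 1
    rw [Nat.card_fun, Nat.card_prod, Nat.card_eq_fintype_card (α := ℤˣ), Fintype.card_units_int,
      Nat.card_eq_fintype_card (α := Bool), Fintype.card_bool, mul_comm]
    rfl
  have hw : N.index ≤ w := by
    by_contra hlt
    push Not at hlt
    have h1 : 2 ^ (2 * w + 1) < 2 * 2 ^ (2 * N.index) := by
      rw [← pow_succ']
      exact Nat.pow_lt_pow_right (by norm_num) (by omega)
    have h2 : 2 * 2 ^ (2 * N.index) ≤ Nat.card χ.ker * 2 ^ (2 * N.index) := Nat.mul_le_mul_right _ hker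
    omega
  have hNtop := hidx N hw
  have hUn : U.Normal := by
    rw [hN, normalizer_eq_top_iff] at hNtop
    exact hNtop
  rcases hmin U hUR hUn with h1 | h1
  · exfalso
    rcases h1 u hu with h2 | h2
    · exact hu1 h2
    · exact huz h2
  · exact h1

end Cfsg.Agent.OddHalf.CaseM

end

-- merged: Cfsg.Agent.OddHalf.CaseM.Sheet
section

/-!
# Case (M) of D8: the K-facts

`SheetM z P R`: the facts on `K` used in case (M) besides `SheetE z P R`.

`Core Q z R`: the facts in terms of the group `Q = P`.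
-/

set_option autoImplicit false

namespace Cfsg.Agent.OddHalf.CaseM

open Subgroup Cfsg
open Cfsg.Agent.OddHalf.D8.Sheet
open Cfsg.Agent.Cit (cj mem_cj conj_mem_cj conj_mem_cj_iff)

open scoped commutatorElement

/-- the sheet of case (M) -/
structure SheetM {K : Type*} [Group K] (P R : Subgroup K) : Prop where
  /-- nontrivial perfect subnormal subgroups of `P` act without fixed points on `R/⟨z⟩` -/
  big : ∀ S : Subgroup K, S ≤ P → (S.subgroupOf P).IsSubnormal → ⁅S, S⁆ = S → S ≠ ⊥ → ⁅R, S⁆ = R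
  /-- `P` has no proper subgroup of small index -/
  idx : ∃ w : ℕ, Nat.card R ≤ 2 ^ (2 * w + 1) ∧ ∀ H : Subgroup K, H ≤ P → H.relIndex P ≤ w → H = P
  /-- an automorphism of `K` of odd order centralising `P` is trivial -/
  odd : ∀ α : MulAut K, Odd (orderOf α) → (∀ x ∈ P, α x = x) → α = 1

/-- the facts in terms of `Q = P` -/
structure Core {Q : Type*} [Group Q] (z : Q) (R : Subgroup Q) : Prop where
  big : ∀ S : Subgroup Q, S.IsSubnormal → ⁅S, S⁆ = S → S ≠ ⊥ → ⁅R, S⁆ = R
  prim : ∀ U : Subgroup Q, z ∈ U → U ≤ R → (∀ p : Q, cj p U = U ∨ ∀ x ∈ U, ∀ y ∈ cj p U, x * y = y * x) →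
    (∀ u ∈ U, u = 1 ∨ u = z) ∨ U = R

theorem cj_map {A B : Type*} [Group A] [Group B] (f : A →* B) (g : A) (U : Subgroup A) :
    cj (f g) (U.map f) = (cj g U).map f := by
  apply le_antisymm
  · rintro _ ⟨_, ⟨u, hu, rfl⟩, rfl⟩
    exact ⟨g * u * g⁻¹, conj_mem_cj hu, by
      change f (g * u * g⁻¹) = f g * f u * (f g)⁻¹
      rw [map_mul, map_mul, map_inv]⟩
  · rintro _ ⟨_, ⟨u, hu, rfl⟩, rfl⟩
    refine ⟨f u, ⟨u, hu, rfl⟩, ?_⟩
    change f g * f u * (f g)⁻¹ = f (g * u * g⁻¹)
    rw [map_mul, map_mul, map_inv]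

theorem Core.of_equiv {Q Q' : Type*} [Group Q] [Group Q'] (e : Q ≃* Q') {z : Q} {R : Subgroup Q}
    (h : Core z R) {z' : Q'} (hz : e z = z') {R' : Subgroup Q'} (hR : R.map e.toMonoidHom = R') :
    Core z' R' := by
  subst hz hR
  have key : ∀ S : Subgroup Q', ∃ S0 : Subgroup Q, S = S0.map e.toMonoidHom := by
    intro S
    refine ⟨S.comap e.toMonoidHom, ?_⟩
    rw [map_comap_eq_self_of_surjective e.surjective]
  have hinj : Function.Injective (Subgroup.map e.toMonoidHom) := map_injective e.injective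
  constructor
  · intro S hS hp hne
    obtain ⟨S0, rfl⟩ := key S
    have h1 : S0.IsSubnormal := by
      have := hS.comap e.toMonoidHom
      rwa [comap_map_eq_self_of_injective e.injective] at this
    have h2 : ⁅S0, S0⁆ = S0 := by
      apply hinj
      rw [map_commutator]; exact hp
    have h3 : S0 ≠ ⊥ := by
      rintro rfl
      exact hne (Subgroup.map_bot _)
    rw [← map_commutator, h.big S0 h1 h2 h3]
  · intro U hzU hUR hU
    obtain ⟨U0, rfl⟩ := key U
    have hz0 : z ∈ U0 := by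
      obtain ⟨y, hy, hyz⟩ := hzU
      have : y = z := e.injective hyz
      rwa [← this]
    have hU0R : U0 ≤ R := (map_le_map_iff_of_injective e.injective).1 hUR
    rcases h.prim U0 hz0 hU0R (fun p => by
      rcases hU (e p) with h1 | h1
      · left
        apply hinj
        rw [← cj_map]; exact h1
      · right
        intro x hx y hy
        have h2 := h1 (e x) ⟨x, hx, rfl⟩ (e y) (by
          have h3 : cj (e.toMonoidHom p) (U0.map e.toMonoidHom) = (cj p U0).map e.toMonoidHom := cj_map _ _ _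
          change e y ∈ cj (e.toMonoidHom p) (U0.map e.toMonoidHom)
          rw [h3]
          exact ⟨y, hy, rfl⟩)
        apply e.injective
        rw [map_mul, map_mul]; exact h2) with h1 | h1
    · left
      rintro _ ⟨u, hu, rfl⟩
      rcases h1 u hu with h2 | h2
      · left; rw [h2, map_one]
      · right; rw [h2]; rfl
    · right; rw [h1]

section KLevel

variable {K : Type*} [Group K] {z : K} {P R : Subgroup K}

/-- `α(R) ≤ R` for automorphisms fixing `z` -/
theorem map_R (h : SheetE z P R) (α : MulAut K) (hα : α z = z) {x : K} (hx : x ∈ R) : α x ∈ R := by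
  have hP : ∀ x ∈ P, α x ∈ P := fun x hx => map_P h.perf h.cen h.der α hα hx
  have hα' : α⁻¹ z = z := by
    calc α⁻¹ z = α⁻¹ (α z) := by rw [hα]
      _ = z := MulAut.inv_apply_self _ _ _
  have hP' : ∀ x ∈ P, α⁻¹ x ∈ P := fun x hx => map_P h.perf h.cen h.der α⁻¹ hα' hx
  have h1 : R.map α.toMonoidHom ≤ R := by
    apply h.Rmax
    · rintro _ ⟨r, hr, rfl⟩
      exact hP r (h.RP hr)
    · exact h.R2.map _
    · rintro x hx _ ⟨r, hr, rfl⟩
      refine ⟨α⁻¹ x * r * (α⁻¹ x)⁻¹, h.Rn _ (hP' x hx) r hr, ?_⟩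
      change α (α⁻¹ x * r * (α⁻¹ x)⁻¹) = x * α r * x⁻¹
      rw [map_mul, map_mul, map_inv, MulAut.apply_inv_self]
  exact h1 ⟨x, hx, rfl⟩

/-- `⁅R, R⁆ ≤ ⟨z⟩` -/
theorem comm_R [Finite K] (h : SheetE z P R) : ∀ x ∈ ⁅R, R⁆, x = 1 ∨ x = z := by
  have : Fact (Nat.Prime 2) := ⟨Nat.prime_two⟩
  have hle : ⁅R, R⁆ ≤ R := commutator_le_self R
  have hn : ∀ x ∈ P, ∀ b ∈ ⁅R, R⁆, x * b * x⁻¹ ∈ ⁅R, R⁆ := by
    intro x hx b hb
    have h1 : R.map (MulAut.conj x).toMonoidHom = R := by
      apply le_antisymm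
      · rintro _ ⟨r, hr, rfl⟩
        exact h.Rn x hx r hr
      · intro r hr
        refine ⟨x⁻¹ * r * x⁻¹⁻¹, h.Rn _ (P.inv_mem hx) r hr, ?_⟩
        change x * (x⁻¹ * r * x⁻¹⁻¹) * x⁻¹ = r
        group
    have h2 : (⁅R, R⁆ : Subgroup K).map (MulAut.conj x).toMonoidHom = ⁅R, R⁆ := by
      rw [map_commutator, h1]
    rw [← h2]
    exact ⟨b, hb, rfl⟩
  rcases h.Rmin _ hle hn with h1 | h1
  · exact h1
  · exfalso
    -- a perfect 2-group
    have hnil : Group.IsNilpotent R := h.R2.isNilpotent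
    have hsol : Group.IsSolvable R := inferInstance
    have h3 : commutator R = ⊤ := by
      rw [_root_.commutator_def]
      apply map_injective R.subtype_injective
      rw [map_commutator, ← MonoidHom.range_eq_map, range_subtype, h1]
    have h4 : ∀ n : ℕ, derivedSeries R n = ⊤ := by
      intro n
      induction n with
      | zero => rfl
      | succ n ih => rw [derivedSeries_succ, ih, ← _root_.commutator_def, h3]
    obtain ⟨n, hn⟩ := hsol.solvable
    rw [h4 n] at hn
    have h5 : (⟨z, h.zR⟩ : R) ∈ (⊥ : Subgroup R) := by rw [← hn]; exact mem_top _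
    exact h.z1 (congrArg Subtype.val (mem_bot.1 h5))

theorem z_mem_comm [Finite K] (h : SheetE z P R) : z ∈ ⁅R, R⁆ := by
  obtain ⟨a, ha, b, hb, hab⟩ := h.Rna
  have h1 : ⁅a, b⁆ ∈ ⁅R, R⁆ := commutator_mem_commutator ha hb
  rcases comm_R h _ h1 with h2 | h2
  · exact absurd (commutatorElement_eq_one_iff_mul_comm.1 h2) hab
  · rwa [h2] at h1

/-- the core facts -/
theorem SheetM.core [Finite K] (h : SheetE z P R) (m : SheetM P R) :
    Core (⟨z, h.zP⟩ : P) (R.subgroupOf P) := by
  have hmapR : (R.subgroupOf P).map P.subtype = R := by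
    rw [subgroupOf_map_subtype, inf_of_le_left h.RP]
  have hinj : Function.Injective (Subgroup.map P.subtype) := map_injective P.subtype_injective
  constructor
  · intro S hS hp hne
    have h1 := m.big (S.map P.subtype) (map_subtype_le _) (by
      have : (S.map P.subtype).subgroupOf P = S := comap_map_eq_self_of_injective P.subtype_injective S
      rw [this]; exact hS) (by rw [← map_commutator, hp]) (by
      intro h0
      apply hne
      apply hinj
      rw [h0, Subgroup.map_bot])
    apply hinj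
    rw [map_commutator, hmapR, h1]
  · obtain ⟨w, hw, hidx⟩ := m.idx
    have hcardR : Nat.card (R.subgroupOf P) ≤ 2 ^ (2 * w + 1) := by
      rw [Nat.card_congr (subgroupOfEquivOfLe h.RP).toEquiv]; exact hw
    obtain ⟨a, ha, b, hb, hab⟩ := h.Rna
    refine prim_of (w := w) (fun q => Subtype.ext (h.cen q q.2)) (Subtype.ext h.zz)
      (fun h0 => h.z1 (congrArg Subtype.val h0)) h.zR ⟨fun r hr g => h.Rn g g.2 r hr⟩ ?_ ?_
      ⟨⟨a, h.RP ha⟩, ha, ⟨b, h.RP hb⟩, hb, fun h0 => hab (congrArg Subtype.val h0)⟩ hcardR ?_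
    · intro x hx y hy
      have h1 : ⁅(x : K), (y : K)⁆ ∈ ⁅R, R⁆ := commutator_mem_commutator hx hy
      rcases comm_R h _ h1 with h2 | h2
      · exact Or.inl (Subtype.ext h2)
      · exact Or.inr (Subtype.ext h2)
    · intro B hB hBn
      rcases h.Rmin (B.map P.subtype) (by
          rintro _ ⟨x, hx, rfl⟩
          exact hB hx) (by
          rintro x hx _ ⟨b, hb, rfl⟩
          exact ⟨⟨x, hx⟩ * b * ⟨x, hx⟩⁻¹, hBn.conj_mem b hb ⟨x, hx⟩, rfl⟩) with h1 | h1
      · left
        intro b hb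
        rcases h1 b ⟨b, hb, rfl⟩ with h2 | h2
        · exact Or.inl (Subtype.ext h2)
        · exact Or.inr (Subtype.ext h2)
      · right
        apply hinj
        rw [h1, hmapR]
    · intro H hH
      have h1 := hidx (H.map P.subtype) (map_subtype_le _) (by
        have : (H.map P.subtype).relIndex P = H.index := by
          rw [relIndex, show (H.map P.subtype).subgroupOf P = H from
            comap_map_eq_self_of_injective P.subtype_injective H]
        rw [this]; exact hH)
      apply hinj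
      rw [h1, ← MonoidHom.range_eq_map, range_subtype]

/-- a perfect 2-group is trivial -/
theorem eq_bot_of_perfect_two [Finite K] {S : Subgroup K} (hp : ⁅S, S⁆ = S) (h2 : IsPGroup 2 S) : S = ⊥ := by
  have : Fact (Nat.Prime 2) := ⟨Nat.prime_two⟩
  have hnil : Group.IsNilpotent S := h2.isNilpotent
  have hsol : Group.IsSolvable S := inferInstance
  have h3 : commutator S = ⊤ := by
    rw [_root_.commutator_def]
    apply map_injective S.subtype_injective
    rw [map_commutator, ← MonoidHom.range_eq_map, range_subtype, hp]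
  have h4 : ∀ n : ℕ, derivedSeries S n = ⊤ := by
    intro n
    induction n with
    | zero => rfl
    | succ n ih => rw [derivedSeries_succ, ih, ← _root_.commutator_def, h3]
  obtain ⟨n, hn⟩ := hsol.solvable
  rw [h4 n] at hn
  rw [eq_bot_iff]
  intro x hx
  have h5 : (⟨x, hx⟩ : S) ∈ (⊥ : Subgroup S) := by rw [← hn]; exact mem_top _
  rw [mem_bot] at h5 ⊢
  exact congrArg Subtype.val h5

/-- `S R = Q` if `Q / R` is quasisimple and `S` is subnormal, perfect and not in `R` -/
theorem sup_eq_top {Q : Type*} [Group Q] {R S : Subgroup Q} (hR : R.Normal)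
    (hq : ∀ N : Subgroup Q, R ≤ N → N.Normal → ⁅N, (⊤ : Subgroup Q)⁆ ≤ R ∨ N = ⊤)
    (hp : ⁅S, S⁆ = S) (hSR : ¬ S ≤ R) (hS : S.IsSubnormal) : S ⊔ R = ⊤ := by
  have key : ∀ H : Subgroup Q, H.IsSubnormal → S ≤ H → H ⊔ R = ⊤ := by
    intro H hH
    induction hH with
    | top => intro _; exact top_sup_eq _
    | step H L hHL hL hn ih =>
      intro hSH
      have h1 := ih (hSH.trans hHL)
      have hl : ∀ l ∈ L, ∀ n ∈ H ⊔ R, l * n * l⁻¹ ∈ H ⊔ R := by
        intro l hl n hn'
        obtain ⟨x, hx, r, hr, rfl⟩ := mem_sup_of_normal_right.1 hn'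
        have h2 : l * x * l⁻¹ ∈ H := mem_subgroupOf.1 (hn.conj_mem ⟨x, hHL hx⟩ (mem_subgroupOf.2 hx) ⟨l, hl⟩)
        have h3 : l * r * l⁻¹ ∈ R := hR.conj_mem r hr l
        have e : l * (x * r) * l⁻¹ = (l * x * l⁻¹) * (l * r * l⁻¹) := by group
        rw [e]
        exact mul_mem (mem_sup_left h2) (mem_sup_right h3)
      have hN : (H ⊔ R).Normal := by
        refine ⟨fun n hn' g => ?_⟩
        obtain ⟨l, hl', r, hr, rfl⟩ := mem_sup_of_normal_right.1 (show g ∈ L ⊔ R by rw [h1]; exact mem_top g)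
        have hr' : r ∈ H ⊔ R := mem_sup_right hr
        have e : l * r * n * (l * r)⁻¹ = l * (r * n * r⁻¹) * l⁻¹ := by group
        rw [e]
        exact hl l hl' _ (mul_mem (mul_mem hr' hn') (inv_mem hr'))
      rcases hq _ le_sup_right hN with h2 | h2
      · exfalso
        apply hSR
        calc S = ⁅S, S⁆ := hp.symm
          _ ≤ ⁅H ⊔ R, ⊤⁆ := commutator_mono (hSH.trans le_sup_left) le_top
          _ ≤ R := h2
      · exact h2
  exact key S hS le_rfl

/-- `(big)` for `P/R` quasisimple -/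
theorem big_of_quasisimple [Finite K] (h : SheetE z P R)
    (hq : ∀ N : Subgroup K, N ≤ P → R ≤ N → (∀ p ∈ P, ∀ n ∈ N, p * n * p⁻¹ ∈ N) → ⁅N, P⁆ ≤ R ∨ N = P) :
    ∀ S : Subgroup K, S ≤ P → (S.subgroupOf P).IsSubnormal → ⁅S, S⁆ = S → S ≠ ⊥ → ⁅R, S⁆ = R := by
  intro S hSP hS hp hne
  have hmapR : (R.subgroupOf P).map P.subtype = R := by
    rw [subgroupOf_map_subtype, inf_of_le_left h.RP]
  have hmapS : (S.subgroupOf P).map P.subtype = S := by
    rw [subgroupOf_map_subtype, inf_of_le_left hSP]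
  have hinj : Function.Injective (Subgroup.map P.subtype) := map_injective P.subtype_injective
  -- `S` is not contained in `R`
  have hSR : ¬ S ≤ R := fun hSR => hne (eq_bot_of_perfect_two hp (h.R2.to_le hSR))
  -- `S R = P`
  have htop : S.subgroupOf P ⊔ R.subgroupOf P = ⊤ := by
    have hRn : (R.subgroupOf P).Normal := ⟨fun r hr g => h.Rn g g.2 r hr⟩
    apply sup_eq_top hRn
    · intro N hRN hN
      rcases hq (N.map P.subtype) (map_subtype_le _) (by
          rw [← hmapR]; exact map_mono hRN) (by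
          rintro x hx _ ⟨b, hb, rfl⟩
          exact ⟨⟨x, hx⟩ * b * ⟨x, hx⟩⁻¹, hN.conj_mem b hb ⟨x, hx⟩, rfl⟩) with h1 | h1
      · left
        rw [← map_le_map_iff_of_injective P.subtype_injective, map_commutator, hmapR,
          ← MonoidHom.range_eq_map, range_subtype]
        exact h1
      · right
        apply hinj
        rw [h1, ← MonoidHom.range_eq_map, range_subtype]
    · apply hinj
      rw [map_commutator, hmapS, hp]
    · intro hle
      apply hSR
      have := map_mono (f := P.subtype) hle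
      rwa [hmapS, hmapR] at this
    · exact hS
  have htop' : S ⊔ R = P := by
    have := congrArg (Subgroup.map P.subtype) htop
    rwa [Subgroup.map_sup, hmapS, hmapR, ← MonoidHom.range_eq_map, range_subtype] at this
  have hnorm : ∀ p ∈ P, ∀ n ∈ ⁅R, S⁆, p * n * p⁻¹ ∈ ⁅R, S⁆ := by
    have h1 : P ≤ normalizer (((⁅R, S⁆ : Subgroup K)) : Set K) := by
      calc P = S ⊔ R := htop'.symm
        _ ≤ _ := sup_le (Cfsg.Agent.Lib.CoprimeCommutator.right_le_normalizer_commutator R S)
            (Cfsg.Agent.Lib.CoprimeCommutator.left_le_normalizer_commutator R S)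
    intro p hp n hn
    exact (mem_normalizer_iff.1 (h1 hp) n).1 hn
  have hle : ⁅R, S⁆ ≤ R := by
    rw [commutator_le]
    intro r hr x hx
    have e : ⁅r, x⁆ = r * (x * r⁻¹ * x⁻¹) := by rw [commutatorElement_def]; group
    rw [e]
    exact R.mul_mem hr (h.Rn x (hSP hx) _ (R.inv_mem hr))
  rcases h.Rmin _ hle hnorm with h1 | h1
  swap
  · exact h1
  exfalso
  apply hSR
  have h2 : ⁅⁅R, S⁆, S⁆ = ⊥ := by
    rw [commutator_eq_bot_iff_le_centralizer]
    intro u hu
    rw [mem_centralizer_iff]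
    intro p hp
    rcases h1 u hu with h3 | h3
    · rw [h3, mul_one, one_mul]
    · rw [h3]; exact h.cen p (hSP hp)
  have h3 : ⁅⁅S, S⁆, R⁆ = ⊥ := commutator_commutator_eq_bot_of_rotate (by rw [commutator_comm S R]; exact h2) h2
  rw [hp] at h3
  intro x hx
  apply h.cR x (hSP hx)
  intro r hr
  have h5 := (commutator_eq_bot_iff_le_centralizer.1 h3) hx
  rw [mem_centralizer_iff] at h5
  exact (h5 r hr).symm

/-- `(idx)`: `P` is generated by its `p`-elements, `p > w` -/
theorem idx_of_prime [Finite K] {p w : ℕ} (hp : p.Prime) (hw : w < p)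
    (hgen : ∀ N : Subgroup K, N ≤ P → (∀ x ∈ P, IsPGroup p (zpowers x) → x ∈ N) → N = P) :
    ∀ H : Subgroup K, H ≤ P → H.relIndex P ≤ w → H = P := by
  intro H hHP hH
  have : Fact p.Prime := ⟨hp⟩
  apply hgen H hHP
  intro x hx hxp
  have hle : zpowers x ≤ P := zpowers_le.2 hx
  have h1 : H.relIndex (zpowers x) ≤ H.relIndex P := relIndex_le_of_le_right hle (by
    rw [relIndex]; exact FiniteIndex.index_ne_zero)
  have h2 : H.relIndex (zpowers x) ∣ Nat.card (zpowers x) := relIndex_dvd_card _ _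
  obtain ⟨n, hn⟩ := IsPGroup.iff_card.1 hxp
  rw [hn] at h2
  obtain ⟨j, -, hj⟩ := (Nat.dvd_prime_pow hp).1 h2
  have hj0 : j = 0 := by
    by_contra hj0
    have h3 : p ≤ p ^ j := Nat.le_self_pow hj0 p
    omega
  rw [hj0, pow_zero, relIndex_eq_one] at hj
  exact hj (mem_zpowers x)

/-- the hypothesis of `idx_of_prime` for `P/R` quasisimple: a noncentral `p`-element -/
theorem gen_of_quasisimple [Finite K] (h : SheetE z P R)
    (hq : ∀ N : Subgroup K, N ≤ P → R ≤ N → (∀ p ∈ P, ∀ n ∈ N, p * n * p⁻¹ ∈ N) → ⁅N, P⁆ ≤ R ∨ N = P)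
    {p : ℕ} {x y : K} (hx : x ∈ P) (hxp : IsPGroup p (zpowers x)) (hy : y ∈ P) (hxy : ⁅x, y⁆ ∉ R) :
    ∀ N : Subgroup K, N ≤ P → (∀ x ∈ P, IsPGroup p (zpowers x) → x ∈ N) → N = P := by
  intro N hNP hN
  -- the subgroup generated by the `p`-elements
  set N1 : Subgroup K := closure {x | x ∈ P ∧ IsPGroup p (zpowers x)} with hN1
  have hN1N : N1 ≤ N := by
    rw [hN1, closure_le]
    rintro x ⟨h1, h2⟩
    exact hN x h1 h2
  have hN1P : N1 ≤ P := hN1N.trans hNP
  have hconj : ∀ g ∈ P, ∀ n ∈ N1, g * n * g⁻¹ ∈ N1 := by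
    intro g hg n hn
    have h1 : N1.map (MulAut.conj g).toMonoidHom ≤ N1 := by
      rw [hN1, MonoidHom.map_closure, closure_le]
      rintro _ ⟨x, ⟨h1, h2⟩, rfl⟩
      apply Subgroup.subset_closure
      refine ⟨P.mul_mem (P.mul_mem hg h1) (P.inv_mem hg), ?_⟩
      have h3 := h2.map (MulAut.conj g).toMonoidHom
      rwa [MonoidHom.map_zpowers] at h3
    exact h1 ⟨n, hn, rfl⟩
  have hRn : ∀ g ∈ P, ∀ n ∈ N1 ⊔ R, g * n * g⁻¹ ∈ N1 ⊔ R := by
    intro g hg n hn
    have h1 : (N1 ⊔ R).map (MulAut.conj g).toMonoidHom ≤ N1 ⊔ R := by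
      rw [Subgroup.map_sup]
      apply sup_le_sup
      · rintro _ ⟨x, hx, rfl⟩
        exact hconj g hg x hx
      · rintro _ ⟨x, hx, rfl⟩
        exact h.Rn g hg x hx
    exact h1 ⟨n, hn, rfl⟩
  rcases hq (N1 ⊔ R) (sup_le hN1P h.RP) le_sup_right hRn with h1 | h1
  · exfalso
    apply hxy
    apply h1
    exact commutator_mem_commutator (mem_sup_left (Subgroup.subset_closure ⟨hx, hxp⟩)) hy
  · -- `P = N1 R`, `P / N1` is a 2-group
    have h2 : P ≤ N1 := by
      -- work in `P`
      have hnorm : (N1.subgroupOf P).Normal := ⟨fun n hn g => hconj g g.2 n hn⟩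
      have hsup : N1.subgroupOf P ⊔ R.subgroupOf P = ⊤ := by
        apply map_injective P.subtype_injective
        rw [Subgroup.map_sup, subgroupOf_map_subtype, subgroupOf_map_subtype, inf_of_le_left hN1P,
          inf_of_le_left h.RP, h1, ← MonoidHom.range_eq_map, range_subtype]
      have hperf : commutator P = ⊤ := by
        rw [_root_.commutator_def]
        apply map_injective P.subtype_injective
        rw [map_commutator, ← MonoidHom.range_eq_map, range_subtype, h.perf]
      have : Fact (Nat.Prime 2) := ⟨Nat.prime_two⟩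
      -- the quotient
      let π := QuotientGroup.mk' (N1.subgroupOf P)
      have hsurj : (R.subgroupOf P).map π = ⊤ := by
        have h3 := congrArg (Subgroup.map π) hsup
        rw [Subgroup.map_sup, (QuotientGroup.map_mk'_self (N1.subgroupOf P)), bot_sup_eq,
          ← MonoidHom.range_eq_map, MonoidHom.range_eq_top.2 (QuotientGroup.mk'_surjective _)] at h3
        exact h3
      have hR2' : IsPGroup 2 (R.subgroupOf P) := h.R2.comap_subtype
      have h2g : IsPGroup 2 ((R.subgroupOf P).map π) := hR2'.map π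
      rw [hsurj] at h2g
      have hperf' : ⁅(⊤ : Subgroup (P ⧸ N1.subgroupOf P)), (⊤ : Subgroup (P ⧸ N1.subgroupOf P))⁆ =
          (⊤ : Subgroup (P ⧸ N1.subgroupOf P)) := by
        have h4 := congrArg (Subgroup.map π) hperf
        rw [_root_.commutator_def, map_commutator, ← MonoidHom.range_eq_map,
          MonoidHom.range_eq_top.2 (QuotientGroup.mk'_surjective _)] at h4
        exact h4
      have h5 := eq_bot_of_perfect_two hperf' h2g
      intro x hx
      have h6 : π ⟨x, hx⟩ ∈ (⊤ : Subgroup (P ⧸ N1.subgroupOf P)) := mem_top _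
      rw [h5, mem_bot] at h6
      have h7 : (⟨x, hx⟩ : P) ∈ N1.subgroupOf P := (QuotientGroup.eq_one_iff (N := N1.subgroupOf P) _).1 h6
      exact mem_subgroupOf.1 h7
    exact le_antisymm hNP (h2.trans hN1N)

/-- `(odd)`: the indices `|Aut K : Inn K|` and `|C_K(z) : P|` are powers of 2 -/
theorem odd_of_index [Finite K] (h : SheetE z P R)
    (hout : ∃ n, (MulAut.conj : K →* MulAut K).range.index = 2 ^ n)
    (hP : ∃ n, P.relIndex (centralizer ({z} : Set K)) = 2 ^ n) :
    ∀ α : MulAut K, Odd (orderOf α) → (∀ x ∈ P, α x = x) → α = 1 := by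
  intro α hodd hα
  obtain ⟨n, hn⟩ := hout
  obtain ⟨m, hm⟩ := hP
  have hnorm : ((MulAut.conj : K →* MulAut K).range).Normal := by
    constructor
    rintro _ ⟨k, rfl⟩ φ
    refine ⟨φ k, ?_⟩
    apply MulEquiv.ext
    intro x
    rw [MulAut.mul_apply, MulAut.mul_apply, MulAut.conj_apply, MulAut.conj_apply, map_mul, map_mul, map_inv,
      MulAut.apply_inv_self]
  -- `α` is inner
  have h1 : α ^ (2 ^ n) ∈ (MulAut.conj : K →* MulAut K).range := by
    rw [← hn]; exact pow_index_mem _ _
  have hcop : ∀ k : ℕ, (orderOf α).Coprime (2 ^ k) := fun k =>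
    Nat.Coprime.pow_right k ((Nat.coprime_two_right).2 hodd)
  obtain ⟨j, hj⟩ := exists_pow_eq_self_of_coprime (hcop n).symm
  have h2 : α ∈ (MulAut.conj : K →* MulAut K).range := by
    rw [← hj]; exact pow_mem h1 j
  obtain ⟨k, rfl⟩ := h2
  have hkP : ∀ x ∈ P, k * x = x * k := by
    intro x hx
    have := hα x hx
    rw [MulAut.conj_apply, mul_inv_eq_iff_eq_mul] at this
    exact this
  have hkz : k ∈ centralizer ({z} : Set K) := mem_centralizer_singleton_iff.2 (hkP z h.zP)
  have hPn : (P.subgroupOf (centralizer ({z} : Set K))).Normal := by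
    constructor
    intro x hx g
    have hg := mem_centralizer_singleton_iff.1 g.2
    have := map_P h.perf h.cen h.der (MulAut.conj (g : K)) (by
      rw [MulAut.conj_apply, hg]; group) (mem_subgroupOf.1 hx)
    exact mem_subgroupOf.2 this
  have h3 : k ^ (2 ^ m) ∈ P := by
    have := pow_index_mem (P.subgroupOf (centralizer ({z} : Set K))) ⟨k, hkz⟩
    rw [← relIndex, hm] at this
    exact this
  have h4 : k ^ (2 ^ m) ∈ R := by
    apply h.cR _ h3
    intro r hr
    have hc : Commute k r := hkP r (h.RP hr)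
    exact (hc.pow_left _).eq
  obtain ⟨l, hl⟩ := h.R2 ⟨_, h4⟩
  have h5 : k ^ (2 ^ (m + l)) = 1 := by
    rw [pow_add, pow_mul]
    exact congrArg Subtype.val hl
  have h6 : (MulAut.conj k) ^ (2 ^ (m + l)) = 1 := by rw [← map_pow, h5, map_one]
  have h7 := orderOf_dvd_of_pow_eq_one h6
  have h8 : orderOf (MulAut.conj k) = 1 := Nat.eq_one_of_dvd_coprimes (hcop (m + l)) dvd_rfl h7
  exact orderOf_eq_one_iff.1 h8

/-- `SheetM` for `P/R` quasisimple -/
theorem SheetM.of_quasisimple [Finite K] (h : SheetE z P R)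
    (hq : ∀ N : Subgroup K, N ≤ P → R ≤ N → (∀ p ∈ P, ∀ n ∈ N, p * n * p⁻¹ ∈ N) → ⁅N, P⁆ ≤ R ∨ N = P)
    {p w : ℕ} (hp : p.Prime) (hw : w < p) (hcard : Nat.card R ≤ 2 ^ (2 * w + 1)) {x y : K} (hx : x ∈ P)
    (hxp : IsPGroup p (zpowers x)) (hy : y ∈ P) (hxy : ⁅x, y⁆ ∉ R)
    (hout : ∃ n, (MulAut.conj : K →* MulAut K).range.index = 2 ^ n)
    (hP : ∃ n, P.relIndex (centralizer ({z} : Set K)) = 2 ^ n) : SheetM P R where
  big := big_of_quasisimple h hq
  idx := ⟨w, hcard, idx_of_prime hp hw (gen_of_quasisimple h hq hx hxp hy hxy)⟩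
  odd := odd_of_index h hout hP

end KLevel

end Cfsg.Agent.OddHalf.CaseM

end
end

-- part: KFacts/InnerCaseM
section
set_option linter.all false
open scoped Cfsg.Agent.FastGrp

/-!
# The sheet of case (M) for `SheetInner.Data` (helper922)

`sheetM_of_data` : `SheetM (centralizer {z}) Q` from `SheetInner.Data Q z L`, a prime `p > w` dividing `|L|` and
`|Q| ≤ 2 ^ (2 w + 1)`; `sheetM_map` : transport along an isomorphism (proof of helper950).
-/

set_option autoImplicit false

namespace Cfsg.Agent.KFacts.InnerCaseM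

open Cfsg.Agent.KFacts.SheetInner Cfsg.Agent.OddHalf.D8.Sheet Cfsg.Agent.OddHalf.CaseM

open scoped commutatorElement

section

variable {K : Type*} [Group K] {Q : Subgroup K} {z : K} {L : Type*} [Group L]
  {π : Subgroup.centralizer ({z} : Set K) →* L}

/-- normal subgroups of `C_K(z)` above `Q` -/
theorem normal_of [IsSimpleGroup L] (hs : Function.Surjective π) (hk : ∀ c, π c = 1 ↔ (c : K) ∈ Q) (N : Subgroup K)
    (hN : N ≤ Subgroup.centralizer ({z} : Set K)) (hQ : Q ≤ N)
    (hn : ∀ p ∈ Subgroup.centralizer ({z} : Set K), ∀ n ∈ N, p * n * p⁻¹ ∈ N) :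
    ⁅N, Subgroup.centralizer ({z} : Set K)⁆ ≤ Q ∨ N = Subgroup.centralizer ({z} : Set K) := by
  have h1 : (N.subgroupOf (Subgroup.centralizer ({z} : Set K))).Normal :=
    ⟨fun x hx g => hn g g.2 x hx⟩
  rcases (h1.map π hs).eq_bot_or_eq_top with h2 | h2
  · left
    have h3 : N ≤ Q := by
      intro x hx
      rw [← hk ⟨x, hN hx⟩]
      have h4 : π ⟨x, hN hx⟩ ∈ (N.subgroupOf (Subgroup.centralizer ({z} : Set K))).map π := ⟨_, hx, rfl⟩
      rw [h2, Subgroup.mem_bot] at h4
      exact h4
    rw [Subgroup.commutator_le]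
    intro x hx y hy
    have h4 : x * (y * x⁻¹ * y⁻¹) ∈ N := N.mul_mem hx (hn y hy _ (N.inv_mem hx))
    apply h3
    rw [commutatorElement_def]
    simpa only [mul_assoc] using h4
  · right
    apply le_antisymm hN
    intro x hx
    have h3 : π ⟨x, hx⟩ ∈ (N.subgroupOf (Subgroup.centralizer ({z} : Set K))).map π := by
      rw [h2]; exact Subgroup.mem_top _
    obtain ⟨y, hy, hyx⟩ := h3
    have h4 : π (y⁻¹ * ⟨x, hx⟩) = 1 := by rw [map_mul, map_inv, hyx, inv_mul_cancel]
    have h5 : (y : K)⁻¹ * x ∈ N := hQ ((hk _).1 h4)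
    have h6 : (y : K) * ((y : K)⁻¹ * x) ∈ N := N.mul_mem hy h5
    rwa [mul_inv_cancel_left] at h6

/-- a `p`-element of `C_K(z)` not central modulo `Q` -/
theorem exists_noncentral [Finite K] [IsSimpleGroup L] (hs : Function.Surjective π)
    (hk : ∀ c, π c = 1 ↔ (c : K) ∈ Q) (hnab : ∃ a b : L, a * b ≠ b * a) {p : ℕ} (hp : p.Prime)
    (hpL : p ∣ Nat.card L) : ∃ x ∈ Subgroup.centralizer ({z} : Set K), ∃ y ∈ Subgroup.centralizer ({z} : Set K),
    IsPGroup p (Subgroup.zpowers x) ∧ ⁅x, y⁆ ∉ Q := by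
  have : Fact p.Prime := ⟨hp⟩
  have : Finite L := Finite.of_surjective π hs
  obtain ⟨b, hb⟩ := exists_prime_orderOf_dvd_card' p hpL
  obtain ⟨c, rfl⟩ := hs b
  obtain ⟨k, m, hm, hkm⟩ := Nat.exists_eq_pow_mul_and_not_dvd (orderOf_pos c).ne' p hp.ne_one
  have h1 : π (c ^ m) ≠ 1 := by
    intro h2
    rw [map_pow] at h2
    exact hm (hb ▸ orderOf_dvd_of_pow_eq_one h2)
  -- the centre of `L` is trivial
  have hcen : ∃ y : L, π (c ^ m) * y ≠ y * π (c ^ m) := by
    by_contra hcon
    push Not at hcon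
    have h2 : π (c ^ m) ∈ Subgroup.center L := Subgroup.mem_center_iff.2 fun g => (hcon g).symm
    rcases (inferInstance : (Subgroup.center L).Normal).eq_bot_or_eq_top with h3 | h3
    · rw [h3, Subgroup.mem_bot] at h2
      exact h1 h2
    · obtain ⟨a, b, hab⟩ := hnab
      have h4 : b ∈ Subgroup.center L := by rw [h3]; exact Subgroup.mem_top _
      exact hab (Subgroup.mem_center_iff.1 h4 a)
  obtain ⟨y0, hy0⟩ := hcen
  obtain ⟨y, rfl⟩ := hs y0
  refine ⟨_, (c ^ m).2, _, y.2, ?_, ?_⟩
  · apply IsPGroup.of_card (n := k)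
    rw [Nat.card_zpowers, Subgroup.orderOf_coe, orderOf_pow, hkm]
    rw [Nat.gcd_eq_right (dvd_mul_left m (p ^ k)), Nat.mul_div_cancel]
    exact Nat.pos_of_ne_zero fun h => hm (h ▸ dvd_zero p)
  · intro h2
    have h3 : π ⁅c ^ m, y⁆ = 1 := (hk _).2 h2
    rw [map_commutatorElement, commutatorElement_eq_one_iff_mul_comm] at h3
    exact hy0 h3

end

/-- `SheetM` for `SheetInner.Data` -/
theorem sheetM_of_data {K : Type*} [Group K] [Finite K] {Q : Subgroup K} {z : K} {L : Type*} [Group L]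
    (D : Data Q z L) {p w : ℕ} (hp : p.Prime) (hw : w < p) (hpL : p ∣ Nat.card L)
    (hcard : Nat.card Q ≤ 2 ^ (2 * w + 1)) : SheetM (Subgroup.centralizer ({z} : Set K)) Q := by
  have := D.simple
  obtain ⟨π, hs, hk⟩ := D.quot
  obtain ⟨x, hx, y, hy, hxp, hxy⟩ := exists_noncentral hs hk D.nonab hp hpL
  refine SheetM.of_quasisimple D.sheet (normal_of hs hk) hp hw hcard hx hxp hy hxy ⟨0, ?_⟩ ⟨0, ?_⟩
  · rw [pow_zero, Subgroup.index_eq_one, MonoidHom.range_eq_top]
    intro α
    obtain ⟨k, hk⟩ := D.allInner α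
    exact ⟨k, hk.symm⟩
  · rw [pow_zero, Subgroup.relIndex_self]

section

variable {K K' : Type*} [Group K] [Group K']

/-- `SheetM` along an isomorphism (proof of helper950) -/
theorem sheetM_map (e : K ≃* K') {P R : Subgroup K} (h : SheetM P R) :
    SheetM (P.map (e : K →* K')) (R.map (e : K →* K')) := by
  have hinj : Function.Injective (Subgroup.map (e : K →* K')) := Subgroup.map_injective e.injective
  have key : ∀ S : Subgroup K', ∃ S0 : Subgroup K, S = S0.map (e : K →* K') := fun S =>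
    ⟨S.comap (e : K →* K'), by rw [Subgroup.map_comap_eq_self_of_surjective e.surjective]⟩
  constructor
  · intro S hS hsub hp hne
    obtain ⟨S0, rfl⟩ := key S
    have hS0 : S0 ≤ P := (Subgroup.map_le_map_iff_of_injective e.injective).1 hS
    have h2 : ⁅S0, S0⁆ = S0 := hinj (by rw [Subgroup.map_commutator]; exact hp)
    have h3 : S0 ≠ ⊥ := by
      rintro rfl
      exact hne (Subgroup.map_bot _)
    have h1 : (S0.subgroupOf P).IsSubnormal := by
      let f : P →* P.map (e : K →* K') := (e.subgroupMap P).toMonoidHom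
      have h4 := hsub.comap f
      have h5 : ((S0.map (e : K →* K')).subgroupOf (P.map (e : K →* K'))).comap f = S0.subgroupOf P := by
        ext x
        rw [Subgroup.mem_comap, Subgroup.mem_subgroupOf, Subgroup.mem_subgroupOf]
        show e (x : K) ∈ S0.map (e : K →* K') ↔ _
        constructor
        · rintro ⟨y, hy, hyx⟩
          have h6 : y = x := e.injective hyx
          rw [← h6]; exact hy
        · intro hx; exact ⟨_, hx, rfl⟩
      rwa [h5] at h4
    rw [← Subgroup.map_commutator, h.big S0 hS0 h1 h2 h3]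
  · obtain ⟨w, hw, hi⟩ := h.idx
    refine ⟨w, ?_, ?_⟩
    · exact (Nat.card_congr (e.subgroupMap R).toEquiv).symm.le.trans hw
    · intro H hH hi2
      obtain ⟨H0, rfl⟩ := key H
      have hH0 : H0 ≤ P := (Subgroup.map_le_map_iff_of_injective e.injective).1 hH
      rw [Subgroup.relIndex_map_map_of_injective _ _ e.injective] at hi2
      rw [hi H0 hH0 hi2]
  · intro α hodd hα
    let β : MulAut K := (e.trans α).trans e.symm
    have hβ : ∀ x, e (β x) = α (e x) := fun x => by
      show e (e.symm (α (e x))) = _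
      rw [MulEquiv.apply_symm_apply]
    have hpow : ∀ (n : ℕ) x, e ((β ^ n) x) = (α ^ n) (e x) := by
      intro n
      induction n with
      | zero => intro x; rfl
      | succ n ih =>
        intro x
        rw [pow_succ, pow_succ, MulAut.mul_apply, MulAut.mul_apply, ih, hβ]
    have hord : orderOf β ∣ orderOf α := by
      apply orderOf_dvd_of_pow_eq_one
      apply MulEquiv.ext
      intro x
      apply e.injective
      rw [hpow, pow_orderOf_eq_one]
      rfl
    have h1 : β = 1 := h.odd β (hodd.of_dvd_nat hord) (fun x hx => by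
      apply e.injective
      rw [hβ]
      exact hα _ ⟨x, hx, rfl⟩)
    apply MulEquiv.ext
    intro y
    obtain ⟨x, rfl⟩ := e.surjective y
    rw [← hβ, h1]
    rfl

end

end Cfsg.Agent.KFacts.InnerCaseM
end
end
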