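import Mathlib
import Cfsg.Agent.KFacts.RgdPar
import Cfsg.Agent.Nodes.Unique
import Cfsg.Agent.Nodes.NormalForm
set_option linter.all false

/-!
**Borel–Tits for a root group datum** (ODD, D10; fact (K6)), helper650.

Let `R : RGD cs h p T n X` (in a finite group `Y`, generated by the root groups and `T`), with a filtration `F` of the
root groups (`Filt R F`; for the Chevalley commutator formula: `F x s = X x` for `s ≥ 1` and `⊥` for `s < 1`).
For a real functional `f` put `V_f = ⟨F x (f x) : x⟩`, `P_f = T⟨X x : f x ≥ 0⟩`. For a `p`-subgroup `K ≠ 1` choose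
`g` and `f` with `K ≤ g V_f g⁻¹` and `∑ (f x)²` minimal: then `f` is unique in every apartment (convexity and
`V_f ∩ V_f' ≤ V_{(f+f')/2}`), and `N(K) ≤ g P_f g⁻¹`.
-/

set_option autoImplicit false
set_option linter.unusedSectionVars false

namespace Cfsg.Agent.KFacts.RgdBorelTits

open CoxeterSystem Cfsg.Agent.ChevalleyStructure.CoxeterGeom Cfsg.Agent.Tits.Roots Cfsg.Agent.Tits.Core
  Cfsg.Agent.Tits.RootComb Cfsg.Agent.Tits.Exchange Cfsg.Agent.Nodes.Reps Cfsg.Agent.Nodes.BNOf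
  Cfsg.Agent.Nodes.StabComb Cfsg.Agent.Nodes.Bruhat Cfsg.Agent.Nodes.OppDec Cfsg.Agent.Nodes.LeviDec
  Cfsg.Agent.KFacts.RgdPar
open scoped commutatorElement

variable {I W Y : Type*} [Fintype I] [DecidableEq I] [Group W] [Group Y] {M : CoxeterMatrix I}
  {cs : CoxeterSystem M W} {A : I → I → ℤ} {h : IsCartan M A} {p : ℕ} {T : Subgroup Y} {n : I → Y}
  {X : (I → ℤ) → Subgroup Y}

/-! ### real functionals -/

/-- the functional with the values `f i` on the simple roots -/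
noncomputable def ev (f : I → ℝ) : (I → ℤ) →+ ℝ where
  toFun x := ∑ i, (x i : ℝ) * f i
  map_zero' := by simp
  map_add' x y := by
    rw [← Finset.sum_add_distrib]
    refine Finset.sum_congr rfl fun i _ => ?_
    rw [Pi.add_apply, Int.cast_add]
    ring

theorem ev_apply (f : I → ℝ) (x : I → ℤ) : ev f x = ∑ i, (x i : ℝ) * f i := rfl

theorem ev_sr (f : I → ℝ) (i : I) : ev f (sr i) = f i := by
  rw [ev_apply, Finset.sum_eq_single i]
  · rw [sr_self, Int.cast_one, one_mul]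
  · intro k _ hk
    rw [sr_ne hk, Int.cast_zero, zero_mul]
  · intro hi
    exact absurd (Finset.mem_univ i) hi

theorem ev_add_left (f g : I → ℝ) (x : I → ℤ) : ev (f + g) x = ev f x + ev g x := by
  rw [ev_apply, ev_apply, ev_apply, ← Finset.sum_add_distrib]
  refine Finset.sum_congr rfl fun i _ => ?_
  rw [Pi.add_apply]
  ring

theorem ev_sub_left (f g : I → ℝ) (x : I → ℤ) : ev (f - g) x = ev f x - ev g x := by
  rw [ev_apply, ev_apply, ev_apply, ← Finset.sum_sub_distrib]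
  refine Finset.sum_congr rfl fun i _ => ?_
  rw [Pi.sub_apply]
  ring

theorem ev_smul_left (c : ℝ) (f : I → ℝ) (x : I → ℤ) : ev (c • f) x = c * ev f x := by
  rw [ev_apply, ev_apply, Finset.mul_sum]
  refine Finset.sum_congr rfl fun i _ => ?_
  rw [Pi.smul_apply, smul_eq_mul]
  ring

theorem ev_smul (f : I → ℝ) (c : ℤ) (x : I → ℤ) : ev f (c • x) = c * ev f x := by
  rw [map_zsmul, zsmul_eq_mul]

theorem ev_neg (f : I → ℝ) (x : I → ℤ) : ev f (-x) = -ev f x := map_neg _ _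

theorem ev_continuous (x : I → ℤ) : Continuous fun f : I → ℝ => ev f x := by
  simp only [ev_apply]
  exact continuous_finsetSum _ fun i _ => continuous_const.mul (continuous_apply i)

theorem ev_eq_sum (f : I → ℝ) (w : W) (x : I → ℤ) :
    ev f (rep cs h w x) = ∑ i, (x i : ℝ) * ev f (rep cs h w (sr i)) := by
  conv_lhs => rw [eq_sum_sr x]
  rw [map_sum, map_sum]
  refine Finset.sum_congr rfl fun k _ => ?_
  rw [map_zsmul, ev_smul]

theorem btwn_ev {x y z : I → ℤ} (hz : Btwn cs h x y z) :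
    ∃ a b : ℝ, 0 < a ∧ 0 < b ∧ ∀ f : I → ℝ, ev f z = a * ev f x + b * ev f y := by
  obtain ⟨-, m, a, b, hm, ha, hb, he⟩ := hz
  have hm' : (0 : ℝ) < m := by exact_mod_cast hm
  refine ⟨a / m, b / m, div_pos (by exact_mod_cast ha) hm', div_pos (by exact_mod_cast hb) hm', fun f => ?_⟩
  have h1 := congrArg (ev f) he
  rw [map_add, ev_smul, ev_smul, ev_smul] at h1
  field_simp
  linarith

/-- the functional `f ∘ w⁻¹` -/
noncomputable def act (cs : CoxeterSystem M W) (h : IsCartan M A) (w : W) (f : I → ℝ) : I → ℝ :=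
  fun i => ev f (rep cs h w⁻¹ (sr i))

theorem ev_act (w : W) (f : I → ℝ) (x : I → ℤ) : ev (act cs h w f) x = ev f (rep cs h w⁻¹ x) := by
  rw [ev_eq_sum, ev_apply]
  rfl

theorem exists_dom_real [Finite W] (f : I → ℝ) : ∃ w : W, ∀ i, 0 ≤ ev f (rep cs h w (sr i)) := by
  classical
  have hfin : (RGD.Pos cs h).Finite := (RGD.finite_roots (cs := cs) (h := h)).subset fun _ hx => hx.1
  set P : Finset (I → ℤ) := hfin.toFinset with hP
  have hmem : ∀ x, x ∈ P ↔ IsRoot cs h x ∧ 0 ≤ x := fun x => by rw [hP, Set.Finite.mem_toFinset]; rfl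
  have hrho : ∀ i, ∑ x ∈ P, rep cs h (cs.simple i) x = ∑ x ∈ P, x - (2 : ℤ) • sr i := by
    intro i
    have hi : sr i ∈ P := (hmem _).2 ⟨isRoot_sr cs h i, sr_nonneg i⟩
    have hinv : ∀ x : I → ℤ, rep cs h (cs.simple i) (rep cs h (cs.simple i) x) = x := fun x => by
      rw [← rep_mul_apply, cs.simple_mul_simple_self, map_one, Module.End.one_apply]
    have hstab : ∀ x ∈ P.erase (sr i), rep cs h (cs.simple i) x ∈ P.erase (sr i) := by
      intro x hx
      rw [Finset.mem_erase, hmem] at hx ⊢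
      obtain ⟨hxi, hx, hx0⟩ := hx
      refine ⟨?_, hx.act _, hx.simple_nonneg hx0 i hxi⟩
      intro he
      have h1 : x = - sr i := by rw [← hinv x, he, rep_simple_sr]
      rw [h1] at hx0
      exact (isRoot_sr cs h i).not_pos_neg (sr_nonneg i) (neg_nonneg.1 hx0)
    have h1 : ∑ x ∈ P.erase (sr i), rep cs h (cs.simple i) x = ∑ x ∈ P.erase (sr i), x := by
      refine Finset.sum_bij' (fun x _ => rep cs h (cs.simple i) x) (fun x _ => rep cs h (cs.simple i) x)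
        hstab hstab (fun x _ => hinv x) (fun x _ => hinv x) (fun x _ => rfl)
    rw [← Finset.add_sum_erase P _ hi, ← Finset.add_sum_erase P (fun x => x) hi, h1, rep_simple_sr]
    rw [two_smul]; abel
  obtain ⟨w, hw⟩ := Finite.exists_max (fun w : W => ev f (rep cs h w (∑ x ∈ P, x)))
  refine ⟨w, fun i => ?_⟩
  by_contra hcon
  push Not at hcon
  have h1 := hw (w * cs.simple i)
  rw [rep_mul_apply, map_sum (rep cs h (cs.simple i)), hrho i, map_sub, map_sub, map_smul, map_zsmul,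
    zsmul_eq_mul] at h1
  push_cast at h1
  linarith

/-- the sign of a dominant functional on positive vectors -/
theorem nonneg_of_dom {f : I → ℝ} {w : W} (hw : ∀ i, 0 ≤ ev f (rep cs h w (sr i))) {x : I → ℤ} (hx : 0 ≤ x) :
    0 ≤ ev f (rep cs h w x) := by
  rw [ev_eq_sum]
  exact Finset.sum_nonneg fun k _ => mul_nonneg (by exact_mod_cast hx k) (hw k)

theorem pos_of_dom {f : I → ℝ} {w : W} (hw : ∀ i, 0 ≤ ev f (rep cs h w (sr i))) {x : I → ℤ} (hx : IsRoot cs h x)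
    (h0 : 0 < ev f x) : 0 ≤ rep cs h w⁻¹ x := by
  rcases (hx.act w⁻¹).pos_or_neg with h1 | h1
  · exact h1
  · exfalso
    have h2 := nonneg_of_dom hw (neg_nonneg.2 h1)
    rw [map_neg, rep_apply_inv, ev_neg] at h2
    linarith

/-- an integral functional with the same signs -/
theorem exists_int [Finite W] (f : I → ℝ) : ∃ F : (I → ℤ) →+ ℤ, ∀ x, IsRoot cs h x →
    (0 < F x ↔ 0 < ev f x) ∧ (0 ≤ F x ↔ 0 ≤ ev f x) := by
  classical
  obtain ⟨w, hw⟩ := exists_dom_real (cs := cs) (h := h) f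
  let F0 : (I → ℤ) →+ ℤ :=
    { toFun := fun x => ∑ i, x i * (if ev f (rep cs h w (sr i)) = 0 then 0 else 1)
      map_zero' := by simp
      map_add' := fun x y => by
        rw [← Finset.sum_add_distrib]
        exact Finset.sum_congr rfl fun k _ => by rw [Pi.add_apply]; ring }
  have hF0 : ∀ x, F0 x = ∑ i, x i * (if ev f (rep cs h w (sr i)) = 0 then 0 else 1) := fun _ => rfl
  have hpos : ∀ x : I → ℤ, 0 ≤ x → 0 ≤ F0 x := fun x hx => by
    rw [hF0]
    refine Finset.sum_nonneg fun i _ => mul_nonneg (hx i) ?_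
    split_ifs <;> norm_num
  have hzero : ∀ x : I → ℤ, 0 ≤ x → (F0 x = 0 ↔ ev f (rep cs h w x) = 0) := by
    intro x hx
    have e1 : F0 x = 0 ↔ ∀ i ∈ Finset.univ, x i * (if ev f (rep cs h w (sr i)) = 0 then 0 else 1) = 0 := by
      rw [hF0]
      refine Finset.sum_eq_zero_iff_of_nonneg fun i _ => mul_nonneg (hx i) ?_
      split_ifs <;> norm_num
    have e2 : ev f (rep cs h w x) = 0 ↔ ∀ i ∈ Finset.univ, (x i : ℝ) * ev f (rep cs h w (sr i)) = 0 := by
      rw [ev_eq_sum]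
      exact Finset.sum_eq_zero_iff_of_nonneg fun i _ => mul_nonneg (by exact_mod_cast hx i) (hw i)
    rw [e1, e2]
    refine forall₂_congr fun i _ => ?_
    by_cases h0 : ev f (rep cs h w (sr i)) = 0
    · simp [h0]
    · simp [h0]
  -- signs on the roots, in standard position
  have key : ∀ x, IsRoot cs h x → (0 < F0 x ↔ 0 < ev f (rep cs h w x)) ∧ (0 ≤ F0 x ↔ 0 ≤ ev f (rep cs h w x)) := by
    have key1 : ∀ x : I → ℤ, 0 ≤ x → (0 < F0 x ↔ 0 < ev f (rep cs h w x)) := by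
      intro x hx
      rw [(hpos x hx).lt_iff_ne, (nonneg_of_dom hw hx).lt_iff_ne, ne_comm, ne_comm (a := (0 : ℝ)), Ne, Ne, hzero x hx]
    intro x hx
    rcases hx.pos_or_neg with h0 | h0
    · exact ⟨key1 x h0, ⟨fun _ => nonneg_of_dom hw h0, fun _ => hpos x h0⟩⟩
    · have h0' := neg_nonneg.2 h0
      have h1 := hpos _ h0'
      have h2 := nonneg_of_dom (f := f) hw h0'
      have h3 := key1 _ h0'
      rw [map_neg] at h1 h3
      rw [map_neg, ev_neg] at h2 h3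
      refine ⟨⟨fun h4 => by omega, fun h4 => by linarith⟩, ⟨fun h4 => ?_, fun h4 => ?_⟩⟩
      · by_contra h5
        push Not at h5
        have := h3.2 (by linarith)
        omega
      · by_contra h5
        push Not at h5
        have := h3.1 (by omega)
        linarith
  refine ⟨F0.comp (rep cs h w⁻¹).toAddMonoidHom, fun x hx => ?_⟩
  have h1 := key (rep cs h w⁻¹ x) (hx.act _)
  rwa [rep_apply_inv] at h1

/-! ### families -/

theorem le_normalizer_of_comm {ι : Sort*} (Z : ι → Subgroup Y) (H : Subgroup Y)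
    (hc : ∀ a ∈ H, ∀ i, ∀ b ∈ Z i, ⁅a, b⁆ ∈ ⨆ i, Z i) : H ≤ Subgroup.normalizer ((⨆ i, Z i : Subgroup Y) : Set Y) := by
  have key : ∀ a ∈ H, cj a (⨆ i, Z i) ≤ ⨆ i, Z i := by
    intro a ha
    rw [cj_iSup]
    refine iSup_le fun i => ?_
    intro b hb
    rw [mem_cj] at hb
    have h1 := hc a ha i _ hb
    have h2 : b = ⁅a, a⁻¹ * b * a⁆ * (a⁻¹ * b * a) := by
      rw [commutatorElement_def]; group
    rw [h2]
    exact mul_mem h1 ((le_iSup Z i) hb)
  intro a ha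
  rw [mem_normalizer_iff_cj]
  apply le_antisymm (key a ha)
  have h1 := key a⁻¹ (inv_mem ha)
  have h2 := cj_mono a h1
  rwa [cj_cj_inv] at h2

/-- the join of a family over a set -/
def FS (G : (I → ℤ) → Subgroup Y) (S : Set (I → ℤ)) : Subgroup Y := ⨆ z : S, G z.1

theorem le_FS {G : (I → ℤ) → Subgroup Y} {S : Set (I → ℤ)} {z : I → ℤ} (hz : z ∈ S) : G z ≤ FS G S :=
  le_iSup (fun z : S => G z.1) ⟨z, hz⟩

theorem FS_le {G : (I → ℤ) → Subgroup Y} {S : Set (I → ℤ)} {K : Subgroup Y} (hK : ∀ z ∈ S, G z ≤ K) : FS G S ≤ K :=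
  iSup_le fun z => hK z.1 z.2

theorem FS_mono {G G' : (I → ℤ) → Subgroup Y} {S S' : Set (I → ℤ)} (hS : ∀ z ∈ S, G z ≠ ⊥ → z ∈ S' ∧ G z ≤ G' z) :
    FS G S ≤ FS G' S' := by
  refine FS_le fun z hz => ?_
  by_cases h0 : G z = ⊥
  · rw [h0]; exact bot_le
  · obtain ⟨h1, h2⟩ := hS z hz h0
    exact le_trans h2 (le_FS h1)

open Classical in
/-- the family `G` restricted to `D` -/
noncomputable def cut (D : Set (I → ℤ)) (G : (I → ℤ) → Subgroup Y) (z : I → ℤ) : Subgroup Y :=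
  if z ∈ D then G z else ⊥

theorem cut_pos {D : Set (I → ℤ)} {G : (I → ℤ) → Subgroup Y} {z : I → ℤ} (hz : z ∈ D) : cut D G z = G z := if_pos hz

theorem cut_neg {D : Set (I → ℤ)} {G : (I → ℤ) → Subgroup Y} {z : I → ℤ} (hz : z ∉ D) : cut D G z = ⊥ := if_neg hz

theorem cut_le (D : Set (I → ℤ)) (G : (I → ℤ) → Subgroup Y) (z : I → ℤ) : cut D G z ≤ G z := by
  by_cases hz : z ∈ D
  · rw [cut_pos hz]
  · rw [cut_neg hz]; exact bot_le

/-- the family is closed under commutators of different roots of `S` -/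
def FC (cs : CoxeterSystem M W) (h : IsCartan M A) (G : (I → ℤ) → Subgroup Y) (S : Set (I → ℤ)) : Prop :=
  ∀ x ∈ S, ∀ y ∈ S, x ≠ y → ∀ a ∈ G x, ∀ b ∈ G y, ⁅a, b⁆ ∈ FS G {z | Btwn cs h x y z}

section Inf

variable (R : RGD cs h p T n X)

include R

omit R in
theorem FC.mono {G : (I → ℤ) → Subgroup Y} {S S' : Set (I → ℤ)} (hG : FC cs h G S) (hS : S' ⊆ S) : FC cs h G S' :=
  fun x hx y hy hxy a ha b hb => hG x (hS hx) y (hS hy) hxy a ha b hb

omit R in
open Cfsg.Agent.Nodes.Unique in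
theorem mem_peelF {G : (I → ℤ) → Subgroup Y} {w : W} {i : I} (hi : 0 ≤ rep cs h w (sr i))
    (hG : FC cs h G (Fut cs h w)) {g : Y} (hg : g ∈ FS G (Fut cs h w)) :
    ∃ a ∈ G (rep cs h w (sr i)), ∃ b ∈ FS G (Fut cs h (w * cs.simple i)), g = a * b := by
  set x := rep cs h w (sr i) with hxdef
  have hx : x ∈ Fut cs h w := mem_fut hi
  have hn : G x ≤ Subgroup.normalizer (FS G (Fut cs h (w * cs.simple i)) : Set Y) := by
    refine le_normalizer_of_comm _ _ ?_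
    rintro a ha ⟨y, hy⟩ b hb
    have hy' := hy
    rw [fut_mul hi] at hy'
    refine FS_le ?_ (hG x hx y hy'.1 (fun e => hy'.2 e.symm) a ha b hb)
    intro z hz
    refine le_FS (S := Fut cs h (w * cs.simple i)) ?_
    rw [fut_mul hi]
    exact ⟨closed_fut w x hx y hy'.1 z hz, btwn_ne_left hx.1 hy'.1.1 hx.2.1 hy'.1.2.1 (fun e => hy'.2 e.symm) hz⟩
  have h1 : FS G (Fut cs h w) ≤ G x ⊔ FS G (Fut cs h (w * cs.simple i)) := by
    refine FS_le fun z hz => ?_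
    by_cases hz0 : z = x
    · rw [hz0]; exact le_sup_left
    · refine le_trans (le_FS (S := Fut cs h (w * cs.simple i)) ?_) le_sup_right
      rw [fut_mul hi]
      exact ⟨hz, hz0⟩
  have h2 : g ∈ ((G x ⊔ FS G (Fut cs h (w * cs.simple i)) : Subgroup Y) : Set Y) := h1 hg
  rw [Subgroup.coe_mul_of_left_le_normalizer_right _ _ hn, Set.mem_mul] at h2
  obtain ⟨a, ha, b, hb, e⟩ := h2
  exact ⟨a, ha, b, hb, e.symm⟩

open Cfsg.Agent.Nodes.Unique in
theorem inf_fut [Finite W] {G G' : (I → ℤ) → Subgroup Y} (w : W) (hG : FC cs h G (Fut cs h w))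
    (hG' : FC cs h G' (Fut cs h w)) (hX : ∀ x ∈ Fut cs h w, G x ≤ X x) (hX' : ∀ x ∈ Fut cs h w, G' x ≤ X x) :
    FS G (Fut cs h w) ⊓ FS G' (Fut cs h w) ≤ FS (fun x => G x ⊓ G' x) (Fut cs h w) := by
  induction hn : (Fut cs h w).ncard generalizing w with
  | zero =>
    have h1 := (Set.ncard_eq_zero (finite_fut w)).1 hn
    rw [h1]
    refine le_trans inf_le_left (FS_le fun z hz => absurd hz (Set.notMem_empty z))
  | succ k ih =>
    have hne : (Fut cs h w).Nonempty := by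
      rw [Set.nonempty_iff_ne_empty]
      intro h1
      rw [h1, Set.ncard_empty] at hn
      omega
    obtain ⟨y, hy⟩ := hne
    obtain ⟨i, hi⟩ := exists_simple hy
    have hcard : (Fut cs h (w * cs.simple i)).ncard = k := by
      rw [fut_mul hi, Set.ncard_sdiff_singleton_of_mem (mem_fut hi), hn]
      rfl
    have hsub : Fut cs h (w * cs.simple i) ⊆ Fut cs h w := by
      rw [fut_mul hi]; exact Set.sdiff_subset
    have key := ih (w * cs.simple i) (hG.mono hsub) (hG'.mono hsub) (fun x hx => hX x (hsub hx))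
      (fun x hx => hX' x (hsub hx)) hcard
    rintro g ⟨hg, hg'⟩
    obtain ⟨a, ha, b, hb, e⟩ := mem_peelF hi hG hg
    obtain ⟨a', ha', b', hb', e'⟩ := mem_peelF hi hG' hg'
    have hbX : b ∈ RGD.Sup X (Fut cs h (w * cs.simple i)) :=
      FS_le (fun z hz => le_trans (hX z (hsub hz)) (RGD.le_Sup hz)) hb
    have hbX' : b' ∈ RGD.Sup X (Fut cs h (w * cs.simple i)) :=
      FS_le (fun z hz => le_trans (hX' z (hsub hz)) (RGD.le_Sup hz)) hb'
    have h1 : a'⁻¹ * a = b' * b⁻¹ := by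
      have h2 : a * b = a' * b' := by rw [← e, ← e']
      have h3 : a'⁻¹ * a = a'⁻¹ * (a * b) * b⁻¹ := by group
      rw [h3, h2]; group
    have h2 : a'⁻¹ * a = 1 := by
      have h3 : a'⁻¹ * a ∈ X (rep cs h w (sr i)) ⊓ RGD.Sup X (Fut cs h (w * cs.simple i)) := by
        have h5 : a' ∈ X (rep cs h w (sr i)) := hX' _ (mem_fut hi) ha'
        have h6 : a ∈ X (rep cs h w (sr i)) := hX _ (mem_fut hi) ha
        refine Subgroup.mem_inf.2 ⟨mul_mem (inv_mem h5) h6, ?_⟩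
        rw [h1]
        exact mul_mem hbX' (inv_mem hbX)
      rw [tail_inf R, Subgroup.mem_bot] at h3
      exact h3
    have h3 : a' = a := inv_mul_eq_one.1 h2
    have h4 : b' = b := by
      rw [h2] at h1
      exact mul_inv_eq_one.1 h1.symm
    rw [e]
    refine mul_mem ((le_FS (G := fun x => G x ⊓ G' x) (mem_fut hi)) ⟨ha, h3 ▸ ha'⟩) ?_
    have h5 := key ⟨hb, h4 ▸ hb'⟩
    exact FS_mono (fun z hz _ => ⟨hsub hz, le_rfl⟩) h5

/-- the positive system of `w` -/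
def PS' (cs : CoxeterSystem M W) (h : IsCartan M A) (w : W) : Set (I → ℤ) := {x | IsRoot cs h x ∧ 0 ≤ rep cs h w⁻¹ x}

theorem inf_w [Finite W] {G G' : (I → ℤ) → Subgroup Y} (w : W) (hG : FC cs h G (PS' cs h w))
    (hG' : FC cs h G' (PS' cs h w)) (hX : ∀ x ∈ PS' cs h w, G x ≤ X x) (hX' : ∀ x ∈ PS' cs h w, G' x ≤ X x) :
    FS G (PS' cs h w) ⊓ FS G' (PS' cs h w) ≤ FS (fun x => G x ⊓ G' x) (PS' cs h w) := by
  obtain ⟨g, hg⟩ := exists_rp cs R.nsys w
  have hmem : ∀ y, y ∈ Cfsg.Agent.Nodes.Unique.Fut cs h (1 : W) → rep cs h w y ∈ PS' cs h w := by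
    rintro y ⟨hy, h0, -⟩
    exact ⟨hy.act w, by rwa [rep_inv_apply]⟩
  have hFC : ∀ {G : (I → ℤ) → Subgroup Y}, FC cs h G (PS' cs h w) →
      FC cs h (fun y => cj g⁻¹ (G (rep cs h w y))) (Cfsg.Agent.Nodes.Unique.Fut cs h (1 : W)) := by
    intro G hG x hx y hy hxy a ha b hb
    have ha' : g * a * g⁻¹ ∈ G (rep cs h w x) := by
      have := mem_cj.1 ha
      rwa [inv_inv] at this
    have hb' : g * b * g⁻¹ ∈ G (rep cs h w y) := by
      have := mem_cj.1 hb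
      rwa [inv_inv] at this
    have h1 := hG _ (hmem x hx) _ (hmem y hy) (fun e => hxy (by
      have := congrArg (rep cs h w⁻¹) e
      rwa [rep_inv_apply, rep_inv_apply] at this)) _ ha' _ hb'
    have h2 : ⁅g * a * g⁻¹, g * b * g⁻¹⁆ = g * ⁅a, b⁆ * g⁻¹ := by
      rw [commutatorElement_def, commutatorElement_def]; group
    rw [h2] at h1
    have h3 : ⁅a, b⁆ ∈ cj g⁻¹ (FS G {z | Btwn cs h (rep cs h w x) (rep cs h w y) z}) := by
      rw [mem_cj, inv_inv]; exact h1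
    unfold FS at h3
    rw [cj_iSup] at h3
    refine (iSup_le ?_ : (⨆ z : {z | Btwn cs h (rep cs h w x) (rep cs h w y) z}, cj g⁻¹ (G z.1)) ≤ _) h3
    rintro ⟨z, hz⟩
    have h4 : Btwn cs h x y (rep cs h w⁻¹ z) := by
      have := Btwn.act (show Btwn cs h _ _ z from hz) w⁻¹
      rwa [rep_inv_apply, rep_inv_apply] at this
    have h5 := le_FS (G := fun y => cj g⁻¹ (G (rep cs h w y))) (S := {z | Btwn cs h x y z}) (z := rep cs h w⁻¹ z) h4
    beta_reduce at h5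
    rw [rep_apply_inv] at h5
    exact h5
  have hcX : ∀ {G : (I → ℤ) → Subgroup Y}, (∀ x ∈ PS' cs h w, G x ≤ X x) →
      ∀ y ∈ Cfsg.Agent.Nodes.Unique.Fut cs h (1 : W), cj g⁻¹ (G (rep cs h w y)) ≤ X y := by
    intro G hG y hy
    have h1 := cj_mono g⁻¹ (hG _ (hmem y hy))
    rwa [R.conj_rp hg.inv (hy.1.act w), rep_inv_apply] at h1
  have hcj : ∀ {G : (I → ℤ) → Subgroup Y}, cj g⁻¹ (FS G (PS' cs h w)) =
      FS (fun y => cj g⁻¹ (G (rep cs h w y))) (Cfsg.Agent.Nodes.Unique.Fut cs h (1 : W)) := by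
    intro G
    unfold FS
    rw [cj_iSup]
    apply le_antisymm
    · refine iSup_le ?_
      rintro ⟨z, hz⟩
      have h4 : rep cs h w⁻¹ z ∈ Cfsg.Agent.Nodes.Unique.Fut cs h (1 : W) :=
        ⟨hz.1.act _, hz.2, by rw [inv_one, map_one, Module.End.one_apply]; exact hz.2⟩
      have h5 := le_FS (G := fun y => cj g⁻¹ (G (rep cs h w y))) h4
      beta_reduce at h5
      rw [rep_apply_inv] at h5
      exact h5
    · refine iSup_le ?_
      rintro ⟨y, hy⟩
      exact le_iSup (fun z : PS' cs h w => cj g⁻¹ (G z.1)) ⟨_, hmem y hy⟩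
  rintro u ⟨hu, hu'⟩
  have h1 : ∀ {G : (I → ℤ) → Subgroup Y}, u ∈ FS G (PS' cs h w) → g⁻¹ * u * g ∈
      FS (fun y => cj g⁻¹ (G (rep cs h w y))) (Cfsg.Agent.Nodes.Unique.Fut cs h (1 : W)) := by
    intro G hu
    rw [← hcj, mem_cj]
    have : g⁻¹⁻¹ * (g⁻¹ * u * g) * g⁻¹ = u := by group
    rwa [this]
  have h2 := inf_fut R (1 : W) (hFC hG) (hFC hG') (hcX hX) (hcX hX') ⟨h1 hu, h1 hu'⟩
  have h3 : g⁻¹ * u * g ∈ cj g⁻¹ (FS (fun x => G x ⊓ G' x) (PS' cs h w)) := by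
    rw [hcj]
    refine FS_mono (fun z hz _ => ⟨hz, ?_⟩) h2
    rintro v ⟨hv, hv'⟩
    exact mem_cj.2 ⟨mem_cj.1 hv, mem_cj.1 hv'⟩
  rw [mem_cj] at h3
  have : g⁻¹⁻¹ * (g⁻¹ * u * g) * g⁻¹ = u := by group
  rwa [this] at h3

omit R in
theorem btwn_pos_real {x y z : I → ℤ} (hz : Btwn cs h x y z) (f : I → ℝ) (hx : 0 < ev f x) (hy : 0 ≤ ev f y) :
    0 < ev f z := by
  obtain ⟨a, b, ha, hb, e⟩ := btwn_ev hz
  rw [e]
  have := mul_pos ha hx
  have := mul_nonneg hb.le hy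
  linarith

omit R in
theorem FC.restr {G : (I → ℤ) → Subgroup Y} {S D : Set (I → ℤ)} (hG : FC cs h G S)
    (hD : ∀ x ∈ D, ∀ y ∈ D, ∀ z, Btwn cs h x y z → z ∈ D) : FC cs h (cut D G) S := by
  intro x hx y hy hxy a ha b hb
  by_cases hxD : x ∈ D
  · by_cases hyD : y ∈ D
    · rw [cut_pos hxD] at ha
      rw [cut_pos hyD] at hb
      refine FS_mono (G := G) (G' := cut D G) (fun z hz _ => ⟨hz, ?_⟩) (hG x hx y hy hxy a ha b hb)
      rw [cut_pos (hD x hxD y hyD z hz)]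
    · rw [cut_neg hyD, Subgroup.mem_bot] at hb
      rw [hb, commutatorElement_one_right]
      exact one_mem _
  · rw [cut_neg hxD, Subgroup.mem_bot] at ha
    rw [ha, commutatorElement_one_left]
    exact one_mem _

theorem FC_X (w : W) : FC cs h X (PS' cs h w) := by
  intro x hx y hy hxy a ha b hb
  refine (iSup_le ?_ : btw cs h X x y ≤ _) (R.comm x y hx.1 hy.1 hxy ?_ a ha b hb)
  · rintro ⟨z, hz⟩
    exact le_FS (G := X) hz
  · rintro rfl
    have h1 := hx.2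
    rw [map_neg] at h1
    exact (hy.1.act w⁻¹).not_pos_neg hy.2 (neg_nonneg.1 h1)

end Inf

/-! ### filtrations -/

/-- a filtration of the root groups compatible with the commutator relations -/
structure Filt (R : RGD cs h p T n X) (F : (I → ℤ) → ℝ → Subgroup Y) : Prop where
  le : ∀ x s, IsRoot cs h x → F x s ≤ X x
  mono : ∀ x s s', IsRoot cs h x → s ≤ s' → F x s ≤ F x s'
  neg : ∀ x s, IsRoot cs h x → s ≤ 0 → F x s = ⊥
  full : ∃ C : ℝ, 0 < C ∧ ∀ x s, IsRoot cs h x → C ≤ s → X x ≤ F x s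
  closed : ∀ x, IsRoot cs h x → ∀ u, IsClosed {s | u ∈ F x s}
  conj : ∀ i x s, IsRoot cs h x → cj (n i) (F x s) = F (rep cs h (cs.simple i) x) s
  tor : ∀ x s, IsRoot cs h x → ∀ t ∈ T, cj t (F x s) = F x s
  nrm : ∀ x s, IsRoot cs h x → X x ≤ Subgroup.normalizer (F x s : Set Y)
  comm : ∀ (f : I → ℝ) x y, IsRoot cs h x → IsRoot cs h y → x ≠ y → x ≠ -y → 0 < ev f x → 0 ≤ ev f y →
    ∀ a ∈ F x (ev f x), ∀ b ∈ X y, ⁅a, b⁆ ∈ FS (fun z => F z (ev f z)) {z | Btwn cs h x y z}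

/-- `V_f` -/
noncomputable def VV (cs : CoxeterSystem M W) (h : IsCartan M A) (F : (I → ℤ) → ℝ → Subgroup Y) (f : I → ℝ) :
    Subgroup Y :=
  FS (fun z => F z (ev f z)) {z | IsRoot cs h z}

/-- the half space of a real functional -/
def HalfR (cs : CoxeterSystem M W) (h : IsCartan M A) (f : I → ℝ) : Set (I → ℤ) := {x | IsRoot cs h x ∧ 0 ≤ ev f x}

section Filtration

variable {R : RGD cs h p T n X} {F : (I → ℤ) → ℝ → Subgroup Y} (hF : Filt R F)

include hF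

theorem Filt.conj_rp {w : W} {g : Y} (hg : Rp cs R.nsys w g) {x : I → ℤ} (hx : IsRoot cs h x) (s : ℝ) :
    cj g (F x s) = F (rep cs h w x) s := by
  have key : ∀ ω : List I, ∀ x, IsRoot cs h x → ∃ k, Rp cs R.nsys (cs.wordProd ω) k ∧
      cj k (F x s) = F (rep cs h (cs.wordProd ω) x) s := by
    intro ω
    induction ω with
    | nil =>
      intro x _
      exact ⟨1, by rw [wordProd_nil]; exact rp_one, by rw [wordProd_nil, cj_one, map_one, Module.End.one_apply]⟩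
    | cons i ω ih =>
      intro x hx
      obtain ⟨k, hk, e⟩ := ih x hx
      refine ⟨n i * k, ?_, ?_⟩
      · rw [wordProd_cons]; exact (rp_simple cs R.nsys i).mul hk
      · rw [cj_mul, e, hF.conj i _ s (hx.act _), ← rep_mul_apply, wordProd_cons]
  obtain ⟨ω, rfl⟩ := cs.wordProd_surjective w
  obtain ⟨k, hk, e⟩ := key ω x hx
  have h1 : g = k * (k⁻¹ * g) := by group
  rw [h1, cj_mul, hF.tor x s hx _ (hk.unique hg), e]

theorem Filt.pos_of_ne {x : I → ℤ} {s : ℝ} (hx : IsRoot cs h x) (h0 : F x s ≠ ⊥) : 0 < s := by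
  by_contra h1
  exact h0 (hF.neg x s hx (not_lt.1 h1))

theorem cj_VV {w : W} {g : Y} (hg : Rp cs R.nsys w g) (f : I → ℝ) : cj g (VV cs h F f) = VV cs h F (act cs h w f) := by
  unfold VV FS
  rw [cj_iSup]
  apply le_antisymm
  · refine iSup_le ?_
    rintro ⟨z, hz⟩
    have hz' : IsRoot cs h z := hz
    have h1 : cj g (F z (ev f z)) = F (rep cs h w z) (ev (act cs h w f) (rep cs h w z)) := by
      rw [hF.conj_rp hg hz', ev_act, rep_inv_apply]
    show cj g (F z (ev f z)) ≤ _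
    rw [h1]
    exact le_iSup (fun z : {z | IsRoot cs h z} => F z.1 (ev (act cs h w f) z.1)) ⟨_, hz'.act w⟩
  · refine iSup_le ?_
    rintro ⟨z, hz⟩
    have hz' : IsRoot cs h z := hz
    have h1 : F z (ev (act cs h w f) z) = cj g (F (rep cs h w⁻¹ z) (ev f (rep cs h w⁻¹ z))) := by
      rw [hF.conj_rp hg (hz'.act _), ev_act, rep_apply_inv]
    show F z (ev (act cs h w f) z) ≤ _
    rw [h1]
    exact le_iSup (fun z : {z | IsRoot cs h z} => cj g (F z.1 (ev f z.1))) ⟨_, hz'.act w⁻¹⟩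

omit hF in
theorem cj_Pf {w : W} {g : Y} (hg : Rp cs R.nsys w g) (f : I → ℝ) :
    cj g (PS T X (HalfR cs h f)) = PS T X (HalfR cs h (act cs h w f)) := by
  rw [cj_PS R hg (fun x hx => hx.1)]
  congr 1
  ext x
  show IsRoot cs h (rep cs h w⁻¹ x) ∧ 0 ≤ ev f (rep cs h w⁻¹ x) ↔ IsRoot cs h x ∧ 0 ≤ ev (act cs h w f) x
  rw [ev_act]
  refine and_congr_left fun _ => ⟨fun h1 => ?_, fun h1 => h1.act _⟩
  have := h1.act w
  rwa [rep_apply_inv] at this

theorem Pf_le_normalizer (f : I → ℝ) : PS T X (HalfR cs h f) ≤ Subgroup.normalizer (VV cs h F f : Set Y) := by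
  refine sup_le ?_ (RGD.Sup_le fun y hy => ?_)
  · intro t ht
    rw [mem_normalizer_iff_cj]
    unfold VV FS
    rw [cj_iSup]
    refine iSup_congr ?_
    rintro ⟨z, hz⟩
    exact hF.tor z _ hz t ht
  · refine le_normalizer_of_comm _ _ ?_
    rintro a ha ⟨z, hz⟩ b hb
    have hz' : IsRoot cs h z := hz
    by_cases h0 : ev f z ≤ 0
    · have hb' : b ∈ F z (ev f z) := hb
      rw [hF.neg z _ hz' h0, Subgroup.mem_bot] at hb'
      rw [hb', commutatorElement_one_right]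
      exact one_mem _
    push Not at h0
    by_cases hzy : z = y
    · subst hzy
      have h1 := (Subgroup.mem_normalizer_iff.1 (hF.nrm z (ev f z) hz' ha) b).1 hb
      refine (le_FS (G := fun z => F z (ev f z)) (S := {z | IsRoot cs h z}) (z := z) hz) ?_
      rw [commutatorElement_def]
      exact mul_mem h1 (inv_mem hb)
    by_cases hzy' : z = -y
    · exfalso
      have h1 := hy.2
      rw [hzy', ev_neg] at h0
      linarith
    have h1 := hF.comm f z y hz' hy.1 hzy hzy' h0 hy.2 b hb a ha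
    rw [← commutatorElement_inv]
    have h2 : FS (fun z => F z (ev f z)) {u | Btwn cs h z y u} ≤ FS (fun z => F z (ev f z)) {z | IsRoot cs h z} :=
      FS_le fun u hu => le_FS (G := fun z => F z (ev f z)) (S := {z | IsRoot cs h z}) (show Btwn cs h z y u from hu).1
    exact inv_mem (h2 h1)

theorem VV_le_Sup (f : I → ℝ) : VV cs h F f ≤ RGD.Sup X {x | IsRoot cs h x ∧ 0 < ev f x} := by
  refine FS_le fun z hz => ?_
  have hz' : IsRoot cs h z := hz
  by_cases h0 : F z (ev f z) = ⊥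
  · rw [h0]; exact bot_le
  · exact le_trans (hF.le z _ hz') (RGD.le_Sup (S := {x | IsRoot cs h x ∧ 0 < ev f x}) ⟨hz', hF.pos_of_ne hz' h0⟩)

theorem VV_le_Pf (f : I → ℝ) : VV cs h F f ≤ PS T X (HalfR cs h f) :=
  le_trans (VV_le_Sup hF f) (le_trans (RGD.Sup_mono (S := {x | IsRoot cs h x ∧ 0 < ev f x}) (S' := HalfR cs h f)
    fun _ hx => ⟨hx.1, hx.2.le⟩) Sup_le_PS)

theorem FC_filt (f : I → ℝ) {S : Set (I → ℤ)} (hS : ∀ x ∈ S, IsRoot cs h x) : FC cs h (fun z => F z (ev f z)) S := by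
  intro x hx y hy hxy a ha b hb
  have hx' := hS x hx
  have hy' := hS y hy
  by_cases h0 : 0 < ev f x
  · by_cases h1 : 0 < ev f y
    · refine hF.comm f x y hx' hy' hxy ?_ h0 h1.le a ha b (hF.le y _ hy' hb)
      rintro rfl
      rw [ev_neg] at h0
      linarith
    · have hb' : b ∈ F y (ev f y) := hb
      rw [hF.neg y _ hy' (not_lt.1 h1), Subgroup.mem_bot] at hb'
      rw [hb', commutatorElement_one_right]
      exact one_mem _
  · have ha' : a ∈ F x (ev f x) := ha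
    rw [hF.neg x _ hx' (not_lt.1 h0), Subgroup.mem_bot] at ha'
    rw [ha', commutatorElement_one_left]
    exact one_mem _

/-- **The intersection formula.** -/
theorem inter_VV [Finite W] (f f' : I → ℝ) :
    VV cs h F f ⊓ VV cs h F f' ≤ VV cs h F ((1 / 2 : ℝ) • (f + f')) := by
  rintro u ⟨hu, hu'⟩
  obtain ⟨F1, hF1⟩ := exists_int (cs := cs) (h := h) f
  obtain ⟨F2, hF2⟩ := exists_int (cs := cs) (h := h) f'
  set D : Set (I → ℤ) := {x | IsRoot cs h x ∧ 0 < ev f x ∧ 0 < ev f' x} with hDdef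
  have hu1 : u ∈ RGD.Sup X {x | IsRoot cs h x ∧ 0 < F1 x} :=
    RGD.Sup_mono (S := {x | IsRoot cs h x ∧ 0 < ev f x}) (S' := {x | IsRoot cs h x ∧ 0 < F1 x})
      (fun x hx => ⟨hx.1, (hF1 x hx.1).1.2 hx.2⟩) (VV_le_Sup hF f hu)
  have hu2 : u ∈ RGD.Sup X {x | IsRoot cs h x ∧ 0 < F2 x} :=
    RGD.Sup_mono (S := {x | IsRoot cs h x ∧ 0 < ev f' x}) (S' := {x | IsRoot cs h x ∧ 0 < F2 x})
      (fun x hx => ⟨hx.1, (hF2 x hx.1).1.2 hx.2⟩) (VV_le_Sup hF f' hu')
  have hD : ∀ x ∈ D, ∀ y ∈ D, ∀ z, Btwn cs h x y z → z ∈ D := fun x hx y hy z hz =>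
    ⟨hz.1, btwn_pos_real hz f hx.2.1 hy.2.1.le, btwn_pos_real hz f' hx.2.2 hy.2.2.le⟩
  -- `u ∈ ⟨X x : x ∈ D⟩`
  have huD : u ∈ RGD.Sup X D := by
    have hS : Nodes.Slope.Closed cs h {x | IsRoot cs h x ∧ 0 < F1 x} :=
      ⟨fun x hx => hx.1, fun x hx y hy z hz => ⟨hz.1, Nodes.Slope.btwn_pos' hz F1 hx.2 hy.2.le⟩⟩
    obtain ⟨a, ha, c, hc, e⟩ := Nodes.Slope.split R hS F1 F2 (fun x hx => hx.2) hu1
    have ha2 : a ∈ RGD.Sup X {x | IsRoot cs h x ∧ 0 < F2 x} :=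
      RGD.Sup_mono (S := {x | x ∈ {x | IsRoot cs h x ∧ 0 < F1 x} ∧ 0 < F2 x}) (S' := {x | IsRoot cs h x ∧ 0 < F2 x})
        (fun x hx => ⟨hx.1.1, hx.2⟩) ha
    have hc2 : c ∈ RGD.Sup X {x | IsRoot cs h x ∧ 0 < F2 x} := by
      have : c = a⁻¹ * u := by rw [e]; group
      rw [this]
      exact mul_mem (inv_mem ha2) hu2
    have hc3 : c ∈ RGD.Sup X {x | IsRoot cs h x ∧ F2 x ≤ 0 ∧ 0 < F1 x} :=
      RGD.Sup_mono (S := {x | x ∈ {x | IsRoot cs h x ∧ 0 < F1 x} ∧ F2 x ≤ 0})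
        (S' := {x | IsRoot cs h x ∧ F2 x ≤ 0 ∧ 0 < F1 x}) (fun x hx => ⟨hx.1.1, hx.2, hx.1.2⟩) hc
    have hc1 := Nodes.Slope.sup_inf_sup' R F2 F1 hc2 hc3
    rw [e, hc1, mul_one]
    exact RGD.Sup_mono (S := {x | x ∈ {x | IsRoot cs h x ∧ 0 < F1 x} ∧ 0 < F2 x}) (S' := D)
      (fun x hx => ⟨hx.1.1, (hF1 x hx.1.1).1.1 hx.1.2, (hF2 x hx.1.1).1.1 hx.2⟩) ha
  have hroot : ∀ w : W, ∀ x ∈ PS' cs h w, IsRoot cs h x := fun w x hx => hx.1
  -- one side
  have side : ∀ f0 : I → ℝ, (∀ x ∈ D, 0 < ev f0 x) → u ∈ VV cs h F f0 →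
      u ∈ FS (cut D fun z => F z (ev f0 z)) {z | IsRoot cs h z} := by
    intro f0 hf0 hu0
    obtain ⟨w, hw⟩ := exists_dom_real (cs := cs) (h := h) f0
    have h1 : u ∈ FS (fun z => F z (ev f0 z)) (PS' cs h w) :=
      FS_mono (G := fun z => F z (ev f0 z)) (G' := fun z => F z (ev f0 z)) (S := {z | IsRoot cs h z})
        (S' := PS' cs h w) (fun z hz h0 => ⟨⟨hz, pos_of_dom hw hz (hF.pos_of_ne hz h0)⟩, le_rfl⟩) hu0
    have h2 : u ∈ FS (cut D X) (PS' cs h w) := by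
      refine RGD.Sup_le (fun z hz => ?_) huD
      have h3 : z ∈ PS' cs h w := ⟨hz.1, pos_of_dom hw hz.1 (hf0 z hz)⟩
      refine le_trans ?_ (le_FS (G := cut D X) h3)
      rw [cut_pos hz]
    have h3 := inf_w R w (FC_filt hF f0 (hroot w)) ((FC_X R w).restr hD) (fun x hx => hF.le x _ hx.1)
      (fun x _ => cut_le D X x) (Subgroup.mem_inf.2 ⟨h1, h2⟩)
    refine FS_mono (G := fun x => F x (ev f0 x) ⊓ cut D X x) (G' := cut D fun z => F z (ev f0 z))
      (fun z hz h0 => ⟨hz.1, ?_⟩) h3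
    by_cases hzD : z ∈ D
    · rw [cut_pos hzD, cut_pos hzD]; exact inf_le_left
    · rw [cut_neg hzD]; exact le_trans inf_le_right bot_le
  have h1 := side f (fun x hx => hx.2.1) hu
  have h2 := side f' (fun x hx => hx.2.2) hu'
  obtain ⟨w, hw⟩ := exists_dom_real (cs := cs) (h := h) f
  have hw' : ∀ f0 : I → ℝ, FS (cut D fun z => F z (ev f0 z)) {z | IsRoot cs h z} ≤
      FS (cut D fun z => F z (ev f0 z)) (PS' cs h w) := by
    intro f0
    refine FS_mono fun z hz h0 => ⟨?_, le_rfl⟩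
    by_cases hzD : z ∈ D
    · exact ⟨hz, pos_of_dom hw hz hzD.2.1⟩
    · exact absurd (cut_neg hzD) h0
  have hle : ∀ f0 : I → ℝ, ∀ x ∈ PS' cs h w, (cut D fun z => F z (ev f0 z)) x ≤ X x := fun f0 x hx =>
    le_trans (cut_le D _ x) (hF.le x _ hx.1)
  have h3 := inf_w R w ((FC_filt hF f (hroot w)).restr hD) ((FC_filt hF f' (hroot w)).restr hD) (hle f) (hle f')
    (Subgroup.mem_inf.2 ⟨hw' f h1, hw' f' h2⟩)
  refine FS_mono (G := fun x => cut D (fun z => F z (ev f z)) x ⊓ cut D (fun z => F z (ev f' z)) x)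
    (G' := fun z => F z (ev ((1 / 2 : ℝ) • (f + f')) z)) (S := PS' cs h w) (S' := {z | IsRoot cs h z})
    (fun z hz h0 => ⟨hz.1, ?_⟩) h3
  refine le_trans (inf_le_inf (cut_le _ _ _) (cut_le _ _ _)) ?_
  rw [ev_smul_left, ev_add_left]
  rcases le_total (ev f z) (ev f' z) with h4 | h4
  · exact le_trans inf_le_left (hF.mono z _ _ hz.1 (by linarith))
  · exact le_trans inf_le_right (hF.mono z _ _ hz.1 (by linarith))

/-- two parabolic subgroups and the torus normaliser -/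
theorem exists_bruhat [Finite W] (f f' : I → ℝ) {g : Y} (hg : g ∈ GG cs h T X) :
    ∃ a ∈ PS T X (HalfR cs h f), ∃ w k, Rp cs R.nsys w k ∧ ∃ b ∈ PS T X (HalfR cs h f'), g = a * k * b := by
  have key : ∀ f : I → ℝ, ∃ w k, Rp cs R.nsys w k ∧ cj k (RGD.B cs h T X) ≤ PS T X (HalfR cs h f) := by
    intro f
    obtain ⟨w, hw⟩ := exists_dom_real (cs := cs) (h := h) f
    obtain ⟨k, hk⟩ := exists_rp cs R.nsys w
    refine ⟨w, k, hk, ?_⟩
    have h1 : RGD.B cs h T X = PS T X (RGD.Pos cs h) := rfl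
    rw [h1, cj_PS R hk (fun x hx => hx.1)]
    refine PS_mono fun x hx => ?_
    have hx' : IsRoot cs h (rep cs h w⁻¹ x) ∧ 0 ≤ rep cs h w⁻¹ x := hx
    have h2 := hx'.1.act w
    rw [rep_apply_inv] at h2
    refine ⟨h2, ?_⟩
    have h3 := nonneg_of_dom hw hx'.2
    rwa [rep_apply_inv] at h3
  obtain ⟨w1, k1, hk1, h1⟩ := key f
  obtain ⟨w2, k2, hk2, h2⟩ := key f'
  have hN : NN cs R.nsys ≤ GG cs h T X := NN_le_GG R
  have hg' : k1⁻¹ * g * k2 ∈ GG cs h T X := mul_mem (mul_mem (inv_mem (hN ⟨w1, hk1⟩)) hg) (hN ⟨w2, hk2⟩)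
  obtain ⟨w, b₁, hb₁, k, hk, b₂, hb₂, e⟩ := (mem_GG R).1 hg'
  refine ⟨k1 * b₁ * k1⁻¹, h1 (conj_mem_cj.2 hb₁), w1 * w * w2⁻¹, k1 * k * k2⁻¹, (hk1.mul hk).mul hk2.inv,
    k2 * b₂ * k2⁻¹, h2 (conj_mem_cj.2 hb₂), ?_⟩
  have h3 : g = k1 * (k1⁻¹ * g * k2) * k2⁻¹ := by group
  rw [h3, e]; group

end Filtration

/-! ### the norm -/

/-- the norm `∑ (f x)²` -/
noncomputable def QQ (Φ : Finset (I → ℤ)) (f : I → ℝ) : ℝ := ∑ x ∈ Φ, (ev f x) ^ 2

theorem QQ_nonneg (Φ : Finset (I → ℤ)) (f : I → ℝ) : 0 ≤ QQ Φ f := Finset.sum_nonneg fun _ _ => sq_nonneg _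

theorem QQ_continuous (Φ : Finset (I → ℤ)) : Continuous (QQ Φ) :=
  continuous_finsetSum _ fun x _ => (ev_continuous x).pow 2

theorem sq_le_QQ {Φ : Finset (I → ℤ)} (hΦ : ∀ i, sr i ∈ Φ) (f : I → ℝ) (i : I) : (f i) ^ 2 ≤ QQ Φ f := by
  have h1 := Finset.single_le_sum (f := fun x => (ev f x) ^ 2) (fun _ _ => sq_nonneg _) (hΦ i)
  simp only [ev_sr] at h1
  exact h1

theorem QQ_half (Φ : Finset (I → ℤ)) (f g : I → ℝ) :
    QQ Φ ((1 / 2 : ℝ) • (f + g)) = QQ Φ f / 2 + QQ Φ g / 2 - QQ Φ (f - g) / 4 := by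
  unfold QQ
  rw [Finset.sum_div, Finset.sum_div, Finset.sum_div, ← Finset.sum_add_distrib, ← Finset.sum_sub_distrib]
  refine Finset.sum_congr rfl fun x _ => ?_
  rw [ev_smul_left, ev_add_left, ev_sub_left]
  ring

theorem eq_of_QQ {Φ : Finset (I → ℤ)} (hΦ : ∀ i, sr i ∈ Φ) {f g : I → ℝ} (h0 : QQ Φ (f - g) ≤ 0) : f = g := by
  funext i
  have h1 := sq_le_QQ hΦ (f - g) i
  rw [Pi.sub_apply] at h1
  have h2 : (f i - g i) ^ 2 = 0 := le_antisymm (by linarith) (sq_nonneg _)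
  have h3 := pow_eq_zero_iff (two_ne_zero) |>.1 h2
  linarith

theorem QQ_act {Φ : Finset (I → ℤ)} (hΦ : ∀ x, x ∈ Φ ↔ IsRoot cs h x) (w : W) (f : I → ℝ) :
    QQ Φ (act cs h w f) = QQ Φ f := by
  unfold QQ
  refine Finset.sum_bij' (fun x _ => rep cs h w⁻¹ x) (fun x _ => rep cs h w x) ?_ ?_ ?_ ?_ ?_
  · intro x hx
    rw [hΦ] at hx ⊢
    exact hx.act _
  · intro x hx
    rw [hΦ] at hx ⊢
    exact hx.act _
  · intro x _
    exact rep_apply_inv cs h w x
  · intro x _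
    exact rep_inv_apply cs h w x
  · intro x _
    rw [ev_act]

theorem exists_min {Φ : Finset (I → ℤ)} (hΦ : ∀ i, sr i ∈ Φ) {C : Set (I → ℝ)} (hC : IsClosed C) (hne : C.Nonempty) :
    ∃ f ∈ C, ∀ g ∈ C, QQ Φ f ≤ QQ Φ g := by
  obtain ⟨f1, hf1⟩ := hne
  set r := Real.sqrt (QQ Φ f1) with hr
  have hr0 : 0 ≤ r := Real.sqrt_nonneg _
  have hr2 : r ^ 2 = QQ Φ f1 := Real.sq_sqrt (QQ_nonneg Φ f1)
  have hin : ∀ g : I → ℝ, QQ Φ g ≤ QQ Φ f1 → g ∈ Metric.closedBall (0 : I → ℝ) r := by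
    intro g hg
    rw [mem_closedBall_zero_iff, pi_norm_le_iff_of_nonneg hr0]
    intro i
    rw [Real.norm_eq_abs]
    apply abs_le_of_sq_le_sq _ hr0
    rw [hr2]
    exact le_trans (sq_le_QQ hΦ g i) hg
  have hcomp : IsCompact (C ∩ Metric.closedBall (0 : I → ℝ) r) := (isCompact_closedBall 0 r).inter_left hC
  obtain ⟨f, hf, hmin⟩ := hcomp.exists_isMinOn ⟨f1, hf1, hin f1 le_rfl⟩ (QQ_continuous Φ).continuousOn
  refine ⟨f, hf.1, fun g hg => ?_⟩
  have h1 : QQ Φ f ≤ QQ Φ f1 := hmin ⟨hf1, hin f1 le_rfl⟩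
  by_cases h2 : QQ Φ g ≤ QQ Φ f1
  · exact hmin ⟨hg, hin g h2⟩
  · exact le_trans h1 (not_le.1 h2).le

section Main

variable {R : RGD cs h p T n X} {F : (I → ℤ) → ℝ → Subgroup Y} (hF : Filt R F)

include hF

theorem isClosed_le [Finite W] [Finite Y] (K : Subgroup Y) (g : Y) : IsClosed {f : I → ℝ | K ≤ cj g (VV cs h F f)} := by
  have hfin : Finite {x : I → ℤ | IsRoot cs h x} := (RGD.finite_roots (cs := cs) (h := h)).to_subtype
  have h1 : {f : I → ℝ | K ≤ cj g (VV cs h F f)} =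
      ⋃ P : {P : {x : I → ℤ | IsRoot cs h x} → Subgroup Y // K ≤ cj g (⨆ x, P x)},
        ⋂ x : {x : I → ℤ | IsRoot cs h x}, ⋂ u : P.1 x, {f : I → ℝ | (u : Y) ∈ F x.1 (ev f x.1)} := by
    ext f
    simp only [Set.mem_iUnion, Set.mem_iInter, Set.mem_ofPred_eq]
    constructor
    · intro h2
      exact ⟨⟨fun x => F x.1 (ev f x.1), h2⟩, fun x u => u.2⟩
    · rintro ⟨⟨P, hP⟩, h2⟩
      refine le_trans hP (cj_mono g (iSup_mono fun x => ?_))
      intro u hu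
      exact h2 x ⟨u, hu⟩
  rw [h1]
  refine isClosed_iUnion_of_finite fun P => isClosed_iInter fun x => isClosed_iInter fun u => ?_
  exact (hF.closed x.1 x.2 u).preimage (ev_continuous x.1)

/-- **The fixed point.** -/
theorem exists_center [Finite W] [Finite Y] (hG : GG cs h T X = ⊤) {K : Subgroup Y}
    (hK : ∃ f g, K ≤ cj g (VV cs h F f)) :
    ∃ f g, K ≤ cj g (VV cs h F f) ∧ (∀ i, 0 ≤ f i) ∧
      ∀ x, cj x K = K → ∃ a ∈ PS T X (HalfR cs h f), ∃ w k, Rp cs R.nsys w k ∧ act cs h w f = f ∧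
        ∃ b ∈ PS T X (HalfR cs h f), g⁻¹ * x * g = a * k * b := by
  set Φ : Finset (I → ℤ) := (RGD.finite_roots (cs := cs) (h := h)).toFinset with hΦdef
  have hΦ : ∀ x, x ∈ Φ ↔ IsRoot cs h x := fun x => by rw [hΦdef, Set.Finite.mem_toFinset]; rfl
  have hΦs : ∀ i, sr i ∈ Φ := fun i => (hΦ _).2 (isRoot_sr cs h i)
  have hC : IsClosed (⋃ g : Y, {f : I → ℝ | K ≤ cj g (VV cs h F f)}) :=
    isClosed_iUnion_of_finite fun g => isClosed_le hF K g
  obtain ⟨f1, g1, h1⟩ := hK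
  obtain ⟨f0, hf0, hmin⟩ := exists_min hΦs hC ⟨f1, Set.mem_iUnion.2 ⟨g1, h1⟩⟩
  obtain ⟨g0, hg0⟩ := Set.mem_iUnion.1 hf0
  have hg0' : K ≤ cj g0 (VV cs h F f0) := hg0
  have hmin' : ∀ f g, K ≤ cj g (VV cs h F f) → QQ Φ f0 ≤ QQ Φ f := fun f g hfg =>
    hmin f (Set.mem_iUnion.2 ⟨g, hfg⟩)
  -- make it dominant
  obtain ⟨w, hw⟩ := exists_dom_real (cs := cs) (h := h) f0
  obtain ⟨k, hk⟩ := exists_rp cs R.nsys w
  set f := act cs h w⁻¹ f0 with hfdef
  have hfQ : QQ Φ f = QQ Φ f0 := QQ_act hΦ _ _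
  have hKf : K ≤ cj (g0 * k) (VV cs h F f) := by
    rw [cj_mul, hfdef, ← cj_VV hF hk.inv, cj_cj_inv]
    exact hg0'
  refine ⟨f, g0 * k, hKf, fun i => ?_, fun x hx => ?_⟩
  · have := hw i
    rw [← ev_sr f i, hfdef, ev_act, inv_inv]
    exact this
  set g := g0 * k with hgdef
  obtain ⟨a, ha, v, l, hl, b, hb, e⟩ := exists_bruhat hF f f (g := g⁻¹ * x * g) (by rw [hG]; exact Subgroup.mem_top _)
  refine ⟨a, ha, v, l, hl, ?_, b, hb, e⟩
  have ha' : cj a (VV cs h F f) = VV cs h F f := mem_normalizer_iff_cj.1 (Pf_le_normalizer hF f ha)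
  have hb' : cj b (VV cs h F f) = VV cs h F f := mem_normalizer_iff_cj.1 (Pf_le_normalizer hF f hb)
  have h2 : K ≤ cj (g * a) (VV cs h F f) := by
    rw [cj_mul, ha']; exact hKf
  have h3 : K ≤ cj (g * a) (VV cs h F (act cs h v f)) := by
    rw [← cj_VV hF hl]
    have h4 : cj (g * a) (cj l (VV cs h F f)) = cj x (cj g (VV cs h F f)) := by
      rw [← cj_mul, ← cj_mul]
      have h5 : x * g = g * a * l * b := by
        have : x * g = g * (g⁻¹ * x * g) := by group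
        rw [this, e]; group
      rw [h5, cj_mul _ b, hb']
    rw [h4]
    conv_lhs => rw [← hx]
    exact cj_mono x hKf
  have h4 : K ≤ cj (g * a) (VV cs h F ((1 / 2 : ℝ) • (f + act cs h v f))) := by
    refine le_trans ?_ (cj_mono (g * a) (inter_VV hF f (act cs h v f)))
    intro y hy
    exact mem_cj.2 ⟨mem_cj.1 (h2 hy), mem_cj.1 (h3 hy)⟩
  have h5 := hmin' _ _ h4
  have h6 : QQ Φ (act cs h v f) = QQ Φ f := QQ_act hΦ v f
  rw [QQ_half] at h5
  exact (eq_of_QQ hΦs (by linarith)).symm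

/-- the simple roots where `f` vanishes -/
def JJ (f : I → ℝ) : Set I := {i | f i = 0}

omit hF in
theorem PS_half_real [Finite W] {f : I → ℝ} (hf : ∀ i, 0 ≤ f i) : PS T X (HalfR cs h f) = PJ cs h T X (JJ f) := by
  obtain ⟨F1, hF1⟩ := exists_int (cs := cs) (h := h) f
  have h1 : ∀ i, 0 ≤ F1 (sr i) := fun i => by
    rw [(hF1 _ (isRoot_sr cs h i)).2, ev_sr]; exact hf i
  have h2 : HalfR cs h f = Half cs h F1 := by
    ext x
    exact ⟨fun hx => ⟨hx.1, (hF1 x hx.1).2.2 hx.2⟩, fun hx => ⟨hx.1, (hF1 x hx.1).2.1 hx.2⟩⟩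
  have h3 : JJ f = {i | F1 (sr i) = 0} := by
    ext i
    have h4 := (hF1 _ (isRoot_sr cs h i)).1
    rw [ev_sr] at h4
    show f i = 0 ↔ F1 (sr i) = 0
    constructor
    · intro h5
      by_contra h6
      have := h4.1 (lt_of_le_of_ne (h1 i) (Ne.symm h6))
      linarith
    · intro h5
      by_contra h6
      have := h4.2 (lt_of_le_of_ne (hf i) (Ne.symm h6))
      omega
  rw [h2, h3, PS_half_of_dom h1]

omit hF in
theorem mem_PS_of_act [Finite W] {f : I → ℝ} (hf : ∀ i, 0 ≤ f i) {w : W} {k : Y} (hk : Rp cs R.nsys w k)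
    (hw : act cs h w f = f) : k ∈ PS T X (HalfR cs h f) := by
  obtain ⟨F1, hF1⟩ := exists_int (cs := cs) (h := h) f
  have h1 : ∀ i, 0 ≤ F1 (sr i) := fun i => by
    rw [(hF1 _ (isRoot_sr cs h i)).2, ev_sr]; exact hf i
  have h2 : HalfR cs h f = Half cs h F1 := by
    ext x
    exact ⟨fun hx => ⟨hx.1, (hF1 x hx.1).2.2 hx.2⟩, fun hx => ⟨hx.1, (hF1 x hx.1).2.1 hx.2⟩⟩
  have h3 : ∀ x, ev f (rep cs h w⁻¹ x) = ev f x := fun x => by rw [← ev_act, hw]
  have h4 : ∀ x, ev f (rep cs h w x) = ev f x := fun x => by rw [← h3 (rep cs h w x), rep_inv_apply]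
  have h5 := mem_WJ_of_half (cs := cs) (h := h) (J := Set.univ) F1 (fun i _ => h1 i) (w := w) (mem_univ' cs w)
    (fun x hx h0 => by
      rw [(hF1 _ (hx.act w)).2, h4]
      exact (hF1 x hx).2.1 h0)
    (fun x hx h0 => by
      rw [(hF1 _ (hx.act w⁻¹)).2, h3]
      exact (hF1 x hx).2.1 h0)
  have h6 : w ∈ WJ cs {i | F1 (sr i) = 0} := by
    have : {i | i ∈ Set.univ ∧ F1 (sr i) = 0} = {i | F1 (sr i) = 0} := by ext i; simp
    rwa [this] at h5
  rw [h2, PS_half_of_dom h1]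
  exact LJ_le_PJ (rp_mem_LJ R h6 hk)

omit hF in
theorem Sup_pos_le_VJ {f : I → ℝ} (hf : ∀ i, 0 ≤ f i) :
    RGD.Sup X {x | IsRoot cs h x ∧ 0 < ev f x} ≤ VJ cs h X (JJ f) := by
  refine RGD.Sup_mono ?_
  rintro x ⟨hx, h0⟩
  have h1 : 0 ≤ x := by
    rcases hx.pos_or_neg with h2 | h2
    · exact h2
    · exfalso
      have h3 : ev f x ≤ 0 := by
        rw [ev_apply]
        refine Finset.sum_nonpos fun i _ => mul_nonpos_of_nonpos_of_nonneg ?_ (hf i)
        exact_mod_cast h2 i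
      linarith
  refine ⟨hx, h1, ?_⟩
  by_contra hcon
  push Not at hcon
  have h2 : ev f x = 0 := by
    rw [ev_apply]
    refine Finset.sum_eq_zero fun i _ => ?_
    by_cases hi : f i = 0
    · rw [hi, mul_zero]
    · have h3 : x i = 0 := le_antisymm (hcon i hi) (h1 i)
      rw [h3, Int.cast_zero, zero_mul]
  linarith

omit hF in
/-- every `p`-subgroup is conjugate to a subgroup of `U` -/
theorem exists_conj_U [Finite W] [Finite Y] [Fact p.Prime] (hG : GG cs h T X = ⊤) {K : Subgroup Y}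
    (hK : IsPGroup p K) (R : RGD cs h p T n X) : ∃ g, K ≤ cj g (RGD.Sup X (RGD.Pos cs h)) := by
  obtain ⟨P, hP⟩ := hK.exists_le_sylow
  have hU : IsPGroup p ↥(RGD.Sup X (RGD.Pos cs h)) := R.isPGroup_Upos
  obtain ⟨Q, hQ⟩ := hU.exists_le_sylow
  have h1 : (Q : Subgroup Y) = RGD.Sup X (RGD.Pos cs h) :=
    Nodes.NormalForm.eq_U_of_isPGroup R Q.2 hQ (by rw [hG]; exact le_top)
  obtain ⟨g, hg⟩ := MulAction.exists_smul_eq Y Q P
  refine ⟨g, le_trans hP ?_⟩
  rw [← hg, Sylow.coe_subgroup_smul, h1]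
  intro x hx
  rw [Subgroup.mem_pointwise_smul_iff_inv_smul_mem] at hx
  rw [mem_cj]
  simpa [MulAut.smul_def] using hx

/-- **Borel–Tits.** Every `p`-subgroup `K ≠ 1` has a proper parabolic subgroup `g P_J g⁻¹ ≥ N(K)` with
`K ≤ g V_J g⁻¹`. -/
theorem borel_tits [Finite W] [Finite Y] [Fact p.Prime] (hG : GG cs h T X = ⊤) {K : Subgroup Y}
    (hK : IsPGroup p K) (hK1 : K ≠ ⊥) : ∃ (g : Y) (J : Set I), J ≠ Set.univ ∧ K ≤ cj g (VJ cs h X J) ∧
      Subgroup.normalizer (K : Set Y) ≤ cj g (PJ cs h T X J) := by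
  obtain ⟨g1, hg1⟩ := exists_conj_U hG hK R
  obtain ⟨C, hC0, hC⟩ := hF.full
  have hU : RGD.Sup X (RGD.Pos cs h) ≤ VV cs h F (fun _ => C) := by
    refine RGD.Sup_le fun x hx => le_trans (hC x (ev (fun _ => C) x) hx.1 ?_)
      (le_FS (G := fun z => F z (ev (fun _ => C) z)) (S := {z | IsRoot cs h z}) hx.1)
    have h1 : (1 : ℤ) ≤ ht x := by
      have := RGD.ht_pos hx.1 hx.2
      omega
    have h2 : ev (fun _ => C) x = (ht x : ℝ) * C := by
      rw [ev_apply, ← Finset.sum_mul]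
      congr 1
      unfold ht
      push_cast
      rfl
    rw [h2]
    have h3 : (1 : ℝ) ≤ ht x := by exact_mod_cast h1
    nlinarith
  obtain ⟨f, g, h1, h2, h3⟩ := exists_center hF hG (K := K) ⟨fun _ => C, g1, le_trans hg1 (cj_mono g1 hU)⟩
  have hVJ : VV cs h F f ≤ VJ cs h X (JJ f) := le_trans (VV_le_Sup hF f) (Sup_pos_le_VJ h2)
  refine ⟨g, JJ f, ?_, le_trans h1 (cj_mono g hVJ), ?_⟩
  · intro h4
    have h5 : ∀ x, ev f x = 0 := by
      intro x
      rw [ev_apply]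
      refine Finset.sum_eq_zero fun i _ => ?_
      have h6 : i ∈ JJ f := by rw [h4]; exact Set.mem_univ i
      rw [show f i = 0 from h6, mul_zero]
    have h6 : VV cs h F f = ⊥ := by
      rw [eq_bot_iff]
      refine FS_le fun z hz => ?_
      rw [h5 z, hF.neg z 0 hz le_rfl]
    rw [h6] at h1
    apply hK1
    rw [eq_bot_iff]
    intro y hy
    have h7 := mem_cj.1 (h1 hy)
    rw [Subgroup.mem_bot] at h7 ⊢
    have : y = g * (g⁻¹ * y * g) * g⁻¹ := by group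
    rw [this, h7]; group
  · intro x hx
    rw [mem_normalizer_iff_cj] at hx
    obtain ⟨a, ha, w, k, hk, hw, b, hb, e⟩ := h3 x hx
    rw [mem_cj, e, ← PS_half_real h2]
    exact mul_mem (mul_mem ha (mem_PS_of_act (R := R) h2 hk hw)) hb

end Main

end Cfsg.Agent.KFacts.RgdBorelTits
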