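import Cfsg.Agent.KFacts.SuzLFour
set_option linter.all false

/-!
# The centraliser of an involution of class 2B of the Suzuki group

`C_K(e) = (V × L)⟨x⟩`, `V = 2²`, `L = L₃(4)`, of order 161280.
-/

set_option autoImplicit false
set_option maxRecDepth 100000
set_option exponentiation.threshold 4000

namespace Cfsg.Agent.KFacts.SuzTwoB

open scoped commutatorElement
open Cfsg.Spor Cfsg.Agent.Lib.PermNet Cfsg.Agent.Lib.PermNetOrbit Cfsg.Agent.SporadicRecognition.SuzPhi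
  Cfsg.Agent.SporadicRecognition.SuzBound Cfsg.Agent.SporadicRecognition.SuzOrder
  Cfsg.Agent.SuzThree.Nets Cfsg.Agent.SuzThree.Basic Cfsg.Agent.SuzThree.Elts
  Cfsg.Agent.SuzThree.CentA Cfsg.Agent.SuzThree.CentB
  Cfsg.Agent.SuzThree.QZero Cfsg.Agent.KFacts.SuzCent Cfsg.Agent.KFacts.SuzLFour

/-- the centraliser of `e` -/
noncomputable abbrev CE : Subgroup Suz := Subgroup.centralizer ({e0} : Set Suz)

theorem mem_CE {g : Suz} : g ∈ CE ↔ g * e0 = e0 * g := Subgroup.mem_centralizer_singleton_iff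

/-- Orbit-stabiliser, upper bound. -/
theorem stabL_le {G : Type*} [Group G] [Finite G] (ψ : G →* Equiv.Perm ℕ) (qs : List ℕ) (p : ℕ)
    (T : Finset ℕ) (hT' : ∀ g ∈ stabL ψ qs, ψ g p ∈ T) :
    Nat.card (stabL ψ qs) ≤ T.card * Nat.card (stabL ψ (p :: qs)) := by
  classical
  let T' : Finset ℕ := T.filter fun t => ∃ g ∈ stabL ψ qs, ψ g p = t
  have h1 := card_stabL_eq ψ qs p T' (fun t ht => (Finset.mem_filter.1 ht).2)
    (fun g hg => Finset.mem_filter.2 ⟨hT' g hg, g, hg, rfl⟩)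
  rw [h1]
  exact Nat.mul_le_mul_right _ (Finset.card_le_card (Finset.filter_subset _ _))

/-! ### The fixed points of `e` -/

/-- the fixed points of `e` -/
noncomputable def Fe : ℕ := Nat.xor U0 (moved 11 (wd [.e]) 11)

theorem mem_Fe {p : ℕ} (hp : p < 1782) (h : φ e0 p = p) : Fe.testBit p = true := by
  show (U0 ^^^ moved 11 (wd [.e]) 11).testBit p = true
  have h1 : φ (el [.e]) p = p := h
  rw [Nat.testBit_xor, moved_el h1, U0_bits, decide_eq_true hp]; rfl

theorem Fe_of_CE {g : Suz} (hg : g ∈ CE) {p : ℕ} (hp : p < 1782) (h : φ e0 p = p) :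
    Fe.testBit (φ g p) = true :=
  mem_Fe (φ_lt p hp) (fix_of_comm (mem_CE.1 hg) h)

theorem pc0 : Nat.beq (pc 11 Fe) 42 = true := by decide +kernel
theorem pc1 : Nat.beq (pc 11 (Nat.land Fe U2)) 16 = true := by decide +kernel
theorem pc2 : Nat.beq (pc 11 (Nat.land Fe U3)) 15 = true := by decide +kernel
theorem pc3 : Nat.beq (pc 11 (Nat.land Fe U4)) 4 = true := by decide +kernel
theorem lt0 : Nat.beq (Nat.shiftRight Fe (Nat.pow 2 11)) 0 = true := by decide +kernel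

theorem card_land {X Y : ℕ} {m : ℕ} (hX : Nat.beq (Nat.shiftRight X (Nat.pow 2 11)) 0 = true)
    (h : Nat.beq (pc 11 (Nat.land X Y)) m = true) : (bits (2 ^ 11) (X &&& Y)).card = m := by
  have h1 : X &&& Y < 2 ^ 2 ^ 11 := lt_of_le_of_lt Nat.and_le_left (lt_of_chk hX)
  rw [← pc_eq 11 _ h1]; exact Nat.eq_of_beq_eq_true h

theorem fe0 : φ e0 0 = 0 := (Rep.el [.e]).pt (by decide +kernel)
theorem fe1575 : φ e0 1575 = 1575 := (Rep.el [.e]).pt (by decide +kernel)
theorem fe1 : φ e0 1 = 1 := (Rep.el [.e]).pt (by decide +kernel)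
theorem fe11 : φ e0 11 = 11 := (Rep.el [.e]).pt (by decide +kernel)

theorem mem_U4 {g : Suz} (hg : g ∈ stabL φ [1, 1575, 0]) : U4.testBit (φ g 11) = true := by
  rw [← gc_eq] at hg
  have h1 : φ g ∈ Subgroup.closure {s : Equiv.Perm ℕ | ∃ w ∈ gc.map wd, wperm w = s} := by
    have h2 : (cl gc).map φ ≤ Subgroup.closure {s : Equiv.Perm ℕ | ∃ w ∈ gc.map wd, wperm w = s} := by
      rw [cl, MonoidHom.map_closure, Subgroup.closure_le]
      rintro _ ⟨_, ⟨w, hw, rfl⟩, rfl⟩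
      exact Subgroup.subset_closure ⟨wd w, List.mem_map_of_mem hw, (φ_el w).symm⟩
    exact h2 ⟨g, hg, rfl⟩
  have h2 := testBit_eq_of_closure (U := U4) (S := {s : Equiv.Perm ℕ | ∃ w ∈ gc.map wd, wperm w = s})
    (by
      rintro s ⟨w, hw, rfl⟩
      exact closedB_spec (wsokS gc) clU4 w hw) h1 11
  rw [h2, ← tb_eq]
  decide +kernel

theorem card_end : Nat.card (stabL (φS CE) [11, 1, 1575, 0]) ≤ 4 := by
  rw [← card_V]
  refine Nat.card_le_card_of_injective
    (fun g : stabL (φS CE) [11, 1, 1575, 0] => (⟨(g : CE), mem_V_of (fun q hq => g.2 q hq)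
      (mem_CE.1 (g : CE).2)⟩ : V)) ?_
  intro g g' h
  have h1 : ((g : CE) : Suz) = ((g' : CE) : Suz) := congrArg (fun v : V => (v : Suz)) h
  exact Subtype.ext (Subtype.ext h1)

/-- **Upper bound.** -/
theorem card_CE_le : Nat.card CE ≤ 161280 := by
  have h0 : Nat.card (stabL (φS CE) []) = Nat.card CE := by
    have : stabL (φS CE) [] = ⊤ := by
      rw [eq_top_iff]; intro g _ q hq; exact absurd hq (by simp)
    rw [this, Subgroup.card_top]
  have hlt : ∀ {g : CE} {p : ℕ}, p < 1782 → φ (g : Suz) p < 2 ^ 11 := fun hp =>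
    lt_of_lt_of_le (φ_lt _ hp) (by norm_num)
  have hA : Nat.card (stabL (φS CE) []) ≤ 42 * Nat.card (stabL (φS CE) [0]) := by
    have h := stabL_le (φS CE) [] 0 (bits (2 ^ 11) Fe) (fun g _ => mem_bits.2
      ⟨hlt (by norm_num), Fe_of_CE g.2 (by norm_num) fe0⟩)
    rwa [← pc_eq 11 Fe (lt_of_chk lt0), Nat.eq_of_beq_eq_true pc0] at h
  have hB : Nat.card (stabL (φS CE) [0]) ≤ 16 * Nat.card (stabL (φS CE) [1575, 0]) := by
    have h := stabL_le (φS CE) [0] 1575 (bits (2 ^ 11) (Fe &&& U2)) (fun g hg => mem_bits.2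
      ⟨hlt (by norm_num), by
        rw [Nat.testBit_and, Bool.and_eq_true]
        exact ⟨Fe_of_CE g.2 (by norm_num) fe1575, adj_of_fix (hg 0 (by simp))⟩⟩)
    rwa [card_land lt0 pc1] at h
  have hC : Nat.card (stabL (φS CE) [1575, 0]) ≤ 15 * Nat.card (stabL (φS CE) [1, 1575, 0]) := by
    have h := stabL_le (φS CE) [1575, 0] 1 (bits (2 ^ 11) (Fe &&& U3)) (fun g hg => mem_bits.2
      ⟨hlt (by norm_num), by
        rw [Nat.testBit_and, Bool.and_eq_true]
        exact ⟨Fe_of_CE g.2 (by norm_num) fe1, mem_U3 (fun q hq => hg q hq)⟩⟩)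
    rwa [card_land lt0 pc2] at h
  have hD : Nat.card (stabL (φS CE) [1, 1575, 0]) ≤ 4 * Nat.card (stabL (φS CE) [11, 1, 1575, 0]) := by
    have h := stabL_le (φS CE) [1, 1575, 0] 11 (bits (2 ^ 11) (Fe &&& U4)) (fun g hg => mem_bits.2
      ⟨hlt (by norm_num), by
        rw [Nat.testBit_and, Bool.and_eq_true]
        exact ⟨Fe_of_CE g.2 (by norm_num) fe11, mem_U4 (fun q hq => hg q hq)⟩⟩)
    rwa [card_land lt0 pc3] at h
  have hE := card_end
  omega

/-! ### `V × L` -/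

theorem V_cap_L {v : Suz} (hv : v ∈ V) (hl : v ∈ L) : v = 1 := by
  have h := x0_comm v hl
  have h1 : x0 * v * x0⁻¹ = v := by rw [h, mul_inv_cancel_right]
  rcases mem_V.1 hv with rfl | rfl | rfl | rfl
  · rfl
  · exact absurd h1 e1_ne
  · exfalso
    have h2 : e1 = e2 := by
      calc e1 = x0 * e1 * x0⁻¹ := h1.symm
        _ = e2 := by rw [e2_eq, e1]; group
    exact e12_ne h2
  · exfalso
    have h2 : e2 = e0 := by
      calc e2 = x0 * e2 * x0⁻¹ := h1.symm
        _ = e0 := by rw [e2]; group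
    exact e2_ne h2

/-- the product `V × L` -/
noncomputable def VL : Subgroup Suz where
  carrier := {x | ∃ v ∈ V, ∃ l ∈ L, v * l = x}
  one_mem' := ⟨1, V.one_mem, 1, L.one_mem, one_mul _⟩
  mul_mem' := by
    rintro _ _ ⟨v, hv, l, hl, rfl⟩ ⟨w, hw, m, hm, rfl⟩
    refine ⟨v * w, V.mul_mem hv hw, l * m, L.mul_mem hl hm, ?_⟩
    rw [mul_assoc v w, ← mul_assoc w l m, V_comm w hw l hl]
    simp only [mul_assoc]
  inv_mem' := by
    rintro _ ⟨v, hv, l, hl, rfl⟩
    refine ⟨v⁻¹, V.inv_mem hv, l⁻¹, L.inv_mem hl, ?_⟩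
    rw [mul_inv_rev, V_comm _ (V.inv_mem hv) _ (L.inv_mem hl)]

theorem mem_VL {x : Suz} : x ∈ VL ↔ ∃ v ∈ V, ∃ l ∈ L, v * l = x := Iff.rfl

theorem V_le : V ≤ VL := fun v hv => ⟨v, hv, 1, L.one_mem, mul_one v⟩
theorem L_le : L ≤ VL := fun l hl => ⟨1, V.one_mem, l, hl, one_mul l⟩

theorem VL_le : VL ≤ CE := by
  rintro _ ⟨v, hv, l, hl, rfl⟩
  refine CE.mul_mem ?_ ?_
  · exact mem_CE.2 (V_abel v hv e0 (mem_V.2 (Or.inr (Or.inl rfl))))
  · exact mem_CE.2 (e0_comm l hl).symm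

theorem VL_cent {x : Suz} (hx : x ∈ VL) {v : Suz} (hv : v ∈ V) : x * v = v * x := by
  obtain ⟨w, hw, l, hl, rfl⟩ := hx
  rw [mul_assoc, ← V_comm v hv l hl, ← mul_assoc, V_abel w hw v hv, mul_assoc]

theorem card_VL : Nat.card VL = 4 * Nat.card L := by
  have h : Nat.card (V × L) = Nat.card VL := by
    refine Nat.card_congr (Equiv.ofBijective (fun p => ⟨p.1 * p.2, p.1, p.1.2, p.2, p.2.2, rfl⟩) ⟨?_, ?_⟩)
    · rintro ⟨v, l⟩ ⟨w, m⟩ h
      have h1 : (v : Suz) * l = w * m := congrArg Subtype.val h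
      have h2 : (w : Suz)⁻¹ * v = m * (l : Suz)⁻¹ := by
        rw [inv_mul_eq_iff_eq_mul, ← mul_assoc, ← h1, mul_inv_cancel_right]
      have h3 := V_cap_L (V.mul_mem (V.inv_mem w.2) v.2) (by rw [h2]; exact L.mul_mem m.2 (L.inv_mem l.2))
      have h4 : (v : Suz) = w := (inv_mul_eq_one.1 h3).symm
      rw [h3] at h2
      have h5 : (l : Suz) = m := (mul_inv_eq_one.1 h2.symm).symm
      rw [Subtype.ext h4, Subtype.ext h5]
    · rintro ⟨_, v, hv, l, hl, rfl⟩
      exact ⟨(⟨v, hv⟩, ⟨l, hl⟩), rfl⟩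
  rw [← h, Nat.card_prod, card_V]

/-- the word of an involution swapping `e1` and `e2` -/
def xw : List Suz.Gen := [.d, .c, .b, .f, .g, .b, .c, .d, .c, .b, .g, .f, .b, .c, .d]

/-- an involution of `C(e)` swapping `e1` and `e2` -/
noncomputable def xe : Suz := el xw

theorem xe_mem : xe ∈ CE := by
  rw [mem_CE]
  exact comm_of (v := xw) (w := [.e]) (by decide +kernel)

theorem xe_e1 : xe * e1 = e2 * xe := by
  rw [e1_eq, e2_eq', xe, ← el_append, ← el_append]
  exact eq_of (by decide +kernel)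

theorem xe_notin : xe ∉ VL := by
  intro h
  have h1 := VL_cent h (v := e1) (mem_V.2 (Or.inr (Or.inr (Or.inl rfl))))
  rw [xe_e1] at h1
  exact e12_ne (mul_right_cancel h1).symm

theorem idx : (VL.subgroupOf CE).index = 2 ∧ Nat.card L = 20160 := by
  have h1 := (VL.subgroupOf CE).card_mul_index
  rw [Nat.card_congr (Subgroup.subgroupOfEquivOfLe VL_le).toEquiv, card_VL] at h1
  have h2 := card_CE_le
  have h3 := card_L_ge
  have h4 : (VL.subgroupOf CE).index ≠ 1 := by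
    intro h
    rw [Subgroup.index_eq_one, Subgroup.subgroupOf_eq_top] at h
    exact xe_notin (h xe_mem)
  have h5 : 0 < Nat.card CE := Nat.card_pos
  have h6 : (VL.subgroupOf CE).index ≠ 0 := by
    intro h
    rw [h, Nat.mul_zero] at h1
    omega
  generalize (VL.subgroupOf CE).index = m at *
  have h7 : m < 3 := by
    by_contra hc
    have h8 : 4 * Nat.card L * 3 ≤ 4 * Nat.card L * m := Nat.mul_le_mul_left _ (by omega)
    omega
  have h8 : m = 2 := by omega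
  subst h8
  omega

theorem card_L : Nat.card L = 20160 := idx.2

/-- **The order of the centraliser of an involution of class 2B.** -/
theorem card_CE : Nat.card CE = 161280 := by
  have h1 := (VL.subgroupOf CE).card_mul_index
  rw [Nat.card_congr (Subgroup.subgroupOfEquivOfLe VL_le).toEquiv, card_VL, idx.1, card_L] at h1
  omega

theorem VL_normal : (VL.subgroupOf CE).Normal := Subgroup.normal_of_index_eq_two idx.1

theorem conj_VL {g : Suz} (hg : g ∈ CE) {x : Suz} (hx : x ∈ VL) : g * x * g⁻¹ ∈ VL := by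
  have h := VL_normal.conj_mem ⟨x, VL_le hx⟩ (Subgroup.mem_subgroupOf.2 hx) ⟨g, hg⟩
  exact Subgroup.mem_subgroupOf.1 h

theorem comm_VL : ⁅VL, VL⁆ = L := by
  apply le_antisymm
  · rw [Subgroup.commutator_le]
    rintro _ ⟨v, hv, l, hl, rfl⟩ _ ⟨w, hw, m, hm, rfl⟩
    have h : ⁅v * l, w * m⁆ = ⁅l, m⁆ := by
      have c1 := V_comm v hv
      have c2 := V_comm w hw
      have c3 : v * w = w * v := V_abel v hv w hw
      rw [commutatorElement_def, commutatorElement_def]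
      calc v * l * (w * m) * (v * l)⁻¹ * (w * m)⁻¹
          = v * (l * w) * m * (l⁻¹ * v⁻¹) * (m⁻¹ * w⁻¹) := by group
        _ = (v * w) * (l * m * l⁻¹) * (v⁻¹ * (m⁻¹ * w⁻¹)) := by rw [← c2 l hl]; group
        _ = (v * w) * (l * m * l⁻¹) * (v⁻¹ * w⁻¹ * m⁻¹) := by
            rw [V_comm _ (V.inv_mem hw) _ (L.inv_mem hm) |>.symm, mul_assoc v⁻¹]
        _ = (v * w) * ((l * m * l⁻¹) * (v⁻¹ * w⁻¹)) * m⁻¹ := by group
        _ = (v * w) * ((v⁻¹ * w⁻¹) * (l * m * l⁻¹)) * m⁻¹ := by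
            rw [V_comm _ (V.mul_mem (V.inv_mem hv) (V.inv_mem hw)) _ (L.mul_mem (L.mul_mem hl hm) (L.inv_mem hl))]
        _ = (v * w) * (w * v)⁻¹ * (l * m * l⁻¹ * m⁻¹) := by group
        _ = l * m * l⁻¹ * m⁻¹ := by rw [← c3]; group
    rw [h]
    have h2 := Subgroup.commutator_mem_commutator hl hm
    rwa [perfect'] at h2
  · calc L = ⁅L, L⁆ := perfect'.symm
      _ ≤ ⁅VL, VL⁆ := Subgroup.commutator_mono L_le L_le

/-- **`L` is normal in `C(e)`** -/
theorem conj_L {g : Suz} (hg : g ∈ CE) {l : Suz} (hl : l ∈ L) : g * l * g⁻¹ ∈ L := by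
  have h1 : VL.map (MulAut.conj g).toMonoidHom ≤ VL := by
    rintro _ ⟨x, hx, rfl⟩
    exact conj_VL hg hx
  have h2 : L.map (MulAut.conj g).toMonoidHom ≤ L := by
    rw [← comm_VL, Subgroup.map_commutator]
    exact Subgroup.commutator_mono h1 h1
  exact h2 ⟨l, hl, rfl⟩

end Cfsg.Agent.KFacts.SuzTwoB
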