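import Cfsg.Agent.KFacts.MulBound
set_option linter.all false

/-!
# Lifting homomorphisms of perfect groups to double covers

`π : L → G` is a perfect double cover with kernel `{1, c}`, `ψ : K → G` a homomorphism of a finite perfect group.

* `sq_of_quat` (Q8): the centre of a quaternion subgroup of `G` lifts to involutions.
* `sq_conj'`: the square of a lift of an involution is a class function.
* `false_of_section`: `π` has no section.
* `lift_or_dbl`: `ψ` lifts to `L`, or the pullback is a perfect double cover of `K`.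
* `exists_lift_of_noDouble`: `ψ` lifts to `L` if `NoDouble K`.
* `Uniq X`: `X` has at most one double cover; `false_of_klein`; `exists_lift_of_uniq`: `ψ` lifts to `L` if `K` is a
  double cover of `X`, `Uniq X`, and the lifts to `L` of the image of the central involution of `K` are involutions.
-/

set_option autoImplicit false
set_option linter.style.haveILetI false

namespace Cfsg.Agent.KFacts.MulLift

open Subgroup Cfsg.Agent.KFacts.MulTwo Cfsg.Agent.KFacts.MulDef Cfsg.Agent.KFacts.MulBound
open scoped commutatorElement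

universe u v w

section basic

variable {L G : Type*} [Group L] [Group G] {π : L →* G} {c : L}

theorem pi_c (hd : Dbl π c) : π c = 1 := (hd.ker c).2 (Or.inr rfl)

theorem eq_or (hd : Dbl π c) {x y : L} (h : π x = π y) : x = y ∨ x = y * c := by
  have h1 : π (y⁻¹ * x) = 1 := by rw [map_mul, map_inv, h, inv_mul_cancel]
  rcases (hd.ker _).1 h1 with h2 | h2
  · left; exact (inv_mul_eq_one.1 h2).symm
  · right; exact inv_mul_eq_iff_eq_mul.1 h2

theorem inv_c (hd : Dbl π c) : c⁻¹ = c := inv_eq_of_mul_eq_one_left hd.sq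

/-- squares of the two lifts -/
theorem sq_eq_of_pi (hd : Dbl π c) {x y : L} (h : π x = π y) : x * x = y * y := by
  rcases eq_or hd h with rfl | rfl
  · rfl
  · calc y * c * (y * c) = y * (c * y) * c := by group
      _ = y * (y * c) * c := by rw [hd.cen y]
      _ = (y * y) * (c * c) := by group
      _ = y * y := by rw [hd.sq, mul_one]

/-- odd powers of the other lift -/
theorem cube_mul_c (hd : Dbl π c) (y : L) : (y * c) ^ 3 = y ^ 3 * c := by
  have h1 : (y * c) ^ 3 = y ^ 3 * c ^ 3 := (show Commute y c from (hd.cen y).symm).mul_pow 3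
  rw [h1, pow_succ c, pow_two, hd.sq, one_mul]

/-- the square of a lift of an involution is a class function -/
theorem sq_conj' (hd : Dbl π c) {x y : L} (h : IsConj (π x) (π y)) (hx : x * x = 1) : y * y = 1 := by
  obtain ⟨g, hg⟩ := isConj_iff.1 h
  obtain ⟨g, rfl⟩ := hd.surj g
  have h1 : π (g * x * g⁻¹) = π y := by rw [map_mul, map_mul, map_inv, hg]
  rw [← sq_eq_of_pi hd h1]
  have h2 : g * x * g⁻¹ * (g * x * g⁻¹) = g * (x * x) * g⁻¹ := by group
  rw [h2, hx]; group

/-- (Q8) the central involution of a quaternion group lifts to involutions. -/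
theorem sq_of_quat (hd : Dbl π c) {i j x : L} (hi : π (i * i) = π x) (hj : π (j * j) = π x)
    (hij : π (j * i * j⁻¹) = π i⁻¹) : x * x = 1 := by
  have hc := hd.cen
  -- `j` commutes with `x`
  have hjx : j * x = x * j := by
    rcases eq_or hd hj with h | h
    · rw [← h]; group
    · have : x = j * j * c := by rw [h, mul_assoc, hd.sq, mul_one]
      rw [this]
      calc j * (j * j * c) = j * j * (j * c) := by group
        _ = j * j * (c * j) := by rw [hc j]
        _ = j * j * c * j := by group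
  have h1 : (j * i * j⁻¹) * (j * i * j⁻¹) = i⁻¹ * i⁻¹ := sq_eq_of_pi hd hij
  have h2 : j * (i * i) * j⁻¹ = (i * i)⁻¹ := by
    rw [mul_inv_rev, ← h1]; group
  have h3 : j * x * j⁻¹ = x := by rw [hjx, mul_inv_cancel_right]
  rcases eq_or hd hi with h | h
  · rw [h, h3] at h2
    rw [← mul_eq_one_iff_eq_inv] at h2
    exact h2
  · rw [h] at h2
    have h4 : j * (x * c) * j⁻¹ = x * c := by
      calc j * (x * c) * j⁻¹ = j * x * (c * j⁻¹) := by group
        _ = j * x * (j⁻¹ * c) := by rw [hc]
        _ = (j * x * j⁻¹) * c := by group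
        _ = x * c := by rw [h3]
    rw [h4, ← mul_eq_one_iff_eq_inv] at h2
    calc x * x = x * c * (x * c) := by
          have := sq_eq_of_pi hd (x := x) (y := x * c) (by rw [map_mul, pi_c hd, mul_one])
          exact this
      _ = 1 := h2

/-- no section -/
theorem false_of_section (hd : Dbl π c) (s : G →* L) (hs : ∀ x, π (s x) = x) : False := by
  have hs1 : ∀ x y, π x = 1 → s (π y) = y → s (π (y * x)) = y := by
    intro x y hx hy
    rw [map_mul, hx, mul_one, hy]
  -- `s ∘ π` agrees with the identity modulo `c`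
  have h := hom_eq_of_perfect (K := L) (L := L) hd.perf (π := π) (fun x hx g => by
    rcases (hd.ker x).1 hx with rfl | rfl
    · rw [one_mul, mul_one]
    · exact hd.cen g) (f := s.comp π) (g := MonoidHom.id L) (fun k => hs (π k))
  have h2 : s (π c) = c := congrArg (fun f : L →* L => f c) h
  rw [pi_c hd, map_one] at h2
  exact hd.ne h2.symm

end basic

/-! ### Pullback -/

section pull

variable {K L G : Type*} [Group K] [Group L] [Group G]

/-- the pullback -/
def P (ψ : K →* G) (π : L →* G) : Subgroup (K × L) :=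
  (ψ.comp (MonoidHom.fst K L)).eqLocus (π.comp (MonoidHom.snd K L))

theorem mem_P {ψ : K →* G} {π : L →* G} {p : K × L} : p ∈ P ψ π ↔ ψ p.1 = π p.2 := Iff.rfl

/-- projection to `K` -/
def pr (ψ : K →* G) (π : L →* G) : P ψ π →* K := (MonoidHom.fst K L).comp (P ψ π).subtype

theorem pr_apply {ψ : K →* G} {π : L →* G} (p : P ψ π) : pr ψ π p = p.1.1 := rfl

/-- the central element -/
def cP (ψ : K →* G) {π : L →* G} {c : L} (hd : Dbl π c) : P ψ π :=
  ⟨(1, c), by rw [mem_P, map_one, pi_c hd]⟩

theorem pr_surj (ψ : K →* G) {π : L →* G} {c : L} (hd : Dbl π c) : Function.Surjective (pr ψ π) := by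
  intro k
  obtain ⟨l, hl⟩ := hd.surj (ψ k)
  exact ⟨⟨(k, l), hl.symm⟩, rfl⟩

theorem pr_ker (ψ : K →* G) {π : L →* G} {c : L} (hd : Dbl π c) (p : P ψ π) :
    pr ψ π p = 1 ↔ p = 1 ∨ p = cP ψ hd := by
  constructor
  · intro h
    have h1 : p.1.1 = 1 := h
    have h2 : π p.1.2 = 1 := by rw [← mem_P.1 p.2, h1, map_one]
    rcases (hd.ker _).1 h2 with h3 | h3
    · left; exact Subtype.ext (Prod.ext h1 h3)
    · right; exact Subtype.ext (Prod.ext h1 h3)
  · rintro (rfl | rfl)
    · exact map_one _
    · rfl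

theorem cP_sq (ψ : K →* G) {π : L →* G} {c : L} (hd : Dbl π c) : cP ψ hd * cP ψ hd = 1 :=
  Subtype.ext (Prod.ext (one_mul 1) hd.sq)

theorem cP_cen (ψ : K →* G) {π : L →* G} {c : L} (hd : Dbl π c) (p : P ψ π) : cP ψ hd * p = p * cP ψ hd := by
  refine Subtype.ext (Prod.ext ?_ (hd.cen _))
  show 1 * p.1.1 = p.1.1 * 1
  rw [one_mul, mul_one]

theorem cP_ne (ψ : K →* G) {π : L →* G} {c : L} (hd : Dbl π c) : cP ψ hd ≠ 1 :=
  fun h => hd.ne (congrArg (fun p : P ψ π => p.1.2) h)

/-- The homomorphism lifts or the pullback is a perfect double cover. -/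
theorem lift_or_dbl (hK : commutator K = ⊤) (ψ : K →* G) {π : L →* G} {c : L} (hd : Dbl π c) :
    (∃ s : K →* L, ∀ k, π (s k) = ψ k) ∨ Dbl (pr ψ π) (cP ψ hd) := by
  classical
  have hsurj := pr_surj ψ hd
  -- the derived group of `P` maps onto `K`
  have hmap : (commutator (P ψ π)).map (pr ψ π) = ⊤ := by
    rw [commutator_def, Subgroup.map_commutator, Subgroup.map_top_of_surjective _ hsurj, ← commutator_def, hK]
  by_cases hc : cP ψ hd ∈ commutator (P ψ π)
  · right
    refine ⟨⟨cP_ne ψ hd, cP_sq ψ hd, cP_cen ψ hd, ?_⟩, hsurj, pr_ker ψ hd⟩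
    rw [eq_top_iff]
    intro p _
    have h1 : pr ψ π p ∈ (commutator (P ψ π)).map (pr ψ π) := by rw [hmap]; trivial
    obtain ⟨q, hq, hqp⟩ := h1
    have h2 : pr ψ π (q⁻¹ * p) = 1 := by rw [map_mul, map_inv, hqp, inv_mul_cancel]
    have h3 : q⁻¹ * p ∈ commutator (P ψ π) := by
      rcases (pr_ker ψ hd _).1 h2 with h | h
      · rw [h]; exact one_mem _
      · rw [h]; exact hc
    have := mul_mem hq h3
    rwa [mul_inv_cancel_left] at this
  · left
    -- the derived group is isomorphic to `K`
    let D := commutator (P ψ π)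
    let f : D →* K := (pr ψ π).comp D.subtype
    have hf : Function.Bijective f := by
      constructor
      · rw [injective_iff_map_eq_one]
        intro a ha
        rcases (pr_ker ψ hd a.1).1 ha with h | h
        · exact Subtype.ext h
        · exact absurd (h ▸ a.2) hc
      · intro k
        have h1 : k ∈ D.map (pr ψ π) := by rw [hmap]; trivial
        obtain ⟨q, hq, hqk⟩ := h1
        exact ⟨⟨q, hq⟩, hqk⟩
    let e : D ≃* K := MulEquiv.ofBijective f hf
    refine ⟨((MonoidHom.snd K L).comp ((P ψ π).subtype.comp D.subtype)).comp e.symm.toMonoidHom, fun k => ?_⟩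
    have h1 : e (e.symm k) = k := e.apply_symm_apply k
    have h2 : ((e.symm k : D) : P ψ π).1.1 = k := h1
    show π ((e.symm k : D) : P ψ π).1.2 = ψ k
    rw [← mem_P.1 ((e.symm k : D) : P ψ π).2, h2]

end pull

/-- A homomorphism of a perfect group without double cover lifts. -/
theorem exists_lift_of_noDouble {K : Type u} {L : Type v} {G : Type w} [Group K] [Finite K] [Group L] [Finite L] [Group G]
    (hK : commutator K = ⊤) (hn : NoDouble K) (ψ : K →* G) {π : L →* G} {c : L} (hd : Dbl π c) :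
    ∃ s : K →* L, ∀ k, π (s k) = ψ k := by
  rcases lift_or_dbl hK ψ hd with h | h
  · exact h
  · exact absurd h hn.false

/-! ### Unique double covers -/

/-- at most one double cover -/
def Uniq (X : Type v) [Group X] : Prop :=
  ∀ (L M : Type) [Group L] [Group M] [Finite L] [Finite M] (π : L →* X) (ρ : M →* X) (c : L) (d : M),
    Dbl π c → Dbl ρ d → ∃ θ : L ≃* M, ∀ x, ρ (θ x) = π x

theorem OneCover.toUniq {X : Type v} [Group X] (h : OneCover X) : Uniq X := h.uniq

theorem Uniq.congr {X : Type u} {Y : Type v} [Group X] [Group Y] (h : Uniq X) (e : X ≃* Y) : Uniq Y :=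
  fun L M _ _ _ _ π ρ c d h1 h2 => by
    obtain ⟨θ, hθ⟩ := h L M _ _ _ _ (h1.of_equiv (MulEquiv.refl L) e.symm)
      (h2.of_equiv (MulEquiv.refl M) e.symm)
    exact ⟨θ, fun x => e.symm.injective (hθ x)⟩

theorem Uniq.uniq' {X : Type v} [Group X] (h : Uniq X) {L : Type u} {M : Type w} [Group L] [Group M] [Finite L]
    [Finite M] {π : L →* X} {ρ : M →* X} {c : L} {d : M} (h1 : Dbl π c) (h2 : Dbl ρ d) :
    ∃ θ : L ≃* M, ∀ x, ρ (θ x) = π x := by
  obtain ⟨L', _, _, ⟨e⟩⟩ := exists_type_zero L
  obtain ⟨M', _, _, ⟨e'⟩⟩ := exists_type_zero M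
  obtain ⟨θ, hθ⟩ := h L' M' _ _ _ _ (h1.of_equiv e (MulEquiv.refl X)) (h2.of_equiv e' (MulEquiv.refl X))
  refine ⟨(e.trans θ).trans e'.symm, fun x => ?_⟩
  have := hθ (e x)
  simpa using this

/-- no perfect central extension by an elementary abelian group of order 4 -/
theorem false_of_klein {X : Type v} [Group X] (h : Uniq X) {K : Type u} [Group K] [Finite K]
    (hK : commutator K = ⊤) {f : K →* X} (hf : Function.Surjective f)
    (hZ : ∀ x, f x = 1 → ∀ g, x * g = g * x) {c y : K} (hc : f c = 1) (hyk : f y = 1) (hcc : c * c = 1)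
    (hyy : y * y = 1) (hc1 : c ≠ 1) (hy1 : y ≠ 1) (hcy : c ≠ y)
    (h4 : ∀ x, f x = 1 → x = 1 ∨ x = c ∨ x = y ∨ x = y * c) : False := by
  have hcomm : y * c = c * y := hZ y hyk c
  have h4' : ∀ x, f x = 1 → x = 1 ∨ x = y ∨ x = c ∨ x = c * y := by
    intro x hx
    rcases h4 x hx with h | h | h | h
    · left; exact h
    · right; right; left; exact h
    · right; left; exact h
    · right; right; right; rw [h, hcomm]
  obtain ⟨N, hn, hle, hmem, hd⟩ := dbl_quot hK hf hZ (c := c) (y := y) hc hyk hcc ⟨hy1, hcy.symm⟩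
    (Or.inl hyy) h4
  obtain ⟨M, hm, hle', hmem', hd'⟩ := dbl_quot hK hf hZ (c := y) (y := c) hyk hc hyy ⟨hc1, hcy⟩
    (Or.inl hcc) h4'
  obtain ⟨θ, hθ⟩ := h.uniq' hd hd'
  have heq : QuotientGroup.mk' M = θ.toMonoidHom.comp (QuotientGroup.mk' N) := by
    refine hom_eq_of_perfect hK (π := QuotientGroup.lift M f hle') (fun x hx g => ?_) (fun k => ?_)
    · rcases (hd'.ker x).1 hx with rfl | rfl
      · rw [one_mul, mul_one]
      · exact hd'.cen g
    · show f k = _
      exact (hθ (QuotientGroup.mk' N k)).symm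
  have h5 : QuotientGroup.mk' M c = 1 := by
    rw [heq]
    show θ (QuotientGroup.mk' N c) = 1
    rw [show QuotientGroup.mk' N c = 1 from (QuotientGroup.eq_one_iff c).2 ((hmem c).2 (Or.inr rfl)), map_one]
  rcases (hmem' c).1 ((QuotientGroup.eq_one_iff c).1 h5) with h6 | h6
  · exact hc1 h6
  · exact hcy h6

/-- A homomorphism of the double cover `K` of `X` lifts if `Uniq X` and the central involution lifts to an involution. -/
theorem exists_lift_of_uniq {X : Type*} [Group X] (h : Uniq X) {K : Type u} {L : Type v} {G : Type w} [Group K]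
    [Finite K] [Group L] [Finite L] [Group G] {ρ : K →* X} {τ : K} (hρ : Dbl ρ τ) (ψ : K →* G) {π : L →* G} {c : L}
    (hd : Dbl π c) {t : L} (ht : π t = ψ τ) (htt : t * t = 1) : ∃ s : K →* L, ∀ k, π (s k) = ψ k := by
  rcases lift_or_dbl hρ.perf ψ hd with h1 | h1
  · exact h1
  exfalso
  let y : P ψ π := ⟨(τ, t), by rw [mem_P, ht]⟩
  have hf : Function.Surjective (ρ.comp (pr ψ π)) := hρ.surj.comp h1.surj
  have hyy : y * y = 1 := Subtype.ext (Prod.ext hρ.sq htt)
  have hcen : ∀ g, y * g = g * y := by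
    -- conjugation by `y` is the identity
    have h2 := hom_eq_of_perfect (K := P ψ π) (L := P ψ π) h1.perf (π := pr ψ π) (fun x hx g => by
      rcases (h1.ker x).1 hx with rfl | rfl
      · rw [one_mul, mul_one]
      · exact h1.cen g) (f := (MulAut.conj y).toMonoidHom) (g := MonoidHom.id _) (fun k => by
        show pr ψ π (y * k * y⁻¹) = pr ψ π k
        rw [map_mul, map_mul, map_inv]
        show τ * pr ψ π k * τ⁻¹ = pr ψ π k
        rw [hρ.cen, mul_inv_cancel_right])
    intro g
    have h3 : y * g * y⁻¹ = g := congrArg (fun f : P ψ π →* P ψ π => f g) h2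
    exact mul_inv_eq_iff_eq_mul.1 h3
  have h4 : ∀ x, (ρ.comp (pr ψ π)) x = 1 → x = 1 ∨ x = cP ψ hd ∨ x = y ∨ x = y * cP ψ hd := by
    intro x hx
    rcases (hρ.ker _).1 hx with h2 | h2
    · rcases (h1.ker x).1 h2 with h3 | h3
      · exact Or.inl h3
      · exact Or.inr (Or.inl h3)
    · have h3 : pr ψ π (y⁻¹ * x) = 1 := by
        rw [map_mul, map_inv, h2]
        show τ⁻¹ * τ = 1
        rw [inv_mul_cancel]
      rcases (h1.ker _).1 h3 with h5 | h5
      · right; right; left
        exact (inv_mul_eq_one.1 h5).symm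
      · right; right; right
        exact inv_mul_eq_iff_eq_mul.1 h5
  refine false_of_klein h h1.perf hf ?_ (c := cP ψ hd) (y := y) ?_ ?_ h1.sq hyy h1.ne ?_ ?_ h4
  · intro x hx g
    rcases h4 x hx with rfl | rfl | rfl | rfl
    · rw [one_mul, mul_one]
    · exact h1.cen g
    · exact hcen g
    · calc y * cP ψ hd * g = y * (cP ψ hd * g) := mul_assoc _ _ _
        _ = y * (g * cP ψ hd) := by rw [h1.cen]
        _ = (y * g) * cP ψ hd := (mul_assoc _ _ _).symm
        _ = (g * y) * cP ψ hd := by rw [hcen]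
        _ = g * (y * cP ψ hd) := mul_assoc _ _ _
  · show ρ 1 = 1
    exact map_one ρ
  · show ρ τ = 1
    exact (hρ.ker τ).2 (Or.inr rfl)
  · intro h5
    exact hρ.ne (congrArg (fun p : P ψ π => p.1.1) h5)
  · intro h5
    exact hρ.ne (congrArg (fun p : P ψ π => p.1.1) h5).symm

end Cfsg.Agent.KFacts.MulLift
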