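import Cfsg.Agent.KFacts.SuzOut
set_option linter.all false

/-!
# The subgroup `L = ⟨a, b, c, f, g⟩ ≅ L₃(4)` of the Suzuki group

`L` centralises the involution `e` of class 2B and the element `x0` of order 3; `V = {1, e, e1, e2}` is a four-group
permuted by `x0`; `C_K(L) = V⟨x0⟩` has order 12.
-/

set_option autoImplicit false
set_option maxRecDepth 100000
set_option exponentiation.threshold 4000

namespace Cfsg.Agent.KFacts.SuzLFour

open Cfsg.Spor Cfsg.Agent.Lib.PermNet Cfsg.Agent.Lib.PermNetOrbit Cfsg.Agent.SporadicRecognition.SuzPhi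
  Cfsg.Agent.SporadicRecognition.SuzBound Cfsg.Agent.SporadicRecognition.SuzOrder
  Cfsg.Agent.SuzThree.Nets Cfsg.Agent.SuzThree.Basic Cfsg.Agent.SuzThree.Elts
  Cfsg.Agent.SuzThree.Elementary Cfsg.Agent.SuzThree.CentA Cfsg.Agent.SuzThree.CentB
  Cfsg.Agent.SuzThree.QZero Cfsg.Agent.KFacts.SuzCent

/-! ### The group `L` -/

/-- the generators -/
def gl : List (List Suz.Gen) := [[.a], [.b], [.c], [.f], [.g]]

/-- the group `L₃(4)` -/
noncomputable def L : Subgroup Suz := cl gl

/-- letters of `L` -/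
def isL : Suz.Gen → Bool
  | .d => false
  | .e => false
  | _ => true

theorem gen_mem_L {x : Suz.Gen} (h : isL x = true) : el [x] ∈ L := by
  apply el_mem_cl
  cases x <;> first | (exact absurd h (by decide)) | simp [gl]

theorem word_mem_L {w : List Suz.Gen} (h : w.all isL = true) : el w ∈ L := by
  induction w with
  | nil => exact L.one_mem
  | cons x w ih =>
    rw [List.all_cons, Bool.and_eq_true] at h
    rw [el_cons]
    exact L.mul_mem (gen_mem_L h.1) (ih h.2)

theorem words_mem {ws : List (List Suz.Gen)} (h : ws.all (fun w => w.all isL) = true) :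
    ∀ w ∈ ws, el w ∈ L := by
  intro w hw
  rw [List.all_eq_true] at h
  exact word_mem_L (h w hw)

/-- generators of the stabiliser of 0 and 1 -/
def gl2 : List (List Suz.Gen) := [[.a], [.c], [.f], [.b, .f, .a, .b, .a, .b]]
/-- generators of the stabiliser of 0, 1 and 5 -/
def gl3 : List (List Suz.Gen) := [[.b, .f, .a, .b, .a, .b]]

theorem card_mul_L : 20160 * Nat.card (stabL (φS L) [2, 5, 1, 0]) ≤ Nat.card L := by
  have hA : 21 * Nat.card (stabL (φS L) [0]) ≤ Nat.card (stabL (φS L) []) :=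
    stabL_step_of_check (φS L) (k := 11) (ws := gl.map wd) [] 0 21 8 (wsokS _)
      (himgS (words_mem (by decide))) (by decide +kernel) (by decide +kernel) (by decide +kernel)
  have hB : 20 * Nat.card (stabL (φS L) [1, 0]) ≤ Nat.card (stabL (φS L) [0]) :=
    stabL_step_of_check (φS L) (k := 11) (ws := [[Suz.Gen.a], [.b], [.c], [.f]].map wd) [0] 1 20 10 (wsokS _)
      (himgS (words_mem (by decide))) (by decide +kernel) (by decide +kernel) (by decide +kernel)
  have hC : 16 * Nat.card (stabL (φS L) [5, 1, 0]) ≤ Nat.card (stabL (φS L) [1, 0]) :=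
    stabL_step_of_check (φS L) (k := 11) (ws := gl2.map wd) [1, 0] 5 16 10 (wsokS _)
      (himgS (words_mem (by decide))) (by decide +kernel) (by decide +kernel) (by decide +kernel)
  have hD : 3 * Nat.card (stabL (φS L) [2, 5, 1, 0]) ≤ Nat.card (stabL (φS L) [5, 1, 0]) :=
    stabL_step_of_check (φS L) (k := 11) (ws := gl3.map wd) [5, 1, 0] 2 3 3 (wsokS _)
      (himgS (words_mem (by decide))) (by decide +kernel) (by decide +kernel) (by decide +kernel)
  have h0 : Nat.card (stabL (φS L) []) ≤ Nat.card L :=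
    Nat.card_le_card_of_injective _ (Subtype.val_injective)
  omega

theorem card_L_ge : 20160 ≤ Nat.card L := by
  have h1 := card_mul_L
  have h2 : 0 < Nat.card (stabL (φS L) [2, 5, 1, 0]) := Nat.card_pos
  omega

/-- commuting words -/
theorem comm_of {v w : List Suz.Gen} (h : checkEq 11 (wd (v ++ w)) (wd (w ++ v)) = true) :
    el v * el w = el w * el v := by
  rw [← el_append, ← el_append]
  exact eq_of_reps (Rep.el _) (Rep.el _) h

theorem eq_of {v w : List Suz.Gen} (h : checkEq 11 (wd v) (wd w) = true) : el v = el w :=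
  eq_of_reps (Rep.el _) (Rep.el _) h

/-- the involution of class 2B -/
noncomputable def e0 : Suz := el [.e]

/-- the element of order 3 -/
noncomputable def x0 : Suz := el w0

theorem mem_cent {g : Suz} (h : ∀ w ∈ gl, g * el w = el w * g) : ∀ l ∈ L, g * l = l * g := by
  have h1 : L ≤ Subgroup.centralizer ({g} : Set Suz) := by
    apply cl_le
    intro w hw
    rw [Subgroup.mem_centralizer_singleton_iff]
    exact (h w hw).symm
  intro l hl
  exact (Subgroup.mem_centralizer_singleton_iff.1 (h1 hl)).symm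

theorem e0_comm : ∀ l ∈ L, e0 * l = l * e0 := by
  apply mem_cent
  intro w hw
  simp only [gl, List.mem_cons, List.not_mem_nil, or_false] at hw
  rcases hw with rfl | rfl | rfl | rfl | rfl <;> exact comm_of (by decide +kernel)

theorem x0_comm : ∀ l ∈ L, x0 * l = l * x0 := by
  apply mem_cent
  intro w hw
  simp only [gl, List.mem_cons, List.not_mem_nil, or_false] at hw
  rcases hw with rfl | rfl | rfl | rfl | rfl <;> exact comm_of (by decide +kernel)

theorem x0_cube : x0 * x0 * x0 = 1 := by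
  have h := p0
  rw [x0_eq] at h
  rw [x0, ← h, pow_succ, pow_two]

theorem x0_inv : x0⁻¹ = x0 * x0 := by
  rw [inv_eq_iff_mul_eq_one, ← mul_assoc]; exact x0_cube

noncomputable def e1 : Suz := x0 * e0 * x0⁻¹
noncomputable def e2 : Suz := x0⁻¹ * e0 * x0

theorem e0_sq : e0 * e0 = 1 := gen_sq _

theorem e1_sq : e1 * e1 = 1 := by
  rw [e1]
  calc x0 * e0 * x0⁻¹ * (x0 * e0 * x0⁻¹) = x0 * (e0 * e0) * x0⁻¹ := by group
    _ = 1 := by rw [e0_sq]; group

theorem e2_sq : e2 * e2 = 1 := by
  rw [e2]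
  calc x0⁻¹ * e0 * x0 * (x0⁻¹ * e0 * x0) = x0⁻¹ * (e0 * e0) * x0 := by group
    _ = 1 := by rw [e0_sq]; group

theorem e2_eq : e2 = x0 * x0 * e0 * (x0 * x0)⁻¹ := by
  rw [← x0_inv, inv_inv, e2]

theorem e1_eq : e1 = el (w0 ++ [.e] ++ w0.reverse) := by
  rw [e1, el_append, el_append, el_reverse]; rfl

theorem e2_eq' : e2 = el (w0.reverse ++ [.e] ++ w0) := by
  rw [e2, el_append, el_append, el_reverse]; rfl

theorem e01 : e0 * e1 = e2 := by
  rw [e1_eq, e2_eq', e0, ← el_append]
  exact eq_of (by decide +kernel)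

theorem e10 : e1 * e0 = e2 := by
  have h := congrArg (fun x => x⁻¹) e01
  simp only [mul_inv_rev] at h
  have i0 : e0⁻¹ = e0 := inv_eq_of_mul_eq_one_left e0_sq
  have i1 : e1⁻¹ = e1 := inv_eq_of_mul_eq_one_left e1_sq
  have i2 : e2⁻¹ = e2 := inv_eq_of_mul_eq_one_left e2_sq
  rwa [i0, i1, i2] at h

theorem e02 : e0 * e2 = e1 := by rw [← e01, ← mul_assoc, e0_sq, one_mul]
theorem e20 : e2 * e0 = e1 := by rw [← e10, mul_assoc, e0_sq, mul_one]
theorem e12 : e1 * e2 = e0 := by rw [← e10, ← mul_assoc, e1_sq, one_mul]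
theorem e21 : e2 * e1 = e0 := by rw [← e01, mul_assoc, e1_sq, mul_one]

/-- a word moving a point is not trivial -/
theorem ne_one_of {w : List Suz.Gen} (p : ℕ) (h : mv (wd w) p p = false) : el w ≠ 1 := by
  intro h1
  have h5 : mv (wd w) p p = true := by
    unfold mv
    rw [Nat.beq_eq]
    show appWord (wd w) (2 ^ p) = 2 ^ p
    apply Nat.eq_of_testBit_eq
    intro i
    have h6 : φ (el w) = 1 := by rw [h1, map_one φ]
    rw [testBit_appWord (wd_ok w), ← φ_el w, Nat.testBit_two_pow, Nat.testBit_two_pow, h6]; rfl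
  rw [h] at h5
  exact absurd h5 (by decide)

theorem e0_ne : e0 ≠ 1 := ne_one_of 8 (by decide +kernel)

theorem x0_ne : x0 ≠ 1 := ne_one_of 14 (by decide +kernel)

/-- `x0` does not commute with `e` -/
theorem e1_ne : e1 ≠ e0 := by
  intro h
  have h1 : e2 = 1 := by rw [← e01, h, e0_sq]
  rw [e2] at h1
  have h2 : e0 = 1 := by
    calc e0 = x0 * (x0⁻¹ * e0 * x0) * x0⁻¹ := by group
      _ = 1 := by rw [h1]; group
  exact e0_ne h2

theorem e1_ne1 : e1 ≠ 1 := by
  intro h
  rw [e1] at h
  apply e0_ne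
  calc e0 = x0⁻¹ * (x0 * e0 * x0⁻¹) * x0 := by group
    _ = 1 := by rw [h]; group

theorem e2_ne1 : e2 ≠ 1 := by
  intro h
  rw [e2] at h
  apply e0_ne
  calc e0 = x0 * (x0⁻¹ * e0 * x0) * x0⁻¹ := by group
    _ = 1 := by rw [h]; group

theorem e2_ne : e2 ≠ e0 := by
  intro h
  apply e1_ne1
  rw [← e20, h, e0_sq]

theorem e12_ne : e1 ≠ e2 := by
  intro h
  apply e0_ne
  rw [← e12, h, e2_sq]

/-- the four-group -/
noncomputable def V : Subgroup Suz where
  carrier := {x | x = 1 ∨ x = e0 ∨ x = e1 ∨ x = e2}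
  one_mem' := Or.inl rfl
  mul_mem' := by
    rintro x y (rfl | rfl | rfl | rfl) (rfl | rfl | rfl | rfl)
    · left; rw [one_mul]
    · right; left; rw [one_mul]
    · right; right; left; rw [one_mul]
    · right; right; right; rw [one_mul]
    · right; left; rw [mul_one]
    · left; exact e0_sq
    · right; right; right; exact e01
    · right; right; left; exact e02
    · right; right; left; rw [mul_one]
    · right; right; right; exact e10
    · left; exact e1_sq
    · right; left; exact e12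
    · right; right; right; rw [mul_one]
    · right; right; left; exact e20
    · right; left; exact e21
    · left; exact e2_sq
  inv_mem' := by
    rintro x (rfl | rfl | rfl | rfl)
    · left; rw [inv_one]
    · right; left; exact inv_eq_of_mul_eq_one_left e0_sq
    · right; right; left; exact inv_eq_of_mul_eq_one_left e1_sq
    · right; right; right; exact inv_eq_of_mul_eq_one_left e2_sq

theorem mem_V {x : Suz} : x ∈ V ↔ x = 1 ∨ x = e0 ∨ x = e1 ∨ x = e2 := Iff.rfl

theorem V_comm : ∀ v ∈ V, ∀ l ∈ L, v * l = l * v := by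
  have h1 : ∀ l ∈ L, e1 * l = l * e1 := by
    intro l hl
    have hx := x0_comm l hl
    have he := e0_comm l hl
    have hx' : x0⁻¹ * l = l * x0⁻¹ := by
      rw [inv_mul_eq_iff_eq_mul, ← mul_assoc, hx, mul_assoc, mul_inv_cancel, mul_one]
    rw [e1, mul_assoc, hx', ← mul_assoc, mul_assoc x0, he, ← mul_assoc, hx, mul_assoc, mul_assoc, mul_assoc]
  have h2 : ∀ l ∈ L, e2 * l = l * e2 := by
    intro l hl
    rw [← e01, mul_assoc, h1 l hl, ← mul_assoc, e0_comm l hl, mul_assoc]
  rintro v (rfl | rfl | rfl | rfl) l hl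
  · rw [one_mul, mul_one]
  · exact e0_comm l hl
  · exact h1 l hl
  · exact h2 l hl

theorem V_abel : ∀ v ∈ V, ∀ w ∈ V, v * w = w * v := by
  rintro v (rfl | rfl | rfl | rfl) w (rfl | rfl | rfl | rfl) <;>
    first | rfl | rw [one_mul, mul_one] | rw [mul_one, one_mul] | rw [e01, e10] | rw [e10, e01] |
      rw [e02, e20] | rw [e20, e02] | rw [e12, e21]

theorem card_V : Nat.card V = 4 := by
  classical
  have h : (V : Set Suz) = ({1, e0, e1, e2} : Finset Suz) := by
    ext x
    simp only [Finset.coe_insert, Finset.coe_singleton, Set.mem_insert_iff, Set.mem_singleton_iff]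
    exact Iff.rfl
  have h2 : Nat.card V = Nat.card ((V : Set Suz)) := rfl
  rw [h2, h, Nat.card_coe_set_eq, Set.ncard_coe_finset]
  rw [Finset.card_insert_of_notMem, Finset.card_insert_of_notMem, Finset.card_insert_of_notMem,
    Finset.card_singleton]
  · rw [Finset.mem_singleton]; exact e12_ne
  · rw [Finset.mem_insert, Finset.mem_singleton]
    rintro (h | h)
    · exact e1_ne h.symm
    · exact e2_ne h.symm
  · rw [Finset.mem_insert, Finset.mem_insert, Finset.mem_singleton]
    rintro (h | h | h)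
    · exact e0_ne h.symm
    · exact e1_ne1 h.symm
    · exact e2_ne1 h.symm

/-! ### `L` is perfect -/

theorem pow_three_of {v w : List Suz.Gen}
    (h : checkEq 11 (wd (v ++ w ++ (v ++ w) ++ (v ++ w))) [] = true) : (el v * el w) ^ 3 = 1 := by
  have h1 : el (v ++ w ++ (v ++ w) ++ (v ++ w)) = 1 := eq_of_reps (Rep.el _) Rep.one h
  rw [el_append, el_append, el_append] at h1
  rw [pow_succ, pow_two]; exact h1

/-- every homomorphism of `L` to an abelian group is trivial -/
theorem hom_trivial {A : Type*} [CommGroup A] (f : L →* A) (u : L) : f u = 1 := by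
  let g : Suz.Gen → L := fun x => if h : isL x = true then ⟨el [x], gen_mem_L h⟩ else 1
  have hg : ∀ x, isL x = true → ((g x : L) : Suz) = el [x] := by
    intro x hx
    show ((dite _ _ _ : L) : Suz) = _
    rw [dif_pos hx]
  have hsq : ∀ x, isL x = true → f (g x) * f (g x) = 1 := by
    intro x hx
    rw [← map_mul]
    have : g x * g x = 1 := Subtype.ext (by
      rw [Subgroup.coe_mul, hg x hx]; exact gen_sq x)
    rw [this, map_one]
  have h3 : ∀ x y, isL x = true → isL y = true → (el [x] * el [y]) ^ 3 = 1 → f (g x) = f (g y) := by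
    intro x y hx hy h
    have e : (g x * g y) ^ 3 = 1 := Subtype.ext (by
      rw [Subgroup.coe_pow, Subgroup.coe_mul, hg x hx, hg y hy]; exact h)
    have h1 : f (g x * g y) ^ 3 = 1 := by rw [← map_pow, e, map_one]
    rw [map_mul] at h1
    have h2 : f (g x) * f (g y) = 1 := by
      have h4 : (f (g x) * f (g y)) ^ 2 = 1 := by
        rw [pow_two, mul_mul_mul_comm, hsq x hx, hsq y hy, one_mul]
      calc f (g x) * f (g y) = (f (g x) * f (g y)) ^ 3 * ((f (g x) * f (g y)) ^ 2)⁻¹ := by group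
        _ = 1 := by rw [h1, h4, inv_one, one_mul]
    have h5 := hsq y hy
    calc f (g x) = f (g x) * f (g y) * (f (g y))⁻¹ := by group
      _ = (f (g y))⁻¹ := by rw [h2, one_mul]
      _ = f (g y) := inv_eq_of_mul_eq_one_left h5
  have hbc := h3 .b .c rfl rfl (pow_three_of (v := [.b]) (w := [.c]) (by decide +kernel))
  have hbf := h3 .b .f rfl rfl (pow_three_of (v := [.b]) (w := [.f]) (by decide +kernel))
  have hbg := h3 .b .g rfl rfl (pow_three_of (v := [.b]) (w := [.g]) (by decide +kernel))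
  -- `(b f g) ^ 5 = 1`
  have h5 : (g .b * g .f * g .g) ^ 5 = 1 := Subtype.ext (by
    rw [Subgroup.coe_pow, Subgroup.coe_mul, Subgroup.coe_mul, hg .b rfl, hg .f rfl, hg .g rfl]
    have h1 : el ([.b, .f, .g] ++ [.b, .f, .g] ++ [.b, .f, .g] ++ [.b, .f, .g] ++ [.b, .f, .g]) = 1 :=
      eq_of_reps (Rep.el _) Rep.one (by decide +kernel)
    rw [el_append, el_append, el_append, el_append] at h1
    have h2 : el [.b, .f, .g] = el [.b] * el [.f] * el [.g] := by
      rw [← el_append, ← el_append]; rfl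
    rw [h2] at h1
    rw [pow_succ, pow_succ, pow_succ, pow_two]
    exact h1)
  have hb : f (g .b) = 1 := by
    have h1 : f (g .b * g .f * g .g) ^ 5 = 1 := by rw [← map_pow, h5, map_one]
    rw [map_mul, map_mul, ← hbf, ← hbg, hsq .b rfl, one_mul] at h1
    calc f (g .b) = f (g .b) ^ 5 * ((f (g .b) * f (g .b)) * (f (g .b) * f (g .b)))⁻¹ := by group
      _ = 1 := by rw [h1, hsq .b rfl]; group
  -- `a = (f g)^2`
  have ha : f (g .a) = 1 := by
    have h1 : g .a = g .f * g .g * (g .f * g .g) := Subtype.ext (by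
      rw [Subgroup.coe_mul, Subgroup.coe_mul, hg .a rfl, hg .f rfl, hg .g rfl, ← el_append, ← el_append]
      exact eq_of (by decide +kernel))
    rw [h1, map_mul, map_mul, ← hbf, ← hbg, hb]
    simp
  have hgen : ∀ x, isL x = true → f (g x) = 1 := by
    intro x hx
    cases x
    · exact ha
    · exact hb
    · rw [← hbc]; exact hb
    · exact absurd hx (by decide)
    · exact absurd hx (by decide)
    · rw [← hbf]; exact hb
    · rw [← hbg]; exact hb
  -- conclusion
  have hle : L ≤ (f.ker).map L.subtype := by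
    apply cl_le
    intro w hw
    simp only [gl, List.mem_cons, List.not_mem_nil, or_false] at hw
    rcases hw with rfl | rfl | rfl | rfl | rfl
    · exact ⟨g .a, hgen .a rfl, hg .a rfl⟩
    · exact ⟨g .b, hgen .b rfl, hg .b rfl⟩
    · exact ⟨g .c, hgen .c rfl, hg .c rfl⟩
    · exact ⟨g .f, hgen .f rfl, hg .f rfl⟩
    · exact ⟨g .g, hgen .g rfl, hg .g rfl⟩
  obtain ⟨v, hv, hvu⟩ := hle u.2
  have : v = u := Subtype.ext hvu
  rw [← this]
  exact hv

theorem perfect : commutator L = ⊤ := by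
  rw [eq_top_iff]
  intro u _
  have h := hom_trivial (Abelianization.of (G := L)) u
  rwa [← MonoidHom.mem_ker, Abelianization.ker_of] at h

theorem perfect' : ⁅L, L⁆ = L := by
  have h := perfect
  rw [commutator_def] at h
  have h2 := congrArg (Subgroup.map L.subtype) h
  rw [Subgroup.map_commutator, ← MonoidHom.range_eq_map, Subgroup.range_subtype] at h2
  exact h2

/-! ### `C_K(L)` -/

/-- the only point fixed by `a`, `b`, `f` is 0 -/
theorem chk_abf : Nat.beq (Nat.lor (Nat.lor (moved 11 (wd [.a]) 11) (moved 11 (wd [.b]) 11))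
    (Nat.lor (moved 11 (wd [.f]) 11) 1)) U0 = true := by decide +kernel

/-- the only points fixed by `a`, `b`, `c` are 0 and 1575 -/
theorem chk_abc : Nat.beq (Nat.lor (Nat.lor (moved 11 (wd [.a]) 11) (moved 11 (wd [.b]) 11))
    (Nat.lor (moved 11 (wd [.c]) 11) (Nat.lor 1 (Nat.pow 2 1575)))) U0 = true := by decide +kernel

theorem moved_el {w : List Suz.Gen} {p : ℕ} (h : φ (el w) p = p) : (moved 11 (wd w) 11).testBit p = false := by
  rw [← Bool.not_eq_true]
  intro h1
  exact moved_spec (wd_ok w) h1 (by rw [← φ_el w]; exact h)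

theorem eq_zero_of {p : ℕ} (hp : p < 1782) (ha : φ (el [.a]) p = p) (hb : φ (el [.b]) p = p)
    (hf : φ (el [.f]) p = p) : p = 0 := by
  have h1 : ((moved 11 (wd [.a]) 11 ||| moved 11 (wd [.b]) 11) ||| (moved 11 (wd [.f]) 11 ||| 1)).testBit p = true := by
    have h2 : ((moved 11 (wd [.a]) 11 ||| moved 11 (wd [.b]) 11) ||| (moved 11 (wd [.f]) 11 ||| 1)) = U0 :=
      Nat.eq_of_beq_eq_true chk_abf
    rw [h2, U0_bits, decide_eq_true_eq]; exact hp
  rw [Nat.testBit_or, Nat.testBit_or, Nat.testBit_or, moved_el ha, moved_el hb, moved_el hf, Bool.false_or,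
    Bool.false_or, Bool.false_or, Nat.testBit_one_eq_true_iff_self_eq_zero] at h1
  exact h1

theorem eq_of_abc {p : ℕ} (hp : p < 1782) (ha : φ (el [.a]) p = p) (hb : φ (el [.b]) p = p)
    (hc : φ (el [.c]) p = p) : p = 0 ∨ p = 1575 := by
  have h1 : ((moved 11 (wd [.a]) 11 ||| moved 11 (wd [.b]) 11) |||
      (moved 11 (wd [.c]) 11 ||| (1 ||| 2 ^ 1575))).testBit p = true := by
    have h2 : ((moved 11 (wd [.a]) 11 ||| moved 11 (wd [.b]) 11) |||
      (moved 11 (wd [.c]) 11 ||| (1 ||| 2 ^ 1575))) = U0 := Nat.eq_of_beq_eq_true chk_abc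
    rw [h2, U0_bits, decide_eq_true_eq]; exact hp
  rw [Nat.testBit_or, Nat.testBit_or, Nat.testBit_or, Nat.testBit_or, moved_el ha, moved_el hb, moved_el hc,
    Bool.false_or, Bool.false_or, Bool.false_or, Bool.or_eq_true, Nat.testBit_one_eq_true_iff_self_eq_zero,
    Nat.testBit_two_pow, decide_eq_true_eq] at h1
  exact h1.imp_right Eq.symm

theorem fix_of_comm {g x : Suz} (h : g * x = x * g) {p : ℕ} (hp : φ x p = p) : φ x (φ g p) = φ g p := by
  rw [← Equiv.Perm.mul_apply, ← map_mul, ← h, map_mul, Equiv.Perm.mul_apply, hp]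

/-- elements centralising `L` fix 0, 1575, 1, 11 -/
theorem cent_fix {g : Suz} (hg : ∀ l ∈ L, g * l = l * g) : g ∈ stabL φ [11, 1, 1575, 0] := by
  have hm : ∀ x, isL x = true → g * el [x] = el [x] * g := fun x hx => hg _ (gen_mem_L hx)
  have fx : ∀ {x : Suz.Gen} {p : ℕ}, isL x = true → mv (wd [x]) p p = true → φ (el [x]) (φ g p) = φ g p :=
    fun hx h => fix_of_comm (hm _ hx) ((Rep.el _).pt h)
  have h0 : φ g 0 = 0 := eq_zero_of (φ_lt 0 (by norm_num)) (fx rfl (by decide +kernel)) (fx rfl (by decide +kernel))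
    (fx rfl (by decide +kernel))
  have h1575 : φ g 1575 = 1575 := by
    rcases eq_of_abc (φ_lt 1575 (by norm_num)) (fx (x := .a) rfl (by decide +kernel))
      (fx (x := .b) rfl (by decide +kernel)) (fx (x := .c) rfl (by decide +kernel)) with h | h
    · exfalso
      have h2 := (φ g).injective (h.trans h0.symm)
      omega
    · exact h
  have hw : ∀ (w : List Suz.Gen) (p : ℕ), w.all isL = true → mv (wd w) 0 p = true → φ g p = p := by
    intro w p hw hp
    have h1 : φ (el w) 0 = p := (Rep.el _).pt hp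
    have h2 := hg _ (word_mem_L hw)
    rw [← h1, ← Equiv.Perm.mul_apply, ← map_mul, h2, map_mul, Equiv.Perm.mul_apply, h0]
  intro q hq
  simp only [List.mem_cons, List.not_mem_nil, or_false] at hq
  rcases hq with rfl | rfl | rfl | rfl
  · exact hw [.b, .c, .a, .b, .g] 11 (by decide) (by decide +kernel)
  · exact hw [.g] 1 (by decide) (by decide +kernel)
  · exact h1575
  · exact h0

/-! ### The group `A₄ = V ⟨x0⟩` -/

/-- the orbit of 11 under the stabiliser of 0, 1575 and 1 -/
noncomputable def U4 : ℕ := sat (gc.map wd) 12 (Nat.pow 2 11)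

theorem clU4 : closedB (gc.map wd) U4 = true := by decide +kernel
theorem ltU4 : Nat.beq (Nat.shiftRight U4 (Nat.pow 2 11)) 0 = true := by decide +kernel
theorem pcU4 : Nat.beq (pc 11 U4) 160 = true := by decide +kernel

theorem card_stab4_le : Nat.card (stabL φ [11, 1, 1575, 0]) ≤ 12 := by
  have h1 : 160 * Nat.card (stabL φ [11, 1, 1575, 0]) ≤ Nat.card (stabL φ [1, 1575, 0]) :=
    stabL_step_of_check φ (k := 11) [1, 1575, 0] 11 160 12 (wsokS gc)
      (fun w hw => by
        obtain ⟨u, _, rfl⟩ := List.mem_map.1 hw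
        exact ⟨el u, φ_el u⟩) (by decide +kernel) (by decide +kernel) (by decide +kernel)
  rw [card_stab3_eq] at h1
  omega

theorem e0_stab : e0 ∈ stabL φ [11, 1, 1575, 0] := cent_fix e0_comm
theorem x0_stab : x0 ∈ stabL φ [11, 1, 1575, 0] := cent_fix x0_comm
theorem V_stab : V ≤ stabL φ [11, 1, 1575, 0] := fun v hv => cent_fix (V_comm v hv)

/-- an element fixing 11, 1, 1575, 0 and commuting with `e` is in `V` -/
theorem mem_V_of {g : Suz} (hg : g ∈ stabL φ [11, 1, 1575, 0]) (he : g * e0 = e0 * g) : g ∈ V := by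
  classical
  set S := stabL φ [11, 1, 1575, 0] with hS
  let D : Subgroup Suz := S ⊓ Subgroup.centralizer ({e0} : Set Suz)
  have hVD : V ≤ D := le_inf V_stab (fun v hv => by
    rw [Subgroup.mem_centralizer_singleton_iff]
    exact V_abel v hv e0 (mem_V.2 (Or.inr (Or.inl rfl))))
  -- three cosets
  have hx : ∀ d ∈ D, d * e0 = e0 * d := fun d hd => Subgroup.mem_centralizer_singleton_iff.1 hd.2
  have hinj : Function.Injective (fun p : Fin 3 × D => (⟨x0 ^ (p.1 : ℕ) * p.2, S.mul_mem (S.pow_mem x0_stab _) p.2.2.1⟩ : S)) := by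
    rintro ⟨i, d⟩ ⟨j, d'⟩ h
    have h1 : x0 ^ (i : ℕ) * (d : Suz) = x0 ^ (j : ℕ) * d' := congrArg Subtype.val h
    have key : ∀ (i j : Fin 3) (d d' : Suz), d * e0 = e0 * d → d' * e0 = e0 * d' →
        x0 ^ (i : ℕ) * d = x0 ^ (j : ℕ) * d' → i = j := by
      intro i j d d' hd hd' h
      have h2 : x0 ^ (i : ℕ) * e0 * (x0 ^ (i : ℕ))⁻¹ = x0 ^ (j : ℕ) * e0 * (x0 ^ (j : ℕ))⁻¹ := by
        calc x0 ^ (i : ℕ) * e0 * (x0 ^ (i : ℕ))⁻¹ = x0 ^ (i : ℕ) * (e0 * d) * d⁻¹ * (x0 ^ (i : ℕ))⁻¹ := by group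
          _ = (x0 ^ (i : ℕ) * d) * e0 * (x0 ^ (i : ℕ) * d)⁻¹ := by rw [← hd]; group
          _ = (x0 ^ (j : ℕ) * d') * e0 * (x0 ^ (j : ℕ) * d')⁻¹ := by rw [h]
          _ = x0 ^ (j : ℕ) * (d' * e0) * d'⁻¹ * (x0 ^ (j : ℕ))⁻¹ := by group
          _ = _ := by rw [hd']; group
      have c0 : x0 ^ ((0 : Fin 3) : ℕ) * e0 * (x0 ^ ((0 : Fin 3) : ℕ))⁻¹ = e0 := by simp
      have c1 : x0 ^ ((1 : Fin 3) : ℕ) * e0 * (x0 ^ ((1 : Fin 3) : ℕ))⁻¹ = e1 := by
        show x0 ^ 1 * e0 * (x0 ^ 1)⁻¹ = e1
        rw [pow_one]; rfl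
      have c2 : x0 ^ ((2 : Fin 3) : ℕ) * e0 * (x0 ^ ((2 : Fin 3) : ℕ))⁻¹ = e2 := by
        show x0 ^ 2 * e0 * (x0 ^ 2)⁻¹ = e2
        rw [pow_two, e2_eq]
      fin_cases i <;> fin_cases j <;> first | rfl | skip
      · exact absurd (c0.symm.trans (h2.trans c1)) (Ne.symm e1_ne)
      · exact absurd (c0.symm.trans (h2.trans c2)) (Ne.symm e2_ne)
      · exact absurd (c1.symm.trans (h2.trans c0)) e1_ne
      · exact absurd (c1.symm.trans (h2.trans c2)) e12_ne
      · exact absurd (c2.symm.trans (h2.trans c0)) e2_ne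
      · exact absurd (c2.symm.trans (h2.trans c1)) (Ne.symm e12_ne)
    have hij := key i j d d' (hx d d.2) (hx d' d'.2) h1
    subst hij
    have h3 : (d : Suz) = d' := mul_left_cancel h1
    rw [Subtype.ext h3]
  have hc := Nat.card_le_card_of_injective _ hinj
  rw [Nat.card_prod, Nat.card_eq_fintype_card, Fintype.card_fin] at hc
  have hc2 : Nat.card D ≤ 4 := by
    have h12 : Nat.card S ≤ 12 := card_stab4_le
    omega
  have hVD' : V = D := Subgroup.eq_of_le_of_card_ge hVD (by rw [card_V]; exact hc2)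
  rw [hVD']
  exact ⟨hg, Subgroup.mem_centralizer_singleton_iff.2 he⟩

/-- elements of `C(e)` centralising `L` are in `V` -/
theorem cent_L {g : Suz} (hg : ∀ l ∈ L, g * l = l * g) (he : g * e0 = e0 * g) : g ∈ V :=
  mem_V_of (cent_fix hg) he

end Cfsg.Agent.KFacts.SuzLFour
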